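/-
Subgroups of the projective group of a plane with two seven-elements without a common axis.
-/
import Cfsg.Agent.Lib.SingerSeven.LineTwo

set_option autoImplicit false
set_option linter.unusedSectionVars false
set_option linter.style.haveILetI false
set_option maxHeartbeats 800000

namespace CfsgLib.MaxSub.HeisSeven

open Matrix
open CfsgLib.PSL2 (mk_eq_mk)

local notation "pmk" => CfsgLib.PSL2.mk

variable {F : Type*} [Field F]

local notation "M2" => Matrix (Fin 2) (Fin 2) F
local notation "SL" => Matrix.SpecialLinearGroup (Fin 2) F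
local notation "PSL" => Matrix.ProjectiveSpecialLinearGroup (Fin 2) F

/-- No proper subfield whose projective group contains a seven-element. -/
def NoSub (F : Type*) [Field F] [Fintype F] : Prop :=
  ∀ Q m : ℕ, 3 ≤ Q → 2 ≤ m → Q ^ m = Fintype.card F → ¬ 7 ∣ Q * (Q ^ 2 - 1)

theorem inv_ne_of_seven {z : F} (hz : z ^ 7 = 1) (hz1 : z ≠ 1) : z * z ≠ 1 := fun e => hz1 (by
  linear_combination hz - z * ((z * z) ^ 2 + z * z + 1) * e)

theorem inv_ne_neg_of_seven {z : F} (hz : z ^ 7 = 1) (hz1 : z ≠ 1) : z * z ≠ -1 := fun e => hz1 (by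
  have h4 : z ^ 4 = 1 := by linear_combination (z * z - 1) * e
  have h3 : z ^ 3 = 1 := by linear_combination hz - z ^ 3 * h4
  linear_combination h4 - z * h3)

theorem mul_self_zero_of_nilpotent {N : M2} (h : IsNilpotent N) : N * N = 0 := by
  have := Matrix.isNilpotent_charpoly_sub_pow_of_isNilpotent h
  rw [isNilpotent_iff_eq_zero, sub_eq_zero, Fintype.card_fin] at this
  have hC := Matrix.aeval_self_charpoly N
  rw [this, map_pow, Polynomial.aeval_X, pow_two] at hC
  exact hC

variable [Fintype F] {p : ℕ} [Fact p.Prime] [CharP F p]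

/-- An element of order `p` gives a square-zero matrix that the Borel subgroup moves into its centraliser. -/
theorem exists_nilpotent {u : PSL} (hu : orderOf u = p) : ∃ N : M2, N ≠ 0 ∧ N * N = 0 ∧
    ∀ Y : SL, (pmk Y : PSL) ∈ DicksonFull.bor u →
      (Y.1 * N * Y.1.adjugate) * N = N * (Y.1 * N * Y.1.adjugate) := by
  obtain ⟨U, rfl⟩ := QuotientGroup.mk'_surjective _ u
  have hp := (Fact.out : p.Prime)
  have hU1 : (pmk U : PSL) ≠ 1 := fun e => hp.one_lt.ne' (by
    rw [← orderOf_one (G := PSL), ← e]; exact hu.symm)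
  have hcc : ∀ Y : SL, (pmk Y : PSL) ∈ DicksonFull.bor (pmk U : PSL) →
      (pmk (Y * U * Y⁻¹ * U) : PSL) = pmk (U * (Y * U * Y⁻¹)) := by
    intro Y hY
    have hc : Commute (pmk (Y * U * Y⁻¹) : PSL) (pmk U) := by
      have := (Subgroup.mem_normalizer_iff.1 hY _).1 (DicksonFull.self_mem_cent (pmk U : PSL))
      rw [map_mul, map_mul, map_inv]
      exact DicksonFull.mem_cent.1 this
    rw [map_mul, map_mul pmk U]
    exact hc
  have hconj : ∀ (Y : SL) (A : M2), Y.1 * (A - 1) * Y.1.adjugate = Y.1 * A * Y.1.adjugate - 1 := by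
    intro Y A
    rw [Matrix.mul_sub, Matrix.sub_mul, Matrix.mul_one, Matrix.mul_adjugate, Y.2, one_smul]
  have hp1 : (pmk U : PSL) ^ p = 1 := hu ▸ pow_orderOf_eq_one _
  rw [← map_pow, ← map_one pmk, mk_eq_mk, Matrix.SpecialLinearGroup.coe_pow] at hp1
  by_cases h2 : p = 2
  · -- characteristic two
    haveI : CharP F 2 := h2 ▸ inferInstance
    haveI : CharP M2 2 := inferInstance
    have hneg : ∀ A : M2, -A = A := fun A => by ext i j; simp [CharTwo.neg_eq]
    have hN2 : (U.1 - 1) * (U.1 - 1) = 0 := by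
      have e : U.1 ^ 2 = 1 := by
        subst h2
        rcases hp1 with e | e
        · simpa using e.symm
        · simpa [hneg] using e.symm
      rw [← pow_two, sub_pow_char_of_commute 2 (Commute.one_right _), e, one_pow, sub_self]
    refine ⟨U.1 - 1, fun e => hU1 ?_, hN2, fun Y hY => ?_⟩
    · rw [show U = 1 from Subtype.ext (sub_eq_zero.1 e), map_one]
    · have e := mk_eq_mk.1 (hcc Y hY)
      simp only [Matrix.SpecialLinearGroup.coe_mul, Matrix.SpecialLinearGroup.coe_inv, hneg, or_self] at e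
      rw [hconj]
      exact ((Commute.sub_left e.symm (Commute.one_left _)).sub_right (Commute.one_right _))
  set N : M2 := U.1 * U.1 - 1 with hN
  have hNne : N ≠ 0 := fun e => by
    have : (pmk U : PSL) ^ 2 = 1 := by
      rw [← map_pow, show U ^ 2 = 1 from Subtype.ext (by
        rw [Matrix.SpecialLinearGroup.coe_pow, pow_two]; exact sub_eq_zero.1 e), map_one]
    have := orderOf_dvd_of_pow_eq_one this
    rw [hu] at this
    have := (Nat.prime_dvd_prime_iff_eq hp Nat.prime_two).1 this
    exact h2 this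
  have hN2 : N * N = 0 := by
    have hsq : (U.1 * U.1) ^ p = 1 := by
      rw [← pow_two, ← pow_mul, mul_comm, pow_mul, pow_two]
      rcases hp1 with e | e
      · rw [← e]; simp
      · have e' : U.1 ^ p = -1 := by
          rw [← neg_eq_iff_eq_neg]
          simpa using e.symm
        rw [e', neg_mul_neg, one_mul]
    exact mul_self_zero_of_nilpotent
      ⟨p, by rw [hN, sub_pow_char_of_commute p (Commute.one_right _), hsq, one_pow, sub_self]⟩
  refine ⟨N, hNne, hN2, fun Y hY => ?_⟩
  have hs : ∀ A B : M2, B * A = A * B ∨ B * A = -(A * B) → Commute (A * A) B := by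
    intro A B e'
    show A * A * B = B * (A * A)
    rcases e' with e' | e'
    · rw [← Matrix.mul_assoc B, e', Matrix.mul_assoc A B, e', Matrix.mul_assoc]
    · rw [← Matrix.mul_assoc B, e', Matrix.neg_mul, Matrix.mul_assoc A B, e', Matrix.mul_neg, neg_neg,
        Matrix.mul_assoc]
  have e := mk_eq_mk.1 (hcc Y hY)
  simp only [Matrix.SpecialLinearGroup.coe_mul, Matrix.SpecialLinearGroup.coe_inv] at e
  have h3 := hs _ _ e
  have h4 : Y.1 * N * Y.1.adjugate = (Y.1 * U.1 * Y.1.adjugate) * (Y.1 * U.1 * Y.1.adjugate) - 1 := by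
    rw [hN, hconj, show Y.1 * U.1 * Y.1.adjugate * (Y.1 * U.1 * Y.1.adjugate) =
      Y.1 * (U.1 * (Y.1.adjugate * Y.1) * U.1) * Y.1.adjugate by simp only [Matrix.mul_assoc],
      Matrix.adjugate_mul, Y.2, one_smul, Matrix.mul_one]
  rw [h4, hN]
  exact ((h3.mul_right h3).sub_right (Commute.one_right _)).sub_left (Commute.one_left _)

include p in
/-- Two seven-elements without a common axis generate the whole projective group. -/
theorem plane_top (hq : NoSub F) {z : F} (hz : z ^ 7 = 1) (hz1 : z ≠ 1) {D E : SL}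
    (hD : D.1 = diagonal ![z, z⁻¹]) (hE : E ^ 7 = 1) (hE01 : E.1 0 1 ≠ 0) (hE10 : E.1 1 0 ≠ 0)
    {X : Subgroup PSL} (hDX : (pmk D : PSL) ∈ X) (hEX : (pmk E : PSL) ∈ X) : X = ⊤ := by
  classical
  have hz0 : z ≠ 0 := fun e => zero_ne_one (α := F) (by rw [← hz, e, zero_pow (by norm_num : (7 : ℕ) ≠ 0)])
  have hzz := inv_ne_of_seven hz hz1
  have hzn := inv_ne_neg_of_seven hz hz1
  have hnc : ¬ Commute (pmk D : PSL) (pmk E) := by
    intro e
    have e' : (pmk (D * E) : PSL) = pmk (E * D) := by rw [map_mul, map_mul]; exact e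
    rw [mk_eq_mk, Matrix.SpecialLinearGroup.coe_mul, Matrix.SpecialLinearGroup.coe_mul, hD] at e'
    have hzi : z * z⁻¹ = 1 := mul_inv_cancel₀ hz0
    rcases e' with e' | e'
    · have := congrFun (congrFun e' 0) 1
      simp only [mul_diagonal, diagonal_mul, cons_val_zero, cons_val_one] at this
      exact hzz (mul_right_cancel₀ hE01 (by linear_combination -z * this + E.1 0 1 * hzi))
    · have := congrFun (congrFun e' 0) 1
      simp only [Matrix.neg_apply, mul_diagonal, diagonal_mul, cons_val_zero, cons_val_one] at this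
      exact hzn (mul_right_cancel₀ hE01 (by linear_combination z * this - E.1 0 1 * hzi))
  have hD1 : (pmk D : PSL) ≠ 1 := fun e => hnc (by rw [e]; exact Commute.one_left _)
  have hE7 : (pmk E : PSL) ^ 7 = 1 := by rw [← map_pow, hE, map_one]
  have hD7 : (pmk D : PSL) ^ 7 = 1 := by
    rw [← map_pow, show D ^ 7 = 1 from Subtype.ext (by
      rw [Matrix.SpecialLinearGroup.coe_pow, hD, diagonal_pow, Matrix.SpecialLinearGroup.coe_one, ← diagonal_one]
      refine congrArg diagonal (funext fun i => ?_)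
      fin_cases i <;> simp [hz]), map_one]
  haveI : Fact (Nat.Prime 7) := ⟨Nat.prime_seven⟩
  have hDo : orderOf (⟨_, hDX⟩ : X) = 7 := by
    rw [← Subgroup.orderOf_coe]; exact orderOf_eq_prime hD7 hD1
  by_contra htop
  rcases DicksonFull.proper_cases p htop with ⟨k, -, ⟨hc, -⟩ | ⟨⟨e⟩⟩⟩ | ⟨⟨e⟩⟩ | ⟨⟨e⟩⟩ | ⟨⟨e⟩⟩ | ⟨u, hu, hle⟩ |
      ⟨Q, m, K, hK, hK', hKQ, hQ3, hm, hQm, -, -, hiso⟩
  · exact hnc (congrArg Subtype.val (hc.commGroup.mul_comm ⟨_, hDX⟩ ⟨_, hEX⟩))
  · obtain ⟨j, hj⟩ := SingerSeven.dihedral_seven (e ⟨_, hEX⟩) (e ⟨_, hDX⟩) (by rw [MulEquiv.orderOf_eq, hDo])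
      (by rw [← map_pow, show (⟨_, hEX⟩ : X) ^ 7 = 1 from Subtype.ext hE7, map_one])
    replace hj : e ⟨_, hDX⟩ ^ j = e ⟨_, hEX⟩ := hj
    rw [← map_zpow] at hj
    have := congrArg Subtype.val (e.injective hj)
    rw [SubgroupClass.coe_zpow] at this
    refine hnc ?_
    have h' : (pmk D : PSL) ^ j = pmk E := this
    rw [← h']
    exact (Commute.refl _).zpow_right j
  · rcases DicksonFull.a4_orders (e ⟨_, hDX⟩) with h | h
    all_goals
      have := orderOf_dvd_of_pow_eq_one h
      rw [MulEquiv.orderOf_eq, hDo] at this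
      norm_num at this
  · rcases DicksonFull.s4_orders (e ⟨_, hDX⟩) with h | h
    all_goals
      have := orderOf_dvd_of_pow_eq_one h
      rw [MulEquiv.orderOf_eq, hDo] at this
      norm_num at this
  · have h7 : orderOf (⟨_, hDX⟩ : X) ∣ Nat.card X := orderOf_dvd_natCard _
    rw [hDo, Nat.card_congr e.toEquiv, nat_card_alternatingGroup, Nat.card_fin] at h7
    norm_num [Nat.factorial] at h7
  · obtain ⟨N, hNne, hN2, hkey⟩ := exists_nilpotent hu
    have k1 := hkey D (hle hDX)
    have k2 := hkey E (hle hEX)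
    have a00 := congrFun (congrFun k1 0) 0
    have s00 := congrFun (congrFun hN2 0) 0
    have s11 := congrFun (congrFun hN2 1) 1
    have hadj : (diagonal ![z, z⁻¹] : M2).adjugate = diagonal ![z⁻¹, z] := by
      ext i j
      rw [Matrix.adjugate_fin_two]
      fin_cases i <;> fin_cases j <;> simp
    rw [hD, hadj] at a00
    simp [Matrix.mul_apply, Fin.sum_univ_two, mul_diagonal, diagonal_mul, hz0] at a00 s00 s11
    have hne : z * z - z⁻¹ * z⁻¹ ≠ 0 := fun e => by
      have h4 : z ^ 4 = 1 := by field_simp at e; linear_combination e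
      have h3 : z ^ 3 = 1 := by linear_combination hz - z ^ 3 * h4
      exact hz1 (by linear_combination h4 - z * h3)
    have hp01 : N 0 1 * N 1 0 = 0 :=
      (mul_eq_zero.1 (by linear_combination a00 : (z * z - z⁻¹ * z⁻¹) * (N 0 1 * N 1 0) = 0)).resolve_left hne
    have n00 : N 0 0 = 0 := mul_self_eq_zero.1 (by linear_combination s00 - hp01)
    have n11 : N 1 1 = 0 := mul_self_eq_zero.1 (by linear_combination s11 - hp01)
    have b00 := congrFun (congrFun k2 0) 0
    simp [Matrix.mul_apply, Fin.sum_univ_two, Matrix.adjugate_fin_two, n00, n11] at b00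
    rcases mul_eq_zero.1 hp01 with w | w <;> rw [w] at b00
    · have : (E.1 0 1 * N 1 0) * (E.1 0 1 * N 1 0) = 0 := by first | linear_combination b00 | linear_combination -b00
      rcases mul_eq_zero.1 (mul_self_eq_zero.1 this) with t | t
      · exact hE01 t
      · exact hNne (by ext i j; fin_cases i <;> fin_cases j <;> simp [n00, n11, w, t])
    · have : (E.1 1 0 * N 0 1) * (E.1 1 0 * N 0 1) = 0 := by first | linear_combination b00 | linear_combination -b00
      rcases mul_eq_zero.1 (mul_self_eq_zero.1 this) with t | t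
      · exact hE10 t
      · exact hNne (by ext i j; fin_cases i <;> fin_cases j <;> simp [n00, n11, w, t])
  · refine hq Q m hQ3 hm hQm ?_
    have h7 : orderOf (⟨_, hDX⟩ : X) ∣ Nat.card X := orderOf_dvd_natCard _
    rw [hDo] at h7
    rcases hiso with ⟨⟨e⟩⟩ | ⟨⟨e⟩⟩ <;> rw [Nat.card_congr e.toEquiv] at h7
    · rw [← hKQ, ← DicksonFull.card_psl (F := K)]
      exact h7.trans (dvd_mul_left _ _)
    · rwa [SLCard.card_PGL, SLCard.card_SL_two, hKQ] at h7

end CfsgLib.MaxSub.HeisSeven
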