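/-
The standard matrices of the normaliser of an extraspecial group of order 343 in dimension seven.
-/
import Mathlib

set_option autoImplicit false
set_option linter.unusedSectionVars false
set_option maxHeartbeats 800000

namespace CfsgLib.MaxSub.HeisSeven

open Matrix

variable {F : Type*} [Field F]

/-- `ω` is a primitive seventh root of unity and `7` is invertible. -/
structure Root (ω : F) : Prop where
  eq : ω ^ 6 + ω ^ 5 + ω ^ 4 + ω ^ 3 + ω ^ 2 + ω + 1 = 0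
  seven_ne : (7 : F) ≠ 0

/-- Outside characteristic two. -/
theorem Root.two_ne [NeZero (2 : F)] {ω : F} (_ : Root ω) : (2 : F) ≠ 0 := NeZero.ne 2

theorem root_of_pow {ω : F} (h : ω ^ 7 = 1) (h1 : ω ≠ 1) (h5 : (7 : F) ≠ 0) : Root ω := by
  refine ⟨?_, h5⟩
  have h3 : (ω - 1) * (ω ^ 6 + ω ^ 5 + ω ^ 4 + ω ^ 3 + ω ^ 2 + ω + 1) = 0 := by linear_combination h
  exact (mul_eq_zero.1 h3).resolve_left (sub_ne_zero.2 h1)

section Root

variable {ω : F} (h : Root ω)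
include h

theorem Root.pow_seven : ω ^ 7 = 1 := by linear_combination (ω - 1) * h.eq

theorem Root.ne_zero : ω ≠ 0 := fun e => by
  have := h.pow_seven
  rw [e, zero_pow (by norm_num : (7 : ℕ) ≠ 0)] at this
  exact zero_ne_one this

theorem Root.pow_mod (n : ℕ) : ω ^ n = ω ^ (n % 7) := by
  conv_lhs => rw [← Nat.div_add_mod n 7, pow_add, pow_mul, h.pow_seven, one_pow, one_mul]

theorem Root.pow_eq_one {n : ℕ} (hn : ω ^ n = 1) : 7 ∣ n := by
  rw [h.pow_mod] at hn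
  have := Nat.mod_lt n (by norm_num : 0 < 7)
  by_contra hd
  have e := h.eq
  have h7 := h.seven_ne
  obtain hr | hr | hr | hr | hr | hr : n % 7 = 1 ∨ n % 7 = 2 ∨ n % 7 = 3 ∨ n % 7 = 4 ∨ n % 7 = 5 ∨ n % 7 = 6 := by omega
  all_goals
    rw [hr] at hn
    refine h7 ?_
    grind

theorem Root.prim : IsPrimitiveRoot ω 7 := ⟨h.pow_seven, fun _ hn => h.pow_eq_one hn⟩

theorem Root.ne_one : ω ≠ 1 := fun e => absurd (h.pow_eq_one (n := 1) (by rw [pow_one, e])) (by norm_num)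

theorem Root.pow_inj {a b : ℕ} (e : ω ^ a = ω ^ b) : a % 7 = b % 7 := by
  rw [h.pow_mod a, h.pow_mod b] at e
  exact h.prim.pow_inj (Nat.mod_lt _ (by norm_num)) (Nat.mod_lt _ (by norm_num)) e

/-- The quadratic Gauss sum. -/
theorem Root.gauss : (ω + ω ^ 2 + ω ^ 4 - ω ^ 3 - ω ^ 5 - ω ^ 6) ^ 2 = -7 := by
  have := h.eq
  grind

theorem Root.gauss_ne : ω + ω ^ 2 + ω ^ 4 - ω ^ 3 - ω ^ 5 - ω ^ 6 ≠ 0 := fun e => h.seven_ne (by
  have := h.gauss
  rw [e] at this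
  linear_combination this)

theorem Root.sum_pow (m : ℕ) : ∑ k : Fin 7, ω ^ (m * (k : ℕ)) = if 7 ∣ m then 7 else 0 := by
  simp only [pow_mul]
  rw [Fin.sum_univ_eq_sum_range (fun k => (ω ^ m) ^ k) 7]
  split_ifs with hm
  · obtain ⟨c, rfl⟩ := hm
    simp [pow_mul, h.pow_seven]
  · rw [geom_sum_eq fun e => hm (h.pow_eq_one e), ← pow_mul, mul_comm, pow_mul, h.pow_seven]
    simp

end Root

local notation "M7" => Matrix (Fin 7) (Fin 7) F

/-- The diagonal generator. -/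
def Xm (ω : F) : M7 := diagonal fun i => ω ^ (i : ℕ)

/-- The shift. -/
def Ym : M7 := Matrix.of fun i j => if i = j + 1 then 1 else 0

/-- The central involution of the complement. -/
def Jm : M7 := Matrix.of fun i j => if i = -j then -1 else 0

/-- The quadratic diagonal element. -/
def Wm (ω : F) : M7 := diagonal fun i => ω ^ ((i : ℕ) ^ 2)

/-- The unnormalised Fourier matrix. -/
def Fz (ω : F) : M7 := (ω + ω ^ 2 + ω ^ 4 - ω ^ 3 - ω ^ 5 - ω ^ 6)⁻¹ • Matrix.of fun i j : Fin 7 => ω ^ ((i : ℕ) * (j : ℕ))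

/-- The Fourier matrix of determinant one. -/
noncomputable def Fm (ω : F) : M7 := (Fz ω).det • Fz ω

/-- The multiplier of order three. -/
def Mm : M7 := Matrix.of fun i j => if i = 2 * j then 1 else 0

/-- The inclusion of the space negated by `Jm`. -/
def Ea : Matrix (Fin 7) (Fin 4) F :=
  !![1, 0, 0, 0; 0, 1, 0, 0; 0, 0, 1, 0; 0, 0, 0, 1; 0, 0, 0, 1; 0, 0, 1, 0; 0, 1, 0, 0]

/-- The projection on the space negated by `Jm`. -/
def La : Matrix (Fin 4) (Fin 7) F :=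
  !![1, 0, 0, 0, 0, 0, 0; 0, 2⁻¹, 0, 0, 0, 0, 2⁻¹; 0, 0, 2⁻¹, 0, 0, 2⁻¹, 0; 0, 0, 0, 2⁻¹, 2⁻¹, 0, 0]

/-- The inclusion of the space fixed by `Jm`. -/
def Eb : Matrix (Fin 7) (Fin 3) F :=
  !![0, 0, 0; 1, 0, 0; 0, 1, 0; 0, 0, -1; 0, 0, 1; 0, -1, 0; -1, 0, 0]

/-- The projection on the space fixed by `Jm`. -/
def Lb : Matrix (Fin 3) (Fin 7) F :=
  !![0, 2⁻¹, 0, 0, 0, 0, -2⁻¹; 0, 0, 2⁻¹, 0, 0, -2⁻¹, 0; 0, 0, 0, -2⁻¹, 2⁻¹, 0, 0]

local notation "𝐀" => (Ea : Matrix (Fin 7) (Fin 4) F)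
local notation "𝐚" => (La : Matrix (Fin 4) (Fin 7) F)
local notation "𝐁" => (Eb : Matrix (Fin 7) (Fin 3) F)
local notation "𝐛" => (Lb : Matrix (Fin 3) (Fin 7) F)
local notation "𝐉" => (Jm : Matrix (Fin 7) (Fin 7) F)
local notation "𝐘" => (Ym : Matrix (Fin 7) (Fin 7) F)
local notation "𝐌" => (Mm : Matrix (Fin 7) (Fin 7) F)

theorem Jm_mul (M : M7) (i j : Fin 7) : (𝐉 * M : M7) i j = -M (-i) j := by
  rw [Matrix.mul_apply, Finset.sum_eq_single (-i)]
  · simp [Jm]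
  · intro b _ hb
    have : i ≠ -b := fun e => hb (by rw [e, neg_neg])
    simp [Jm, this]
  · simp

theorem mul_Jm (M : M7) (i j : Fin 7) : (M * 𝐉 : M7) i j = -M i (-j) := by
  rw [Matrix.mul_apply, Finset.sum_eq_single (-j)]
  · simp [Jm]
  · intro b _ hb
    simp [Jm, hb]
  · simp

theorem Ym_mul (M : M7) (i j : Fin 7) : (𝐘 * M : M7) i j = M (i - 1) j := by
  rw [Matrix.mul_apply, Finset.sum_eq_single (i - 1)]
  · simp [Ym]
  · intro b _ hb
    have : i ≠ b + 1 := fun e => hb (by rw [e, add_sub_cancel_right])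
    simp [Ym, this]
  · simp

theorem mul_Ym (M : M7) (i j : Fin 7) : (M * 𝐘 : M7) i j = M i (j + 1) := by
  rw [Matrix.mul_apply, Finset.sum_eq_single (j + 1)]
  · simp [Ym]
  · intro b _ hb
    simp [Ym, hb]
  · simp

theorem Mm_mul (M : M7) (i j : Fin 7) : (𝐌 * M : M7) i j = M (4 * i) j := by
  have hinv : ∀ a b : Fin 7, a = 2 * b ↔ b = 4 * a := by decide
  rw [Matrix.mul_apply, Finset.sum_eq_single (4 * i)]
  · simp only [Mm, of_apply]
    rw [if_pos ((hinv i _).2 rfl), one_mul]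
  · intro b _ hb
    simp only [Mm, of_apply]
    rw [if_neg (fun e => hb ((hinv i b).1 e)), zero_mul]
  · simp

theorem mul_Mm (M : M7) (i j : Fin 7) : (M * 𝐌 : M7) i j = M i (2 * j) := by
  rw [Matrix.mul_apply, Finset.sum_eq_single (2 * j)]
  · simp [Mm]
  · intro b _ hb
    simp [Mm, hb]
  · simp

theorem Jm_sq : (𝐉 * 𝐉 : M7) = 1 := by
  ext i j
  rw [Jm_mul, one_apply]
  by_cases e : i = j <;> simp [Jm, e]

theorem det_perm_matrix (σ : Equiv.Perm (Fin 7)) {z : ℤˣ} (hσ : Equiv.Perm.sign σ = z) :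
    (Matrix.of fun i j => if σ i = j then (1 : F) else 0 : M7).det = ((z : ℤ) : F) := by
  have e : (Matrix.of fun i j => if σ i = j then (1 : F) else 0 : M7) = σ.permMatrix F := by
    ext i j
    simp [Equiv.Perm.permMatrix, PEquiv.toMatrix_apply]
  rw [e, Matrix.det_permutation, hσ]

/-! ### Relations -/

section Rels

variable {ω : F} (h : Root ω)
include h

theorem Xm_Ym : Xm ω * 𝐘 = ω • (𝐘 * Xm ω : M7) := by
  ext i j
  rw [Matrix.smul_apply, Xm, diagonal_mul, mul_diagonal, smul_eq_mul]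
  by_cases e : i = j + 1
  · subst e
    simp only [Ym, of_apply, if_true, mul_one, one_mul]
    rw [← pow_succ', h.pow_mod (_ + 1), h.pow_mod ((j + 1 : Fin 7) : ℕ)]
    congr 1
    fin_cases j <;> rfl
  · simp [Ym, e]

theorem Wm_Xm : Wm ω * Xm ω = (Xm ω * Wm ω : M7) := by
  rw [Wm, Xm, diagonal_mul_diagonal, diagonal_mul_diagonal]
  exact congrArg diagonal (funext fun i => mul_comm _ _)

theorem Wm_Ym : Wm ω * 𝐘 = ω • (𝐘 * Xm ω * Xm ω * Wm ω : M7) := by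
  ext i j
  rw [Matrix.smul_apply, Wm, Xm, diagonal_mul, mul_diagonal, mul_diagonal, mul_diagonal, smul_eq_mul]
  by_cases e : i = j + 1
  · subst e
    simp only [Ym, of_apply, if_true, mul_one, one_mul]
    rw [← pow_add, ← pow_add, ← pow_succ', h.pow_mod (_ + 1), h.pow_mod (((j + 1 : Fin 7) : ℕ) ^ 2)]
    congr 1
    fin_cases j <;> rfl
  · simp [Ym, e]

theorem Jm_Wm : 𝐉 * Wm ω = (Wm ω * 𝐉 : M7) := by
  ext i j
  rw [Wm, diagonal_mul, mul_diagonal]
  by_cases e : i = -j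
  · subst e
    simp only [Jm, of_apply, if_true, mul_neg, neg_mul, mul_one, one_mul, neg_inj]
    rw [h.pow_mod, h.pow_mod ((((-j : Fin 7) : ℕ)) ^ 2)]
    congr 1
    fin_cases j <;> rfl
  · simp [Jm, e]

theorem Jm_Xm : 𝐉 * Xm ω * 𝐉 * Xm ω = (1 : M7) := by
  ext i j
  rw [Xm, mul_diagonal, mul_Jm, mul_diagonal, one_apply]
  by_cases e : i = j
  · subst e
    simp only [Jm, of_apply, neg_neg, if_true, neg_mul, one_mul]
    rw [← pow_add, h.pow_mod]
    conv_rhs => rw [← pow_zero ω]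
    congr 1
    fin_cases i <;> rfl
  · simp [Jm, e]

omit h in
theorem Jm_Ym : 𝐉 * 𝐘 * 𝐉 * 𝐘 = (1 : M7) := by
  ext i j
  rw [mul_Ym, mul_Jm, Jm_mul, one_apply, neg_neg]
  simp only [Ym, of_apply]
  congr 1
  simp only [eq_iff_iff]
  constructor <;> intro e
  · have : -i = -j := by rw [e]; abel
    simpa using this
  · subst e; abel

theorem Mm_Xm : 𝐌 * Xm ω = (Xm ω ^ 4 * 𝐌 : M7) := by
  ext i j
  rw [Xm, diagonal_pow, diagonal_mul, mul_diagonal, Pi.pow_apply, ← pow_mul]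
  by_cases e : i = 2 * j
  · subst e
    simp only [Mm, of_apply, if_true, mul_one, one_mul]
    rw [h.pow_mod, h.pow_mod (_ * 4)]
    congr 1
    fin_cases j <;> rfl
  · simp [Mm, e]

omit h in
theorem Mm_Ym : 𝐌 * 𝐘 = (𝐘 * 𝐘 * 𝐌 : M7) := by
  ext i j
  rw [mul_Ym, Matrix.mul_assoc, Ym_mul, Ym_mul]
  simp only [Mm, of_apply]
  congr 1
  simp only [eq_iff_iff]
  revert i j
  decide

omit h in
theorem Jm_Mm : 𝐉 * 𝐌 = (𝐌 * 𝐉 : M7) := by
  ext i j
  rw [mul_Mm, Mm_mul]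
  simp only [Jm, of_apply]
  congr 1
  simp only [eq_iff_iff]
  revert i j
  decide

theorem Mm_Wm : 𝐌 * Wm ω = (Wm ω ^ 2 * 𝐌 : M7) := by
  ext i j
  rw [Wm, diagonal_pow, diagonal_mul, mul_diagonal, Pi.pow_apply, ← pow_mul]
  by_cases e : i = 2 * j
  · subst e
    simp only [Mm, of_apply, if_true, mul_one, one_mul]
    rw [h.pow_mod, h.pow_mod (_ * 2)]
    congr 1
    fin_cases j <;> rfl
  · simp [Mm, e]

theorem Xm_pow_seven : (Xm ω : M7) ^ 7 = 1 := by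
  rw [Xm, diagonal_pow, ← diagonal_one]
  exact congrArg diagonal (funext fun i => by rw [Pi.pow_apply, ← pow_mul, mul_comm, pow_mul, h.pow_seven, one_pow])

theorem Wm_pow_seven : (Wm ω : M7) ^ 7 = 1 := by
  rw [Wm, diagonal_pow, ← diagonal_one]
  exact congrArg diagonal (funext fun i => by rw [Pi.pow_apply, ← pow_mul, mul_comm, pow_mul, h.pow_seven, one_pow])

theorem det_Xm : (Xm ω : M7).det = 1 := by
  rw [Xm, det_diagonal, Finset.prod_pow_eq_pow_sum, h.pow_mod, show (∑ i : Fin 7, (i : ℕ)) % 7 = 0 by decide, pow_zero]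

theorem det_Wm : (Wm ω : M7).det = 1 := by
  rw [Wm, det_diagonal, Finset.prod_pow_eq_pow_sum, h.pow_mod, show (∑ i : Fin 7, (i : ℕ) ^ 2) % 7 = 0 by decide,
    pow_zero]

omit h in
theorem Ym_pow_seven : (𝐘 : M7) ^ 7 = 1 := by
  ext i j
  simp only [pow_succ, pow_zero, Matrix.one_mul, mul_Ym]
  simp only [Ym, of_apply, one_apply]
  congr 1
  simp only [eq_iff_iff]
  revert i j
  decide

omit h in
theorem det_Ym : (𝐘 : M7).det = 1 := by
  rw [show (𝐘 : M7) = Matrix.of fun i j => if Equiv.subRight (1 : Fin 7) i = j then 1 else 0 by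
    ext i j; simp [Ym, Equiv.subRight_apply, sub_eq_iff_eq_add]]
  rw [det_perm_matrix _ (z := 1) (by decide)]
  simp

omit h in
theorem det_Mm : (𝐌 : M7).det = 1 := by
  let e : Equiv.Perm (Fin 7) := ⟨fun i => 4 * i, fun i => 2 * i, by decide, by decide⟩
  rw [show (𝐌 : M7) = Matrix.of fun i j => if e i = j then 1 else 0 by
    ext i j
    simp only [Mm, of_apply, e, Equiv.coe_fn_mk]
    congr 1
    simp only [eq_iff_iff]
    revert i j
    decide]
  rw [det_perm_matrix _ (z := 1) (by decide)]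
  simp

omit h in
theorem det_Jm : (𝐉 : M7).det = 1 := by
  rw [show (𝐉 : M7) = (-1 : F) • (Matrix.of fun i j => if Equiv.neg (Fin 7) i = j then 1 else 0) by
    ext i j
    simp [Jm, show i = -j ↔ -i = j from neg_eq_iff_eq_neg.symm],
    det_smul, det_perm_matrix _ (z := -1) (by decide), Fintype.card_fin]
  push_cast
  ring

theorem Fz_sq : Fz ω * Fz ω = (𝐉 : M7) := by
  ext i j
  rw [Fz, Matrix.smul_mul, Matrix.mul_smul, smul_smul, Matrix.smul_apply, Matrix.mul_apply, smul_eq_mul]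
  simp only [of_apply, ← pow_add]
  have e : ∀ k : Fin 7, (i : ℕ) * (k : ℕ) + (k : ℕ) * (j : ℕ) = ((i : ℕ) + j) * (k : ℕ) := fun k => by ring
  simp only [e, h.sum_pow]
  rw [← mul_inv, ← pow_two, h.gauss]
  have : (7 ∣ (i : ℕ) + (j : ℕ)) ↔ i = -j := by revert i j; decide
  simp only [this, Jm, of_apply]
  split_ifs <;> simp [h.seven_ne, inv_neg]

theorem Fz_Ym : 𝐘 * Fz ω * Xm ω = (Fz ω : M7) := by
  ext i j
  rw [Xm, mul_diagonal, Ym_mul, Fz, Matrix.smul_apply, Matrix.smul_apply, smul_eq_mul, smul_eq_mul, mul_assoc]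
  congr 1
  simp only [of_apply]
  rw [← pow_add, h.pow_mod, h.pow_mod ((i : ℕ) * j)]
  congr 1
  revert i j
  decide

theorem Fz_Xm : Xm ω * Fz ω = (Fz ω * 𝐘 : M7) := by
  ext i j
  rw [Xm, diagonal_mul, mul_Ym, Fz, Matrix.smul_apply, Matrix.smul_apply, smul_eq_mul, smul_eq_mul, mul_left_comm]
  congr 1
  simp only [of_apply]
  rw [← pow_add, h.pow_mod, h.pow_mod ((i : ℕ) * ((j + 1 : Fin 7) : ℕ))]
  congr 1
  revert i j
  decide

theorem Fz_det_sq : (Fz ω : M7).det * (Fz ω).det = 1 := by rw [← det_mul, Fz_sq h, det_Jm]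

theorem det_Fm : (Fm ω : M7).det = 1 := by
  rw [Fm, det_smul, Fintype.card_fin, ← pow_succ,
    show (7 + 1 : ℕ) = 2 * 4 from rfl, pow_mul, pow_two, Fz_det_sq h, one_pow]

theorem Fm_sq : Fm ω * Fm ω = (𝐉 : M7) := by
  rw [Fm, Matrix.smul_mul, Matrix.mul_smul, smul_smul, Fz_det_sq h, one_smul, Fz_sq h]

theorem Fm_comm : 𝐉 * Fm ω = (Fm ω * 𝐉 : M7) := by rw [← Fm_sq h, Matrix.mul_assoc]

theorem Fm_Ym : 𝐘 * Fm ω * Xm ω = (Fm ω : M7) := by
  rw [Fm, Matrix.mul_smul, Matrix.smul_mul, Fz_Ym h]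

theorem Fm_Xm : Xm ω * Fm ω = (Fm ω * 𝐘 : M7) := by
  rw [Fm, Matrix.mul_smul, Matrix.smul_mul, Fz_Xm h]

/-- The scalar in front of the Fourier matrix of determinant one. -/
noncomputable def fcoef (ω : F) : F := (Fz ω : M7).det * (ω + ω ^ 2 + ω ^ 4 - ω ^ 3 - ω ^ 5 - ω ^ 6)⁻¹

theorem fcoef_ne_zero : fcoef ω ≠ 0 :=
  mul_ne_zero (fun e => by simpa [e] using Fz_det_sq h) (inv_ne_zero h.gauss_ne)

omit h in
theorem Fm_eq : (Fm ω : M7) = fcoef ω • Matrix.of fun i j : Fin 7 => ω ^ ((i : ℕ) * (j : ℕ)) := by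
  rw [fcoef, ← smul_smul]
  rfl

end Rels

end CfsgLib.MaxSub.HeisSeven
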