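/-
Overgroups of the standard normaliser in dimension seven.
-/
import Cfsg.Agent.Lib.MaxSub.HeisSeven.Basic

set_option autoImplicit false
set_option linter.unusedSectionVars false
set_option linter.style.haveILetI false
set_option maxHeartbeats 800000

namespace CfsgLib.MaxSub.HeisSeven

open Matrix

variable {F : Type*} [Field F]

local notation "M7" => Matrix (Fin 7) (Fin 7) F
local notation "G7" => GL (Fin 7) F

/-- The central involution of the complement as a group element. -/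
def Jg : GL (Fin 7) F := ⟨Jm, Jm, Jm_sq, Jm_sq⟩

theorem Jg_val : ((Jg : G7) : M7) = Jm := rfl

theorem Jg_mul_self : (Jg : G7) * Jg = 1 := Units.ext Jm_sq

theorem Jg_inv : (Jg : G7)⁻¹ = Jg := inv_eq_of_mul_eq_one_right Jg_mul_self

/-- A group of matrices of determinant one containing the standard generators. -/
structure Over (ω : F) (H : Subgroup (GL (Fin 7) F)) : Prop where
  root : Root ω
  det : ∀ g ∈ H, (g : Matrix (Fin 7) (Fin 7) F).det = 1
  hX : ∃ g ∈ H, (g : Matrix (Fin 7) (Fin 7) F) = Xm ω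
  hY : ∃ g ∈ H, (g : Matrix (Fin 7) (Fin 7) F) = Ym
  hW : ∃ g ∈ H, (g : Matrix (Fin 7) (Fin 7) F) = Wm ω
  hF : ∃ g ∈ H, (g : Matrix (Fin 7) (Fin 7) F) = Fm ω
  hM : ∃ g ∈ H, (g : Matrix (Fin 7) (Fin 7) F) = Mm

/-- The centraliser of the involution. -/
def cenJ (H : Subgroup (GL (Fin 7) F)) : Subgroup (GL (Fin 7) F) := H ⊓ Subgroup.centralizer {Jg}

theorem mem_cenJ {H : Subgroup (GL (Fin 7) F)} {g : G7} :
    g ∈ cenJ H ↔ g ∈ H ∧ (Jm : M7) * (g : M7) = (g : M7) * Jm := by
  rw [cenJ, Subgroup.mem_inf, Subgroup.mem_centralizer_singleton_iff, ← Units.val_inj, Units.val_mul, Units.val_mul,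
    Jg_val]
  exact and_congr_right fun _ => ⟨Eq.symm, Eq.symm⟩

variable {H : Subgroup (GL (Fin 7) F)}

theorem cenJ_comm (g : ↥(cenJ H)) : (Jm : M7) * ((g : G7) : M7) = ((g : G7) : M7) * Jm := (mem_cenJ.1 g.2).2

namespace Over

variable {ω : F} (O : Over ω H)
include O

theorem Jg_mem : (Jg : G7) ∈ H := by
  obtain ⟨f, hf, e⟩ := O.hF
  rw [show (Jg : G7) = f * f from Units.ext (by rw [Units.val_mul, e, Fm_sq O.root]; rfl)]
  exact mul_mem hf hf

end Over

end CfsgLib.MaxSub.HeisSeven
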