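/-
A unipotent element adapted to the coordinate planes gives the whole special linear group.
-/
import Cfsg.Agent.Lib.MaxSub.HeisSeven.Ctx
import Cfsg.Agent.Lib.StSL.Presentation

set_option autoImplicit false
set_option linter.unusedSectionVars false
set_option linter.style.haveILetI false
set_option maxHeartbeats 3200000

namespace CfsgLib.MaxSub.HeisSeven

open Matrix

variable {F : Type*} [Field F]

local notation "M7" => Matrix (Fin 7) (Fin 7) F
local notation "G7" => GL (Fin 7) F

/-- The group contains a given matrix. -/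
def Mem (H : Subgroup (GL (Fin 7) F)) (M : Matrix (Fin 7) (Fin 7) F) : Prop :=
  ∃ g ∈ H, (g : Matrix (Fin 7) (Fin 7) F) = M

/-- Every additive subgroup containing the powers of the root is everything. -/
def Spans (ω : F) : Prop := ∀ A : AddSubgroup F, (∀ i : ℕ, ω ^ i ∈ A) → ∀ z : F, z ∈ A

/-- The adapted unipotent matrix. -/
def uni (a b : Fin 3 → F) : Matrix (Fin 7) (Fin 7) F :=
  1 + (Matrix.single 1 6 (a 0) + Matrix.single 2 5 (a 1) + Matrix.single 4 3 (a 2) +
    (Matrix.single 6 1 (b 0) + Matrix.single 5 2 (b 1) + Matrix.single 3 4 (b 2)))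

section Mem

variable {H : Subgroup (GL (Fin 7) F)}

theorem mem_mul {A B : M7} (hA : Mem H A) (hB : Mem H B) : Mem H (A * B) := by
  obtain ⟨a, ha, rfl⟩ := hA
  obtain ⟨b, hb, rfl⟩ := hB
  exact ⟨a * b, mul_mem ha hb, rfl⟩

theorem mem_conj_of {g : G7} (hg : g ∈ H) {A B : M7} (hA : Mem H A) (e : (g : M7) * A = B * (g : M7)) : Mem H B := by
  obtain ⟨a, ha, rfl⟩ := hA
  refine ⟨g * a * g⁻¹, mul_mem (mul_mem hg ha) (inv_mem hg), ?_⟩
  rw [Units.val_mul, Units.val_mul, e, Matrix.mul_assoc, Units.mul_inv, Matrix.mul_one]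

theorem mem_of_comm {A B C : M7} (hA : Mem H A) (hB : Mem H B) (e : A * B = C * (B * A)) : Mem H C := by
  obtain ⟨a, ha, rfl⟩ := hA
  obtain ⟨b, hb, rfl⟩ := hB
  refine ⟨a * b * (b * a)⁻¹, mul_mem (mul_mem ha hb) (inv_mem (mul_mem hb ha)), ?_⟩
  rw [Units.val_mul, Units.val_mul, e, ← Units.val_mul b a, Matrix.mul_assoc, Units.mul_inv, Matrix.mul_one]

theorem mem_of_inv {A B : M7} (hA : Mem H A) (e : A * B = 1) : Mem H B := by
  obtain ⟨a, ha, rfl⟩ := hA
  refine ⟨a⁻¹, inv_mem ha, ?_⟩
  exact (Units.inv_eq_of_mul_eq_one_right e)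

end Mem

variable {ω : F} {H : Subgroup (GL (Fin 7) F)} (O : Over ω H)
include O

theorem mem_shift {A B : M7} (hA : Mem H A) (e : ∀ i j, B i j = A (i - 1) (j - 1)) : Mem H B := by
  obtain ⟨y, hy, ey⟩ := O.hY
  refine mem_conj_of hy hA ?_
  rw [ey]
  ext i j
  rw [Ym_mul, mul_Ym, e, add_sub_cancel_right]

theorem mem_shifts (k : Fin 7) {A B : M7} (hA : Mem H A) (e : ∀ i j, B i j = A (i - k) (j - k)) : Mem H B := by
  have key : ∀ n : ℕ, n < 7 → Mem H (Matrix.of fun i j => A (i - Fin.ofNat 7 n) (j - Fin.ofNat 7 n)) := by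
    intro n hn
    induction n with
    | zero => convert hA using 1; ext i j; simp
    | succ n ih =>
      refine mem_shift O (ih (by omega)) fun i j => ?_
      have : Fin.ofNat 7 (n + 1) = 1 + Fin.ofNat 7 n := Fin.ext (by
        simp [Fin.val_add, Fin.ofNat, Nat.add_comm, Nat.add_mod])
      simp only [of_apply, this, sub_sub]
  convert key k k.2 using 1
  ext i j
  rw [e, of_apply, show Fin.ofNat 7 (k : ℕ) = k from Fin.ext (Nat.mod_eq_of_lt k.2)]

theorem mem_flip {A B : M7} (hA : Mem H A) (e : ∀ i j, B i j = A (-i) (-j)) : Mem H B := by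
  refine mem_conj_of O.Jg_mem hA ?_
  rw [Jg_val]
  ext i j
  rw [Jm_mul, mul_Jm, e, neg_neg]

theorem mem_rot {A B : M7} (hA : Mem H A) (e : ∀ i j, B i j = A (4 * i) (4 * j)) : Mem H B := by
  obtain ⟨m, hm, em⟩ := O.hM
  refine mem_conj_of hm hA ?_
  rw [em]
  ext i j
  rw [Mm_mul, mul_Mm, e, show (4 : Fin 7) * (2 * j) = j by revert j; decide]

theorem uni_rot {a b : Fin 3 → F} (h : Mem H (uni a b)) :
    Mem H (uni ![a 2, a 0, a 1] ![b 2, b 0, b 1]) := by
  refine mem_rot O h fun i j => ?_
  fin_cases i <;> fin_cases j <;> simp (config := { decide := true }) [uni, Matrix.single, one_apply]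

theorem uni_flip {a b : Fin 3 → F} (h : Mem H (uni a b)) : Mem H (uni b a) := by
  refine mem_flip O h fun i j => ?_
  fin_cases i <;> fin_cases j <;> simp (config := { decide := true }) [uni, Matrix.single, one_apply]

variable (hspan : Spans ω)
include hspan

/-- One elementary transvection gives everything. -/
theorem top_of_elem {i₀ j₀ : Fin 7} (h₀ : i₀ ≠ j₀) {c₀ : F} (hc : c₀ ≠ 0) (hm : Mem H (transvection i₀ j₀ c₀))
    (s : Matrix.SpecialLinearGroup (Fin 7) F) : Matrix.SpecialLinearGroup.toGL s ∈ H := by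
  classical
  have h := O.root
  obtain ⟨x, hx, ex⟩ := O.hX
  have hmulω : ∀ (n : ℕ) (i j : Fin 7) (c : F), i ≠ j → Mem H (transvection i j c) →
      Mem H (transvection i j ((ω ^ ((i : ℕ) + 6 * (j : ℕ))) ^ n * c)) := by
    intro n i j c hij hmem
    induction n with
    | zero => simpa using hmem
    | succ n ih =>
      refine mem_conj_of hx ih ?_
      rw [ex, Xm]
      ext k l
      rw [diagonal_mul, mul_diagonal]
      by_cases hkl : k = i ∧ l = j
      · obtain ⟨rfl, rfl⟩ := hkl
        simp [transvection, one_apply, hij, pow_succ]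
        have e : ω ^ ((k : ℕ) + 6 * (l : ℕ)) * ω ^ (l : ℕ) = ω ^ (k : ℕ) := by
          rw [← pow_add, h.pow_mod, h.pow_mod (k : ℕ)]
          congr 1
          omega
        linear_combination (-((ω ^ ((k : ℕ) + 6 * (l : ℕ))) ^ n * c)) * e
      · have hs : ∀ d : F, (transvection i j d : M7) k l = (1 : M7) k l := fun d => by
          have : ¬ (i = k ∧ j = l) := fun e => hkl ⟨e.1.symm, e.2.symm⟩
          simp [transvection, Matrix.single_apply, this]
        rw [hs, hs, one_apply]
        split_ifs with e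
        · subst e; ring
        · ring
  have all_line : ∀ (i j : Fin 7) (c : F), i ≠ j → c ≠ 0 → Mem H (transvection i j c) →
      ∀ z : F, Mem H (transvection i j z) := by
    intro i j c hij hc0 hmem z
    let A : AddSubgroup F :=
      { carrier := {z | Mem H (transvection i j (z * c))}
        zero_mem' := ⟨1, one_mem H, by simp⟩
        add_mem' := fun {u v} hu hv => by
          have := mem_mul hu hv
          rwa [transvection_mul_transvection_same _ _ hij, ← add_mul] at this
        neg_mem' := fun {u} hu => mem_of_inv hu (by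
          rw [transvection_mul_transvection_same _ _ hij, ← add_mul, add_neg_cancel, zero_mul, transvection_zero]) }
    have hA : ∀ n : ℕ, ω ^ n ∈ A := by
      intro n
      have hd : ((i : ℕ) + 6 * (j : ℕ)) % 7 ≠ 0 := by
        intro e
        exact hij (Fin.ext (by omega))
      obtain ⟨m, -, hm'⟩ := Nat.exists_mul_mod_eq_one_of_coprime
        (n := ((i : ℕ) + 6 * (j : ℕ))) (k := 7) ((Nat.prime_seven.coprime_iff_not_dvd).2 fun e =>
          hd (Nat.mod_eq_zero_of_dvd e)).symm (by norm_num)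
      have := hmulω (m * n) i j c hij hmem
      rw [← pow_mul, ← mul_assoc, pow_mul, h.pow_mod (((i : ℕ) + 6 * (j : ℕ)) * m), hm', pow_one] at this
      exact this
    have := hspan A hA (z / c)
    show Mem H (transvection i j z)
    have e : z / c * c = z := div_mul_cancel₀ z hc0
    rw [← e]
    exact this
  have hline : ∀ z, Mem H (transvection i₀ j₀ z) := all_line i₀ j₀ c₀ h₀ hc hm
  set d := j₀ - i₀ with hd
  have hd0 : d ≠ 0 := sub_ne_zero.2 (Ne.symm h₀)
  have hdiag : ∀ (i : Fin 7) (z : F), Mem H (transvection i (i + d) z) := fun i z => by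
    refine mem_shifts O (i - i₀) (hline z) fun k l => ?_
    have e1 : k - (i - i₀) = i₀ ↔ k = i := by
      constructor
      · intro e; rw [sub_eq_iff_eq_add] at e; rw [e]; abel
      · intro e; rw [e]; abel
    have e2 : l - (i - i₀) = j₀ ↔ l = i + d := by
      constructor
      · intro e; rw [sub_eq_iff_eq_add] at e; rw [e, hd]; abel
      · intro e; rw [e, hd]; abel
    simp only [transvection, Matrix.add_apply, one_apply, Matrix.single_apply, sub_left_inj]
    congr 1
    refine if_congr ?_ rfl rfl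
    rw [eq_comm (a := i₀), eq_comm (a := j₀), e1, e2, eq_comm (a := i), eq_comm (b := l)]
  have hmul : ∀ (n : ℕ), 1 ≤ n → n ≤ 6 → ∀ (i : Fin 7) (z : F), Mem H (transvection i (i + Fin.ofNat 7 n * d) z) := by
    intro n
    induction n with
    | zero => intro e; omega
    | succ n ih =>
      intro _ hn i z
      rcases Nat.eq_zero_or_pos n with rfl | hpos
      · rw [show Fin.ofNat 7 (0 + 1) = (1 : Fin 7) from rfl, one_mul]
        exact hdiag i z
      have hstep : ∀ (m : ℕ), m ≤ 6 → 1 ≤ m → ∀ k : Fin 7, k ≠ k + Fin.ofNat 7 m * d := by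
        intro m hm hm1 k e
        have e' : Fin.ofNat 7 m * d = 0 := by
          have := add_left_cancel (((add_zero k).trans e) : k + 0 = k + Fin.ofNat 7 m * d)
          exact this.symm
        revert e'
        revert hd0
        generalize d = d'
        interval_cases m <;> revert d' <;> decide
      set j := i + Fin.ofNat 7 n * d with hj
      have hk : i + Fin.ofNat 7 (n + 1) * d = j + d := by
        have : Fin.ofNat 7 (n + 1) = Fin.ofNat 7 n + 1 := Fin.ext (by simp [Fin.val_add, Fin.ofNat, Nat.add_mod])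
        rw [hj, this, add_mul, one_mul, add_assoc]
      rw [hk]
      have nij : i ≠ j := hstep n (by omega) hpos i
      have njk : j ≠ j + d := by
        intro e
        exact hd0 (by simpa using e.symm)
      have nik : i ≠ j + d := hk ▸ hstep (n + 1) hn (by omega) i
      refine mem_of_comm (ih hpos (by omega) i z) (hdiag j 1) ?_
      simp only [transvection, Matrix.mul_add, Matrix.add_mul, Matrix.mul_one, Matrix.one_mul]
      rw [single_mul_single_same, single_mul_single_of_ne _ _ _ _ nik.symm, mul_one,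
        single_mul_single_of_ne _ _ _ _ (Ne.symm nik)]
      simp only [add_zero, Matrix.add_mul, Matrix.mul_add, Matrix.zero_mul, Matrix.mul_zero,
        single_mul_single_of_ne _ _ _ _ (Ne.symm nij), single_mul_single_of_ne _ _ _ _ (Ne.symm nik),
        single_mul_single_of_ne _ _ _ _ njk.symm]
      abel
  have hall : ∀ (i j : Fin 7), i ≠ j → ∀ z, Mem H (transvection i j z) := by
    intro i j hij z
    obtain ⟨n, h1, h6, e⟩ : ∃ n : ℕ, 1 ≤ n ∧ n ≤ 6 ∧ j = i + Fin.ofNat 7 n * d := by
      have : ∀ d e : Fin 7, d ≠ 0 → e ≠ 0 → ∃ n : Fin 7, n ≠ 0 ∧ e = n * d := by decide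
      obtain ⟨n, hn0, hn⟩ := this d (j - i) hd0 (sub_ne_zero.2 (Ne.symm hij))
      refine ⟨n, ?_, by have := n.2; omega, ?_⟩
      · rcases Nat.eq_zero_or_pos (n : ℕ) with e | e
        · exact absurd (Fin.ext e) hn0
        · exact e
      · rw [show Fin.ofNat 7 (n : ℕ) = n from Fin.ext (Nat.mod_eq_of_lt n.2), ← hn, add_sub_cancel]
    rw [e]
    exact hmul n h1 h6 i z
  set T := H.comap (Matrix.SpecialLinearGroup.toGL (n := Fin 7) (R := F))
  have htop : (⊤ : Subgroup (Matrix.SpecialLinearGroup (Fin 7) F)) ≤ T := by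
    rw [← CfsgLib.StSL.closure_transvection_eq_top (K := F) (n := 7) (by norm_num), Subgroup.closure_le]
    rintro _ ⟨i, j, hij, t, rfl⟩
    obtain ⟨g, hg, eg⟩ := hall i j hij t
    show Matrix.SpecialLinearGroup.toGL _ ∈ H
    rwa [show Matrix.SpecialLinearGroup.toGL (Matrix.SpecialLinearGroup.transvection hij t) = g from
      Units.ext (eg.symm)]
  exact htop (Subgroup.mem_top s)

/-- Mixed orientation. -/
theorem top_mixed {a b : Fin 3 → F} (ha : a 2 = 0) (hb0 : b 0 = 0) (hb1 : b 1 = 0) (hb : b 2 ≠ 0)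
    (hu : Mem H (uni a b)) (s : Matrix.SpecialLinearGroup (Fin 7) F) : Matrix.SpecialLinearGroup.toGL s ∈ H := by
  refine top_of_elem O hspan (i₀ := 3) (j₀ := 5) (by decide) (mul_ne_zero hb hb) (mem_of_comm hu
    (mem_shifts O 1 hu (B := 1 + (Matrix.single 2 0 (a 0) + Matrix.single 3 6 (a 1) + Matrix.single 4 5 (b 2))) ?_)
    ?_) s
  · intro i j
    fin_cases i <;> fin_cases j <;> simp (config := { decide := true }) [uni, Matrix.single, one_apply, ha, hb0, hb1]
  · rw [uni, ha, hb0, hb1]
    simp only [transvection, Matrix.single_zero, add_zero, zero_add, Matrix.mul_add, Matrix.add_mul, Matrix.one_mul,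
      Matrix.mul_one, Matrix.single_mul_single_same, ne_eq, Fin.reduceEq, not_false_eq_true,
      Matrix.single_mul_single_of_ne, Matrix.mul_zero, Matrix.zero_mul]
    abel

/-- One orientation with a gap. -/
theorem top_gap {a b : Fin 3 → F} (ha : a 0 ≠ 0) (ha2 : a 2 = 0) (hb : b = 0) (hu : Mem H (uni a b))
    (s : Matrix.SpecialLinearGroup (Fin 7) F) : Matrix.SpecialLinearGroup.toGL s ∈ H := by
  refine top_of_elem O hspan (i₀ := 3) (j₀ := 6) (by decide) (mul_ne_zero ha ha)
    (mem_of_comm (mem_shifts O 2 hu (B := 1 + (Matrix.single 3 1 (a 0) + Matrix.single 4 0 (a 1))) ?_) hu ?_) s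
  · intro i j
    fin_cases i <;> fin_cases j <;> simp (config := { decide := true }) [uni, Matrix.single, one_apply, ha2, hb]
  · rw [uni, ha2, hb]
    simp only [transvection, Pi.zero_apply, Matrix.single_zero, add_zero, zero_add, Matrix.mul_add, Matrix.add_mul,
      Matrix.one_mul, Matrix.mul_one, Matrix.single_mul_single_same, ne_eq, Fin.reduceEq, not_false_eq_true,
      Matrix.single_mul_single_of_ne, Matrix.mul_zero, Matrix.zero_mul]
    abel

variable {β β' : F} (hβ : β = ω + ω ^ 2 + ω ^ 4) (hβ' : β' = ω ^ 3 + ω ^ 5 + ω ^ 6)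
  (hn : ∃ n : ℕ, (n : F) = β) (hn' : ∃ n : ℕ, (n : F) = β')
include hβ hβ' hn hn'

/-- One orientation without gaps. -/
theorem top_uniform {a b : Fin 3 → F} (ha : ∀ k, a k ≠ 0) (hb : b = 0) (hu : Mem H (uni a b))
    (s : Matrix.SpecialLinearGroup (Fin 7) F) : Matrix.SpecialLinearGroup.toGL s ∈ H := by
  have h := O.root
  obtain ⟨x, hx, ex⟩ := O.hX
  set K : F → F → M7 := fun u v => 1 + (Matrix.single 1 3 u + Matrix.single 0 5 v) with hK
  have hmem : Mem H (K (a 0 * a 1) (-(a 0 * a 1))) := by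
    have hJ : Mem H (1 + (Matrix.single 6 1 (a 0) + Matrix.single 5 2 (a 1) + Matrix.single 3 4 (a 2)) : M7) := by
      refine mem_flip O hu fun i j => ?_
      fin_cases i <;> fin_cases j <;> simp (config := { decide := true }) [uni, Matrix.single, one_apply, hb]
    refine mem_of_comm hu (mem_shifts O 1 hJ
      (B := 1 + (Matrix.single 0 2 (a 0) + Matrix.single 6 3 (a 1) + Matrix.single 4 5 (a 2))) ?_) ?_
    · intro i j
      fin_cases i <;> fin_cases j <;> simp (config := { decide := true }) [Matrix.single, one_apply]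
    · rw [uni, hb, hK]
      simp only [Pi.zero_apply, Matrix.single_zero, add_zero, zero_add, Matrix.mul_add, Matrix.add_mul,
        Matrix.one_mul, Matrix.mul_one, Matrix.single_mul_single_same, ne_eq, Fin.reduceEq, not_false_eq_true,
        Matrix.single_mul_single_of_ne, Matrix.mul_zero, Matrix.zero_mul, ← Matrix.single_neg, Matrix.neg_mul]
      have e1 : a 0 * a 1 = a 1 * a 0 := mul_comm _ _
      simp only [e1]
      abel
  set cu := a 0 * a 1
  set cv := -cu
  have hadd : ∀ u v u' v', Mem H (K u v) → Mem H (K u' v') → Mem H (K (u + u') (v + v')) := fun u v u' v' p q => by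
    have := mem_mul p q
    simp only [hK, Matrix.mul_add, Matrix.add_mul, Matrix.one_mul, Matrix.mul_one, ne_eq, Fin.reduceEq,
      not_false_eq_true, Matrix.single_mul_single_of_ne, add_zero, zero_add] at this
    simp only [hK, Matrix.single_add]
    convert this using 1
    abel
  have hzero : Mem H (K 0 0) := ⟨1, one_mem H, by simp [hK]⟩
  have hneg : ∀ u v, Mem H (K u v) → Mem H (K (-u) (-v)) := fun u v p => mem_of_inv p (by
    simp only [hK, Matrix.mul_add, Matrix.add_mul, Matrix.one_mul, Matrix.mul_one, ne_eq, Fin.reduceEq,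
      not_false_eq_true, Matrix.single_mul_single_of_ne, ← Matrix.single_neg, Matrix.mul_neg, neg_zero]
    abel)
  have hnat : ∀ (n : ℕ) u v, Mem H (K u v) → Mem H (K ((n : F) * u) ((n : F) * v)) := fun n u v p => by
    induction n with
    | zero => simpa using hzero
    | succ n ih => simpa [add_mul] using hadd _ _ _ _ ih p
  have hxc : ∀ u v, Mem H (K u v) → Mem H (K (ω ^ 5 * u) (ω ^ 2 * v)) := fun u v p => by
    refine mem_conj_of hx p ?_
    rw [ex, Xm]
    have h7 := h.pow_seven
    ext i j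
    rw [diagonal_mul, mul_diagonal]
    fin_cases i <;> fin_cases j <;> simp (config := { decide := true }) [hK, Matrix.single, one_apply] <;> grind
  have q1 := hxc _ _ hmem
  have q2 := hxc _ _ q1
  have q3 := hxc _ _ q2
  obtain ⟨n, hn⟩ := hn
  obtain ⟨n', hn'⟩ := hn'
  have q := hadd _ _ _ _ (hadd _ _ _ _ (hadd _ _ _ _ q3 (hneg _ _ (hnat n _ _ q2))) (hnat n' _ _ q1)) (hneg _ _ hmem)
  rw [hn, hn'] at q
  have h7 := h.pow_seven
  have he := h.eq
  have hzero2 : ω ^ 2 * (ω ^ 2 * (ω ^ 2 * cv)) + -(β * (ω ^ 2 * (ω ^ 2 * cv))) + β' * (ω ^ 2 * cv) + -cv = 0 := by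
    subst hβ hβ'
    grind
  rw [hzero2] at q
  have hne : ω ^ 5 * (ω ^ 5 * (ω ^ 5 * cu)) + -(β * (ω ^ 5 * (ω ^ 5 * cu))) + β' * (ω ^ 5 * cu) + -cu ≠ 0 := by
    have e : ω ^ 5 * (ω ^ 5 * (ω ^ 5 * cu)) + -(β * (ω ^ 5 * (ω ^ 5 * cu))) + β' * (ω ^ 5 * cu) + -cu =
        (ω ^ 5 - ω) * ((ω ^ 5 - ω ^ 2) * ((ω ^ 5 - ω ^ 4) * cu)) := by
      subst hβ hβ'
      grind
    rw [e]
    refine mul_ne_zero (sub_ne_zero.2 fun e => absurd (h.pow_inj (a := 5) (b := 1) (by rw [e, pow_one])) (by norm_num))
      (mul_ne_zero (sub_ne_zero.2 fun e => absurd (h.pow_inj e) (by norm_num))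
        (mul_ne_zero (sub_ne_zero.2 fun e => absurd (h.pow_inj e) (by norm_num)) (mul_ne_zero (ha 0) (ha 1))))
  refine top_of_elem O hspan (i₀ := 1) (j₀ := 3) (by decide) hne ?_ s
  simpa [hK, transvection] using q

/-- An adapted unipotent element gives everything. -/
theorem top_of_uni {a b : Fin 3 → F} (hab : ∀ k, a k = 0 ∨ b k = 0) (hne : ∃ k, a k ≠ 0 ∨ b k ≠ 0)
    (hu : Mem H (uni a b)) (s : Matrix.SpecialLinearGroup (Fin 7) F) : Matrix.SpecialLinearGroup.toGL s ∈ H := by
  by_cases hb : b = 0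
  · by_cases ha : ∀ k, a k ≠ 0
    · exact top_uniform O hspan hβ hβ' hn hn' ha hb hu s
    push Not at ha
    obtain ⟨k, hk⟩ := ha
    have hb' : (![(0 : F), 0, 0]) = 0 := by funext i; fin_cases i <;> rfl
    have r1 := uni_rot O hu
    have r2 := uni_rot O r1
    simp only [hb, Pi.zero_apply, hb'] at r1 r2
    simp only [cons_val] at r2
    obtain ⟨m, hm⟩ := hne
    rw [hb, Pi.zero_apply] at hm
    have hm := hm.resolve_right (fun e => e rfl)
    by_cases g0 : a 0 ≠ 0 ∧ a 2 = 0
    · exact top_gap O hspan g0.1 g0.2 hb hu s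
    by_cases g1 : a 2 ≠ 0 ∧ a 1 = 0
    · exact top_gap O hspan (a := ![a 2, a 0, a 1]) (b := 0) g1.1 g1.2 rfl r1 s
    by_cases g2 : a 1 ≠ 0 ∧ a 0 = 0
    · exact top_gap O hspan (a := ![a 1, a 2, a 0]) (b := 0) g2.1 g2.2 rfl r2 s
    exfalso
    fin_cases k <;> fin_cases m <;> simp at hk hm <;> tauto
  have key : ∀ (a b : Fin 3 → F), (∀ k, a k = 0 ∨ b k = 0) → b 2 ≠ 0 → b 0 = 0 → b 1 = 0 → Mem H (uni a b) →
      Matrix.SpecialLinearGroup.toGL s ∈ H := fun a b hab h2 h0 h1 hu =>
    top_mixed O hspan ((hab 2).resolve_right h2) h0 h1 h2 hu s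
  have one : ∀ (a b : Fin 3 → F), (∀ k, a k = 0 ∨ b k = 0) → ∀ k, b k ≠ 0 → b (k + 1) = 0 → b (k + 2) = 0 →
      Mem H (uni a b) → Matrix.SpecialLinearGroup.toGL s ∈ H := by
    intro a b hab k h2 h0 h1 hu
    have r1 := uni_rot O hu
    have r2 := uni_rot O r1
    simp only [cons_val] at r2
    fin_cases k
    · exact key _ _ (fun i => by fin_cases i <;> simp <;> exact hab _) (by simpa using h2) (by simpa using h0)
        (by simpa using h1) r2
    · exact key _ _ (fun i => by fin_cases i <;> simp <;> exact hab _) (by simpa using h2) (by simpa using h0)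
        (by simpa using h1) r1
    · exact key a b hab h2 (by simpa using h0) (by simpa using h1) hu
  have fa : ∀ i : Fin 3, ∀ j, j = i ∨ j = i + 1 ∨ j = i + 2 := by decide
  obtain ⟨k, hk⟩ : ∃ k, b k ≠ 0 := by
    by_contra hc
    push Not at hc
    exact hb (funext hc)
  by_cases h1 : ∃ k, b k ≠ 0 ∧ b (k + 1) = 0 ∧ b (k + 2) = 0
  · obtain ⟨k, e1, e2, e3⟩ := h1
    exact one a b hab k e1 e2 e3 hu
  by_cases h2 : ∀ k, b k ≠ 0
  · refine top_uniform O hspan hβ hβ' hn hn' h2 ?_ (uni_flip O hu) s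
    funext k
    exact (hab k).resolve_right (h2 k)
  push Not at h2
  obtain ⟨z, hz⟩ := h2
  have f3 : ∀ z : Fin 3, z + 2 + 1 = z ∧ z + 2 + 2 = z + 1 ∧ z + 1 + 1 = z + 2 ∧ z + 1 + 2 = z := by decide
  have hz1 : b (z + 1) ≠ 0 := fun e => h1 ⟨z + 2, fun e2 => hk (by
      rcases fa z k with r | r | r <;> subst r <;> assumption), by
      rw [(f3 z).1]; exact hz, by
      rw [(f3 z).2.1]; exact e⟩
  have hz2 : b (z + 2) ≠ 0 := fun e => h1 ⟨z + 1, hz1, by
      rw [(f3 z).2.2.1]; exact e, by
      rw [(f3 z).2.2.2]; exact hz⟩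
  by_cases ha : a z = 0
  · have ha' : a = 0 := funext fun i => by
      rcases fa z i with r | r | r <;> subst r
      · exact ha
      · exact (hab _).resolve_right hz1
      · exact (hab _).resolve_right hz2
    have hf := uni_flip O hu
    have r1 := uni_rot O hf
    have r2 := uni_rot O r1
    simp only [ha', Pi.zero_apply, cons_val] at r1 r2
    rw [show (![(0 : F), 0, 0]) = 0 by funext i; fin_cases i <;> rfl] at r1 r2
    fin_cases z
    · exact top_gap O hspan (a := ![b 1, b 2, b 0]) (b := 0) (by simpa using hz1) (by simpa using hz) rfl r2 s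
    · exact top_gap O hspan (a := ![b 2, b 0, b 1]) (b := 0) (by simpa using hz1) (by simpa using hz) rfl r1 s
    · exact top_gap O hspan (a := b) (by simpa using hz1) (by simpa using hz) ha' hf s
  · refine one b a (fun i => (hab i).symm) z ha ((hab _).resolve_right hz1) ((hab _).resolve_right hz2) (uni_flip O hu)

end CfsgLib.MaxSub.HeisSeven
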