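/-
The centraliser of the diagonal complement element is monomial on the coordinate planes.
-/
import Cfsg.Agent.Lib.MaxSub.HeisSeven.Top
import Cfsg.Agent.Lib.MaxSub.HeisSeven.Dickson

set_option autoImplicit false
set_option linter.unusedSectionVars false
set_option linter.style.haveILetI false
set_option maxHeartbeats 1600000

namespace CfsgLib.MaxSub.HeisSeven

open Matrix
open CfsgLib.PSL2 (mk_eq_mk)

local notation "pmk" => CfsgLib.PSL2.mk

section Sylow

variable {M G' : Type*} [Group M] [Finite M] [Group G'] {p : ℕ} [Fact p.Prime]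

/-- Elements normalising the image of a Sylow subgroup lift to its normaliser. -/
theorem normalizer_lift (f : M →* G') (hf : Function.Surjective f) (P : Sylow p M) {g' : G'}
    (hg' : g' ∈ Subgroup.normalizer ((P : Subgroup M).map f : Set G')) :
    ∃ g ∈ Subgroup.normalizer ((P : Subgroup M) : Set M), f g = g' := by
  obtain ⟨g0, rfl⟩ := hf g'
  set Q := ((P : Subgroup M).map f).comap f
  have hP : (P : Subgroup M) ≤ Q := Subgroup.le_comap_map _ _
  have hP' : ((g0 • P : Sylow p M) : Subgroup M) ≤ Q := by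
    rw [Sylow.coe_subgroup_smul]
    rintro _ ⟨a, ha, rfl⟩
    show f (g0 * a * g0⁻¹) ∈ (P : Subgroup M).map f
    rw [map_mul, map_mul, map_inv]
    exact (Subgroup.mem_normalizer_iff.1 hg' _).1 (Subgroup.mem_map_of_mem f ha)
  obtain ⟨h, hh⟩ := MulAction.exists_smul_eq Q ((g0 • P).subtype hP') (P.subtype hP)
  simp_rw [Sylow.smul_subtype, Subgroup.smul_def, smul_smul] at hh
  have hh' := Sylow.smul_eq_iff_mem_normalizer.1 (Sylow.subtype_injective hh)
  obtain ⟨a, ha, hfa⟩ := h.2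
  refine ⟨a⁻¹ * ((h : M) * g0), mul_mem (Subgroup.le_normalizer (inv_mem ha)) hh', ?_⟩
  rw [map_mul, map_inv, map_mul, hfa, inv_mul_cancel_left]

/-- A Sylow seven-subgroup of the normaliser of a Sylow subgroup has nontrivial image. -/
theorem exists_seven_image (f : M →* G') (hf : Function.Surjective f) (P : Sylow p M)
    (S : Sylow 7 (Subgroup.normalizer ((P : Subgroup M) : Set M))) {g' : G'} (h7 : orderOf g' = 7)
    (hg' : g' ∈ Subgroup.normalizer ((P : Subgroup M).map f : Set G')) : ∃ t ∈ S, f (t : M) ≠ 1 := by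
  haveI : Fact (Nat.Prime 7) := ⟨Nat.prime_seven⟩
  set r := (f.comp (Subgroup.normalizer ((P : Subgroup M) : Set M)).subtype).rangeRestrict
  have hr : Function.Surjective r := MonoidHom.rangeRestrict_surjective _
  haveI := Finite.of_surjective _ hr
  obtain ⟨g, hg, e⟩ := normalizer_lift f hf P hg'
  have hd : 7 ∣ Nat.card (f.comp (Subgroup.normalizer ((P : Subgroup M) : Set M)).subtype).range := by
    rw [← h7, ← e, show orderOf (f g) = orderOf (r ⟨g, hg⟩) from Subgroup.orderOf_coe (r ⟨g, hg⟩)]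
    exact orderOf_dvd_natCard _
  have hne := (S.mapSurjective hr).ne_bot_of_dvd_card hd
  rw [Sylow.coe_mapSurjective] at hne
  by_contra hc
  push Not at hc
  refine hne ((Subgroup.map_eq_bot_iff _).2 fun t ht => ?_)
  exact Subtype.ext (hc t ht)

end Sylow

variable {F : Type*} [Field F]

local notation "M7" => Matrix (Fin 7) (Fin 7) F
local notation "G7" => GL (Fin 7) F
local notation "M2" => Matrix (Fin 2) (Fin 2) F
local notation "SL" => Matrix.SpecialLinearGroup (Fin 2) F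
local notation "PSL" => Matrix.ProjectiveSpecialLinearGroup (Fin 2) F

/-! ### Coordinate planes -/

/-- The class of a coordinate under `W`. -/
def cls (r : Fin 7) : ℕ := (r : ℕ) ^ 2 % 7

/-- The coordinates of the planes. -/
def pl (k : Fin 3) : Fin 2 → Fin 7 := ![![1, 6], ![2, 5], ![4, 3]] k

/-- The block on a plane. -/
def blk (k : Fin 3) (M : Matrix (Fin 7) (Fin 7) F) : Matrix (Fin 2) (Fin 2) F :=
  Matrix.of fun r c => M (pl k r) (pl k c)

theorem blk_apply (k : Fin 3) (M : M7) (r c : Fin 2) : blk k M r c = M (pl k r) (pl k c) := rfl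

theorem blk_one (k : Fin 3) : blk k (1 : M7) = 1 := by
  ext r c
  fin_cases k <;> fin_cases r <;> fin_cases c <;> simp [blk, pl]

theorem Jm_comm_apply {M : M7} (e : (Jm : M7) * M = M * Jm) (r c : Fin 7) : M (-r) c = M r (-c) := by
  have := congrFun (congrFun e r) c
  rw [Jm_mul, mul_Jm] at this
  exact neg_injective this

theorem blk_sym {M : M7} (e : (Jm : M7) * M = M * Jm) (k : Fin 3) :
    blk k M 1 1 = blk k M 0 0 ∧ blk k M 1 0 = blk k M 0 1 := by
  constructor
  · have h1 : ∀ k, pl k 1 = -pl k 0 := by decide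
    rw [blk_apply, blk_apply, h1, Jm_comm_apply e, neg_neg]
  · have h1 : ∀ k, pl k 1 = -pl k 0 := by decide
    rw [blk_apply, blk_apply, h1, Jm_comm_apply e]

section Cw

variable {ω : F} (h : Root ω)
include h

theorem off_zero {M : M7} (e : Wm ω * M = M * Wm ω) {r c : Fin 7} (hrc : cls r ≠ cls c) : M r c = 0 := by
  have := congrFun (congrFun e r) c
  rw [Wm, diagonal_mul, mul_diagonal, mul_comm] at this
  by_contra hne
  exact hrc (h.pow_inj (mul_left_cancel₀ hne this))

theorem blk_mul {A B : M7} (eA : Wm ω * A = A * Wm ω) (k : Fin 3) : blk k (A * B) = blk k A * blk k B := by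
  ext r c
  rw [blk_apply, Matrix.mul_apply, Fin.sum_univ_seven, Matrix.mul_apply, Fin.sum_univ_two]
  simp only [blk_apply]
  have z := fun r c hrc => off_zero h eA (r := r) (c := c) hrc
  fin_cases k <;> fin_cases r <;>
    simp (config := { decide := true }) [pl, z] <;> ring

theorem zero_mul_apply {A B : M7} (eA : Wm ω * A = A * Wm ω) : (A * B) 0 0 = A 0 0 * B 0 0 := by
  have z := fun r c hrc => off_zero h eA (r := r) (c := c) hrc
  rw [Matrix.mul_apply, Fin.sum_univ_seven]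
  simp (config := { decide := true }) [z]

theorem eq_of_blk {A B : M7} (eA : Wm ω * A = A * Wm ω) (eB : Wm ω * B = B * Wm ω) (h0 : A 0 0 = B 0 0)
    (hb : ∀ k, blk k A = blk k B) : A = B := by
  have zA := fun r c hrc => off_zero h eA (r := r) (c := c) hrc
  have zB := fun r c hrc => off_zero h eB (r := r) (c := c) hrc
  have hb' : ∀ (k : Fin 3) (r c : Fin 2), A (pl k r) (pl k c) = B (pl k r) (pl k c) := fun k r c =>
    congrFun (congrFun (hb k) r) c
  have cover : ∀ r c : Fin 7, cls r ≠ cls c ∨ (r = 0 ∧ c = 0) ∨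
      ∃ (k : Fin 3) (a b : Fin 2), r = pl k a ∧ c = pl k b := by decide
  ext r c
  rcases cover r c with e | ⟨rfl, rfl⟩ | ⟨k, a, b, rfl, rfl⟩
  · rw [zA r c e, zB r c e]
  · exact h0
  · exact hb' k a b

theorem blk_Xm (k : Fin 3) :
    blk k (Xm ω : M7) = diagonal ![ω ^ (pl k 0 : ℕ), (ω ^ (pl k 0 : ℕ))⁻¹] := by
  have hn : ∀ k, pl k 0 ≠ pl k 1 := by decide
  have hinv : (ω ^ (pl k 1 : ℕ)) = (ω ^ (pl k 0 : ℕ))⁻¹ := by
    refine eq_inv_of_mul_eq_one_left ?_
    rw [← pow_add, h.pow_mod, show ((pl k 1 : ℕ) + (pl k 0 : ℕ)) % 7 = 0 by revert k; decide, pow_zero]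
  ext r c
  rw [blk_apply, Xm]
  fin_cases r <;> fin_cases c <;> simp [hn k, (hn k).symm, hinv]

end Cw

/-- The group of plane parts of determinant one. -/
def planeGrp {ω : F} (h : Root ω) : Subgroup (GL (Fin 7) F) where
  carrier := {m | Wm ω * (m : Matrix (Fin 7) (Fin 7) F) = (m : Matrix (Fin 7) (Fin 7) F) * Wm ω ∧
    (m : Matrix (Fin 7) (Fin 7) F) 0 0 = 1 ∧ ∀ k, (blk k (m : Matrix (Fin 7) (Fin 7) F)).det = 1}
  one_mem' := ⟨by simp, by simp, fun k => by rw [Units.val_one, blk_one, det_one]⟩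
  mul_mem' := fun {a b} ha hb => ⟨by
      rw [Units.val_mul, ← Matrix.mul_assoc, ha.1, Matrix.mul_assoc, hb.1, Matrix.mul_assoc],
    by rw [Units.val_mul, zero_mul_apply h ha.1, ha.2.1, hb.2.1, one_mul],
    fun k => by rw [Units.val_mul, blk_mul h ha.1, det_mul, ha.2.2, hb.2.2, one_mul]⟩
  inv_mem' := fun {a} ha => by
    have hc : Commute (Wm ω) (a : M7) := ha.1
    have hi : Commute (Wm ω) ((a⁻¹ : G7) : M7) := hc.units_inv_right
    refine ⟨hi, ?_, fun k => ?_⟩
    · have := zero_mul_apply h (B := ((a⁻¹ : G7) : M7)) ha.1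
      rw [← Units.val_mul, mul_inv_cancel, Units.val_one, one_apply_eq, ha.2.1, one_mul] at this
      exact this.symm
    · have := congrArg Matrix.det (blk_mul h (B := ((a⁻¹ : G7) : M7)) ha.1 k)
      rw [← Units.val_mul, mul_inv_cancel, Units.val_one, blk_one, det_one, det_mul, ha.2.2, one_mul] at this
      exact this.symm

/-- The part on one plane. -/
def planeHom {ω : F} (h : Root ω) (M : Subgroup (GL (Fin 7) F)) (hM : M ≤ planeGrp h) (k : Fin 3) :
    ↥M →* Matrix.SpecialLinearGroup (Fin 2) F where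
  toFun m := ⟨blk k ((m : GL (Fin 7) F) : Matrix (Fin 7) (Fin 7) F), (hM m.2).2.2 k⟩
  map_one' := Subtype.ext (by
    show blk k ((1 : GL (Fin 7) F) : Matrix (Fin 7) (Fin 7) F) = 1
    rw [Units.val_one, blk_one])
  map_mul' a b := Subtype.ext (by
    show blk k (((a : GL (Fin 7) F) * (b : GL (Fin 7) F) : GL (Fin 7) F) : Matrix (Fin 7) (Fin 7) F) = _
    rw [Units.val_mul, blk_mul h (hM a.2).1]
    rfl)

theorem planeHom_val {ω : F} (h : Root ω) (M : Subgroup G7) (hM : M ≤ planeGrp h) (k : Fin 3) (m : ↥M) :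
    (planeHom h M hM k m).1 = blk k ((m : G7) : M7) := rfl

theorem diag_of_comm {z : F} (hz : z * z ≠ 1) (hz0 : z ≠ 0) {D A : SL} (hD : D.1 = diagonal ![z, z⁻¹])
    (e : A * D = D * A) : A.1 0 1 = 0 ∧ A.1 1 0 = 0 := by
  have e' := congrArg Subtype.val e
  rw [Matrix.SpecialLinearGroup.coe_mul, Matrix.SpecialLinearGroup.coe_mul, hD] at e'
  have a := congrFun (congrFun e' 0) 1
  have b := congrFun (congrFun e' 1) 0
  have hzi : z * z⁻¹ = 1 := mul_inv_cancel₀ hz0
  simp only [mul_diagonal, diagonal_mul, cons_val_zero, cons_val_one] at a b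
  have hne : z * z - 1 ≠ 0 := sub_ne_zero.2 hz
  constructor
  · exact (mul_eq_zero.1 (by linear_combination -z * a + A.1 0 1 * hzi :
      (z * z - 1) * A.1 0 1 = 0)).resolve_left hne
  · exact (mul_eq_zero.1 (by linear_combination z * b + A.1 1 0 * hzi :
      (z * z - 1) * A.1 1 0 = 0)).resolve_left hne

theorem uni_zero_zero (a b : Fin 3 → F) : uni a b 0 0 = 1 := by
  simp (config := { decide := true }) [uni, Matrix.single]

theorem blk_uni (a b : Fin 3 → F) (k : Fin 3) : blk k (uni a b) = !![1, a k; b k, 1] := by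
  ext i j
  fin_cases k <;> fin_cases i <;> fin_cases j <;>
    simp (config := { decide := true }) [blk, pl, uni, Matrix.single, one_apply]

theorem uni_off (a b : Fin 3 → F) {i j : Fin 7} (e : cls i ≠ cls j) : uni a b i j = 0 := by
  revert e
  fin_cases i <;> fin_cases j <;> simp (config := { decide := true }) [uni, Matrix.single, cls, one_apply]

theorem Wm_uni {ω : F} (h : Root ω) (a b : Fin 3 → F) : Wm ω * uni a b = uni a b * Wm ω := by
  ext i j
  rw [Wm, diagonal_mul, mul_diagonal, mul_comm]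
  by_cases e : cls i = cls j
  · have : ω ^ ((i : ℕ) ^ 2) = ω ^ ((j : ℕ) ^ 2) := by rw [h.pow_mod, h.pow_mod ((j : ℕ) ^ 2)]; exact congrArg _ e
    rw [this]
  · rw [uni_off a b e, zero_mul, zero_mul]

theorem trace_of_pgroup {p : ℕ} [Fact p.Prime] [CharP F p] {P : Subgroup SL} (hP : IsPGroup p P) {u : SL}
    (hu : u ∈ P) : u.1.trace = 2 := by
  obtain ⟨n, hn⟩ := hP ⟨u, hu⟩
  have hn' : u.1 ^ p ^ n = 1 := by
    have := congrArg (fun x : P => (x : SL).1) hn
    simpa using this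
  have hnil : IsNilpotent (u.1 - 1) := ⟨p ^ n, by
    haveI : CharP M2 p := inferInstance
    rw [sub_pow_char_pow_of_commute p n (Commute.one_right _), hn', one_pow, sub_self]⟩
  have := (Matrix.isNilpotent_trace_of_isNilpotent hnil).eq_zero
  rw [trace_sub, trace_one, Fintype.card_fin, sub_eq_zero] at this
  simpa using this

/-- A unipotent element and its conjugate under a regular diagonal element: a coordinate axis. -/
theorem axis_of_traces {s : F} (hs : s * s ≠ 1) (hs0 : s ≠ 0) {u : M2} (hd : u.det = 1) (h1 : u.trace = 2)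
    (h2 : (u * (diagonal ![s, s⁻¹] * u * diagonal ![s⁻¹, s])).trace = 2) :
    u 0 0 = 1 ∧ u 1 1 = 1 ∧ u 0 1 * u 1 0 = 0 := by
  rw [det_fin_two] at hd
  rw [trace_fin_two] at h1
  simp [trace_fin_two, Matrix.mul_apply, Fin.sum_univ_two, mul_diagonal, diagonal_mul, hs0] at h2
  have hsi : s * s⁻¹ = 1 := mul_inv_cancel₀ hs0
  have e : (s - s⁻¹) ^ 2 * (u 0 1 * u 1 0) = 0 := by
    linear_combination h2 + 2 * hd - (u 0 0 + u 1 1 + 2) * h1 - 2 * (u 0 1 * u 1 0) * hsi - (u 0 0 ^ 2 + u 1 1 ^ 2) * hsi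
  have hne : (s - s⁻¹) ^ 2 ≠ 0 := pow_ne_zero 2 (sub_ne_zero.2 fun e => hs (by
    nth_rw 2 [e]; exact hsi))
  have h0 := (mul_eq_zero.1 e).resolve_left hne
  have h00 : (u 0 0 - 1) * (u 0 0 - 1) = 0 := by linear_combination -hd + u 0 0 * h1 - h0
  have h00' := sub_eq_zero.1 (mul_self_eq_zero.1 h00)
  exact ⟨h00', by linear_combination h1 - h00', h0⟩

/-- A seven-group with a regular diagonal element is diagonal. -/
theorem seven_group_diag {z : F} (hz : z * z ≠ 1) (hz0 : z ≠ 0) {D : SL} (hD : D.1 = diagonal ![z, z⁻¹])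
    {S : Subgroup SL} [Finite S] (hS : IsPGroup 7 S) (hDS : D ∈ S) {t : SL} (ht : t ∈ S) :
    t.1 0 1 = 0 ∧ t.1 1 0 = 0 := by
  haveI : Fact (Nat.Prime 7) := ⟨Nat.prime_seven⟩
  have hD1 : D ≠ 1 := fun e => hz (by
    have := congrFun (congrFun (hD.symm.trans (congrArg Subtype.val e)) 0) 0
    simp at this
    simp [this])
  haveI : Nontrivial S := ⟨⟨⟨D, hDS⟩, 1, fun e => hD1 (congrArg Subtype.val e)⟩⟩
  haveI := hS.center_nontrivial
  obtain ⟨c, hc⟩ := exists_ne (1 : Subgroup.center S)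
  have hcomm : ∀ r ∈ S, r * ((c : S) : SL) = ((c : S) : SL) * r := fun r hr =>
    congrArg Subtype.val (Subgroup.mem_center_iff.1 c.2 ⟨r, hr⟩)
  obtain ⟨c01, c10⟩ := diag_of_comm hz hz0 hD (hcomm D hDS).symm
  set C : SL := ((c : S) : SL)
  have hdet : C.1 0 0 * C.1 1 1 = 1 := by
    have := C.2
    rw [det_fin_two, c01, zero_mul, sub_zero] at this
    exact this
  have hC0 : C.1 0 0 ≠ 0 := left_ne_zero_of_mul_eq_one hdet
  have hCd : C.1 = diagonal ![C.1 0 0, (C.1 0 0)⁻¹] := by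
    have h11 : C.1 1 1 = (C.1 0 0)⁻¹ := eq_inv_of_mul_eq_one_right hdet
    ext i j
    fin_cases i <;> fin_cases j <;> simp [c01, c10, h11]
  refine diag_of_comm (fun e => hc ?_) hC0 hCd (hcomm t ht)
  -- a scalar of seven-power order is trivial
  obtain ⟨n, hn⟩ := hS (c : S)
  have hn' : C ^ 7 ^ n = 1 := by simpa using congrArg Subtype.val hn
  have h2 : C ^ 2 = 1 := Subtype.ext (by
    rw [Matrix.SpecialLinearGroup.coe_pow, hCd, diagonal_pow, Matrix.SpecialLinearGroup.coe_one, ← diagonal_one]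
    refine congrArg diagonal (funext fun i => ?_)
    fin_cases i <;> simp [pow_two, e, ← mul_inv])
  have h1 : C = 1 := by
    have h7 : Nat.Coprime (7 ^ n) 2 := (Nat.coprime_primes Nat.prime_seven Nat.prime_two).2 (by norm_num) |>.pow_left n
    have := (pow_gcd_eq_one (a := C)).2 ⟨hn', h2⟩
    rwa [Nat.Coprime.gcd_eq_one h7, pow_one] at this
  exact Subtype.ext (Subtype.ext h1)

section Mono

variable [Fintype F] {p : ℕ} [Fact p.Prime] [CharP F p] {ω : F} {H : Subgroup (GL (Fin 7) F)}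

include p in
/-- Off-monomial elements give an adapted unipotent element. -/
theorem exists_uni (O : Over ω H) (hq : NoSub F) {g : GL (Fin 7) F} (hg : g ∈ H)
    (eW : Wm ω * (g : Matrix (Fin 7) (Fin 7) F) = (g : Matrix (Fin 7) (Fin 7) F) * Wm ω)
    (eJ : (Jm : Matrix (Fin 7) (Fin 7) F) * (g : Matrix (Fin 7) (Fin 7) F) = (g : Matrix (Fin 7) (Fin 7) F) * Jm)
    (k₀ : Fin 3) (hk₀ : blk k₀ (g : Matrix (Fin 7) (Fin 7) F) 0 0 * blk k₀ (g : Matrix (Fin 7) (Fin 7) F) 0 1 ≠ 0) :
    ∃ a b : Fin 3 → F, (∀ k, a k = 0 ∨ b k = 0) ∧ (∃ k, a k ≠ 0 ∨ b k ≠ 0) ∧ Mem H (uni a b) := by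
  classical
  have h := O.root
  haveI : Fact (Nat.Prime 7) := ⟨Nat.prime_seven⟩
  obtain ⟨x, hx, ex⟩ := O.hX
  set x' := g * x * g⁻¹ with hx'
  have ex'g : ((x' : G7) : M7) * (g : M7) = (g : M7) * Xm ω := by
    rw [← Units.val_mul, hx', inv_mul_cancel_right, Units.val_mul, ex]
  have hcW : Commute (Wm ω) (x : M7) := by rw [ex]; exact Wm_Xm h
  have hcW' : Commute (Wm ω) ((x' : G7) : M7) := by
    rw [hx', Units.val_mul, Units.val_mul]
    have hcg : Commute (Wm ω) (g : M7) := eW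
    exact (hcg.mul_right hcW).mul_right hcg.units_inv_right
  have hxP : x ∈ planeGrp h := by
    refine ⟨hcW, by rw [ex, Xm]; simp, fun k => ?_⟩
    rw [ex, blk_Xm h, det_diagonal, Fin.prod_univ_two]
    simp [pow_ne_zero _ h.ne_zero]
  have hgd : ∀ k, (blk k (g : M7)).det ≠ 0 := fun k e => by
    have := congrArg Matrix.det (blk_mul h (B := ((g⁻¹ : G7) : M7)) eW k)
    rw [← Units.val_mul, mul_inv_cancel, Units.val_one, blk_one, det_one, det_mul, e, zero_mul] at this
    exact one_ne_zero this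
  have hx'P : x' ∈ planeGrp h := by
    refine ⟨hcW', ?_, fun k => ?_⟩
    · have e := congrFun (congrFun ex'g 0) 0
      rw [zero_mul_apply h hcW', zero_mul_apply h eW, Xm, diagonal_apply_eq, Fin.val_zero, pow_zero, mul_one] at e
      have hg0 : (g : M7) 0 0 ≠ 0 := fun e0 => by
        have := zero_mul_apply h (B := ((g⁻¹ : G7) : M7)) eW
        rw [← Units.val_mul, mul_inv_cancel, Units.val_one, one_apply_eq, e0, zero_mul] at this
        exact one_ne_zero this
      exact (mul_eq_right₀ hg0).1 e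
    · have e := congrArg (fun A => (blk k A).det) ex'g
      simp only [blk_mul h hcW', blk_mul h eW, det_mul, blk_Xm h] at e
      rw [det_diagonal, Fin.prod_univ_two] at e
      simp [pow_ne_zero _ h.ne_zero] at e
      exact (mul_eq_right₀ (hgd k)).1 e
  set M := Subgroup.closure ({x, x'} : Set G7) with hM
  have hMP : M ≤ planeGrp h := by
    rw [hM, Subgroup.closure_le]
    rintro _ (rfl | rfl) <;> assumption
  have hMH : M ≤ H := by
    rw [hM, Subgroup.closure_le]
    rintro _ (rfl | rfl)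
    · exact hx
    · exact mul_mem (mul_mem hg hx) (inv_mem hg)
  set xx : ↥M := ⟨x, Subgroup.subset_closure (Set.mem_insert _ _)⟩
  set xx' : ↥M := ⟨x', Subgroup.subset_closure (Set.mem_insert_of_mem _ rfl)⟩
  set φ := fun k => planeHom h M hMP k with hφ
  set z := fun k : Fin 3 => ω ^ (pl k 0 : ℕ) with hz
  have hz7 : ∀ k, z k ^ 7 = 1 := fun k => by rw [hz, ← pow_mul, mul_comm, pow_mul, h.pow_seven, one_pow]
  have hz1 : ∀ k, z k ≠ 1 := fun k e => by
    have h' : ∀ k, ¬ 7 ∣ (pl k 0 : ℕ) := by decide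
    exact h' k (h.pow_eq_one e)
  have hz0 : ∀ k, z k ≠ 0 := fun k => pow_ne_zero _ h.ne_zero
  have hzz : ∀ k, z k * z k ≠ 1 := fun k => inv_ne_of_seven (hz7 k) (hz1 k)
  have hDx : ∀ k, (φ k xx).1 = diagonal ![z k, (z k)⁻¹] := fun k => by
    show blk k (x : M7) = _
    rw [ex, blk_Xm h]
  -- the conjugate element on a plane
  have hE : ∀ k, ((φ k xx').1 0 1 = 0 ∨ (φ k xx').1 1 0 = 0) ↔
      blk k (g : M7) 0 0 * blk k (g : M7) 0 1 = 0 := by
    intro k
    have e := congrArg (blk k) ex'g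
    rw [blk_mul h hcW', blk_mul h eW, blk_Xm h] at e
    obtain ⟨s11, s10⟩ := blk_sym eJ k
    have hA := hgd k
    rw [det_fin_two, s11, s10] at hA
    have e00 := congrFun (congrFun e 0) 0
    have e01 := congrFun (congrFun e 0) 1
    have e10 := congrFun (congrFun e 1) 0
    have e11 := congrFun (congrFun e 1) 1
    simp only [mul_diagonal] at e00 e01 e10 e11
    simp only [Matrix.mul_apply, Fin.sum_univ_two, s11, s10, cons_val_zero, cons_val_one] at e00 e01 e10 e11
    show ((blk k (x' : M7)) 0 1 = 0 ∨ (blk k (x' : M7)) 1 0 = 0) ↔ _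
    set A := blk k (g : M7) 0 0
    set B := blk k (g : M7) 0 1
    set E := blk k (x' : M7)
    have hzi : ω ^ (pl k 0 : ℕ) ≠ (ω ^ (pl k 0 : ℕ))⁻¹ := fun e => hzz k (by
      show ω ^ (pl k 0 : ℕ) * ω ^ (pl k 0 : ℕ) = 1
      nth_rw 2 [e]
      exact mul_inv_cancel₀ (hz0 k))
    constructor
    · intro hor
      by_contra hAB
      obtain ⟨hA0, hB0⟩ := mul_ne_zero_iff.1 hAB
      rcases hor with e' | e'
      · rw [e'] at e00 e01
        refine hzi ?_
        have a1 : E 0 0 = ω ^ (pl k 0 : ℕ) := mul_right_cancel₀ hA0 (by linear_combination e00)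
        have a2 : E 0 0 = (ω ^ (pl k 0 : ℕ))⁻¹ := mul_right_cancel₀ hB0 (by linear_combination e01)
        exact a1.symm.trans a2
      · rw [e'] at e10 e11
        refine hzi ?_
        have a1 : E 1 1 = ω ^ (pl k 0 : ℕ) := mul_right_cancel₀ hB0 (by linear_combination e10)
        have a2 : E 1 1 = (ω ^ (pl k 0 : ℕ))⁻¹ := mul_right_cancel₀ hA0 (by linear_combination e11)
        exact a1.symm.trans a2
    · intro hAB
      rcases mul_eq_zero.1 hAB with e' | e'
      · rw [e'] at e00 e01 e10 e11 hA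
        have hB0 : B ≠ 0 := fun e => hA (by rw [e]; ring)
        exact Or.inl ((mul_eq_zero.1 (by linear_combination e00 : E 0 1 * B = 0)).resolve_right hB0)
      · rw [e'] at e00 e01 e10 e11 hA
        have hA0 : A ≠ 0 := fun e => hA (by rw [e]; ring)
        exact Or.inl ((mul_eq_zero.1 (by linear_combination e01 : E 0 1 * A = 0)).resolve_right hA0)
  have hE' : ∀ k, blk k (g : M7) 0 0 * blk k (g : M7) 0 1 = 0 →
      (φ k xx').1 0 1 = 0 ∧ (φ k xx').1 1 0 = 0 := by
    intro k hAB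
    have e := congrArg (blk k) ex'g
    rw [blk_mul h hcW', blk_mul h eW, blk_Xm h] at e
    obtain ⟨s11, s10⟩ := blk_sym eJ k
    have hA := hgd k
    rw [det_fin_two, s11, s10] at hA
    have e00 := congrFun (congrFun e 0) 0
    have e01 := congrFun (congrFun e 0) 1
    have e10 := congrFun (congrFun e 1) 0
    have e11 := congrFun (congrFun e 1) 1
    simp only [mul_diagonal] at e00 e01 e10 e11
    simp only [Matrix.mul_apply, Fin.sum_univ_two, s11, s10, cons_val_zero, cons_val_one] at e00 e01 e10 e11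
    show (blk k (x' : M7)) 0 1 = 0 ∧ (blk k (x' : M7)) 1 0 = 0
    set A := blk k (g : M7) 0 0
    set B := blk k (g : M7) 0 1
    set E := blk k (x' : M7)
    rcases mul_eq_zero.1 hAB with e' | e' <;> rw [e'] at e00 e01 e10 e11 hA
    · have hB0 : B ≠ 0 := fun e => hA (by rw [e]; ring)
      exact ⟨(mul_eq_zero.1 (by linear_combination e00 : E 0 1 * B = 0)).resolve_right hB0,
        (mul_eq_zero.1 (by linear_combination e11 : E 1 0 * B = 0)).resolve_right hB0⟩
    · have hA0 : A ≠ 0 := fun e => hA (by rw [e]; ring)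
      exact ⟨(mul_eq_zero.1 (by linear_combination e01 : E 0 1 * A = 0)).resolve_right hA0,
        (mul_eq_zero.1 (by linear_combination e10 : E 1 0 * A = 0)).resolve_right hA0⟩
  -- diagonal planes
  have hdiag : ∀ k, blk k (g : M7) 0 0 * blk k (g : M7) 0 1 = 0 →
      ∀ m : ↥M, (φ k m).1 0 1 = 0 ∧ (φ k m).1 1 0 = 0 := by
    intro k hAB m
    obtain ⟨m, hm⟩ := m
    induction hm using Subgroup.closure_induction with
    | mem y hy =>
      rcases hy with ey | ey
      · show blk k (y : M7) 0 1 = 0 ∧ blk k (y : M7) 1 0 = 0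
        rw [ey, ex, blk_Xm h]
        simp
      · subst ey
        exact hE' k hAB
    | one =>
      show blk k ((1 : G7) : M7) 0 1 = 0 ∧ blk k ((1 : G7) : M7) 1 0 = 0
      rw [Units.val_one, blk_one]
      simp
    | mul a b ha hb iha ihb =>
      show blk k ((a * b : G7) : M7) 0 1 = 0 ∧ blk k ((a * b : G7) : M7) 1 0 = 0
      have ia : blk k (a : M7) 0 1 = 0 ∧ blk k (a : M7) 1 0 = 0 := iha
      have ib : blk k (b : M7) 0 1 = 0 ∧ blk k (b : M7) 1 0 = 0 := ihb
      obtain ⟨a1, a2⟩ := ia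
      obtain ⟨b1, b2⟩ := ib
      rw [Units.val_mul, blk_mul h (hMP ha).1]
      simp [Matrix.mul_apply, Fin.sum_univ_two, a1, a2, b1, b2]
    | inv a ha iha =>
      have e : φ k ⟨a⁻¹, inv_mem ha⟩ = (φ k ⟨a, ha⟩)⁻¹ := map_inv (φ k) ⟨a, ha⟩
      rw [e, Matrix.SpecialLinearGroup.coe_inv, Matrix.adjugate_fin_two]
      simpa using iha
  -- full planes
  have hfull : ∀ k, blk k (g : M7) 0 0 * blk k (g : M7) 0 1 ≠ 0 →
      Function.Surjective ((pmk : SL →* PSL).comp (φ k)) := by
    intro k hAB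
    rw [← MonoidHom.range_eq_top]
    have h7 : φ k xx' ^ 7 = 1 := by
      rw [← map_pow, show xx' ^ 7 = 1 from Subtype.ext (by
        rw [SubmonoidClass.coe_pow, OneMemClass.coe_one]
        show (g * x * g⁻¹) ^ 7 = 1
        rw [conj_pow, show x ^ 7 = 1 from Units.ext (by rw [Units.val_pow_eq_pow_val, ex, Xm_pow_seven h, Units.val_one]),
          mul_one, mul_inv_cancel]), map_one]
    obtain ⟨e1, e2⟩ := not_or.1 (fun e => hAB ((hE k).1 e))
    exact plane_top (p := p) hq (hz7 k) (hz1 k) (hDx k) h7 e1 e2 ⟨xx, rfl⟩ ⟨xx', rfl⟩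
  -- the Sylow subgroups
  obtain ⟨Sx, hxS⟩ := (show IsPGroup 7 (Subgroup.zpowers xx) from IsPGroup.of_card (n := 1) (by
    rw [Nat.card_zpowers, pow_one]
    refine orderOf_eq_prime (Subtype.ext (Units.ext (by
      rw [SubmonoidClass.coe_pow, Units.val_pow_eq_pow_val]
      show (x : M7) ^ 7 = _
      rw [ex, Xm_pow_seven h]
      rfl))) fun e => ?_
    have := congrFun (congrFun (hDx 0).symm 0) 0
    rw [e, map_one] at this
    simp at this
    exact hz1 0 this)).exists_le_sylow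
  have hSdiag : ∀ k, ∀ t ∈ Sx, (φ k t).1 0 1 = 0 ∧ (φ k t).1 1 0 = 0 := fun k t ht =>
    seven_group_diag (hzz k) (hz0 k) (hDx k) (Sx.2.map (φ k)) ⟨xx, hxS (Subgroup.mem_zpowers _), rfl⟩ ⟨t, ht, rfl⟩
  let P : Sylow p ↥M := default
  let S : Sylow 7 ↥(Subgroup.normalizer ((P : Subgroup ↥M) : Set ↥M)) := default
  obtain ⟨S', hS'⟩ := (S.2.map (Subgroup.normalizer ((P : Subgroup ↥M) : Set ↥M)).subtype).exists_le_sylow
  obtain ⟨c, hc⟩ := MulAction.exists_smul_eq ↥M S' Sx
  have hPne : (P : Subgroup ↥M) ≠ ⊥ := by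
    intro e
    have hs := hfull k₀ hk₀
    have hd : p ∣ Nat.card PSL := by
      refine dvd_trans ?_ (Subgroup.card_subgroup_dvd_card
        ((PSL2.uSylow (F := F) p : Sylow p PSL) : Subgroup PSL))
      rw [DicksonFull.card_uSylow p]
      obtain ⟨n, -, hn⟩ := FiniteField.card F p
      rw [hn]
      exact dvd_pow_self p n.ne_zero
    have hP' := (P.mapSurjective hs).ne_bot_of_dvd_card hd
    rw [Sylow.coe_mapSurjective, e, Subgroup.map_bot] at hP'
    exact hP' rfl
  obtain ⟨u, huP, hu1⟩ := (Subgroup.bot_or_exists_ne_one (P : Subgroup ↥M)).resolve_left hPne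
  set v : ↥M := c * u * c⁻¹ with hv
  have hv1 : v ≠ 1 := fun e => hu1 (conj_eq_one_iff.1 e)
  have haxis : ∀ k, (φ k v).1 0 0 = 1 ∧ (φ k v).1 1 1 = 1 ∧ (φ k v).1 0 1 * (φ k v).1 1 0 = 0 := by
    intro k
    have hpP := P.2.map ((φ k).comp (MulAut.conj c).toMonoidHom)
    have hm : ∀ w ∈ P, φ k (c * w * c⁻¹) ∈ (P : Subgroup ↥M).map ((φ k).comp (MulAut.conj c).toMonoidHom) :=
      fun w hw => ⟨w, hw, rfl⟩
    have htr := trace_of_pgroup (p := p) hpP (hm u huP)
    by_cases hAB : blk k (g : M7) 0 0 * blk k (g : M7) 0 1 = 0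
    · obtain ⟨a, b⟩ := hdiag k hAB v
      have hd := (φ k v).2
      rw [det_fin_two, a, zero_mul, sub_zero] at hd
      rw [trace_fin_two] at htr
      have h00 : ((φ k v).1 0 0 - 1) * ((φ k v).1 0 0 - 1) = 0 := by
        linear_combination (φ k v).1 0 0 * htr - hd
      have h00' := sub_eq_zero.1 (mul_self_eq_zero.1 h00)
      exact ⟨h00', by linear_combination htr - h00', by rw [a, zero_mul]⟩
    have hs := hfull k hAB
    obtain ⟨d, hd⟩ := MulAction.exists_smul_eq PSL (PSL2.uSylow p) (P.mapSurjective hs)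
    set xb : PSL := pmk (φ k xx)
    have hxb7 : orderOf xb = 7 := by
      refine orderOf_eq_prime ?_ fun e => ?_
      · rw [← map_pow, ← map_pow, show xx ^ 7 = 1 from Subtype.ext (Units.ext (by
          rw [SubmonoidClass.coe_pow, Units.val_pow_eq_pow_val]
          show (x : M7) ^ 7 = _
          rw [ex, Xm_pow_seven h]
          rfl)), map_one, map_one]
      · rw [← map_one pmk, mk_eq_mk] at e
        rcases e with e | e <;> rw [hDx] at e <;> have := congrFun (congrFun e 0) 0 <;> simp at this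
        · exact hz1 k this.symm
        · exact hzz k (by rw [← neg_eq_iff_eq_neg.2 this]; ring)
    have hnx : ∀ t : F, xb * PSL2.uu t * xb⁻¹ = PSL2.uu (z k * z k * t) := by
      intro t
      rw [PSL2.uu_eq, PSL2.uu_eq, ← map_inv, ← map_mul, ← map_mul]
      refine congrArg _ (Subtype.ext ?_)
      rw [Matrix.SpecialLinearGroup.coe_mul, Matrix.SpecialLinearGroup.coe_mul, Matrix.SpecialLinearGroup.coe_inv,
        hDx, PSL2.coe_uSL, PSL2.coe_uSL, Matrix.adjugate_fin_two]
      ext i j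
      fin_cases i <;> fin_cases j <;> simp [Matrix.mul_apply, Fin.sum_univ_two, hz0 k] <;> ring
    have hnorm : d * xb * d⁻¹ ∈ Subgroup.normalizer ((P : Subgroup ↥M).map ((pmk).comp (φ k)) : Set PSL) := by
      have hx0 : xb ∈ Subgroup.normalizer ((PSL2.uSylow (F := F) p : Sylow p PSL) : Set PSL) := by
        rw [Subgroup.mem_set_normalizer_iff]
        intro w
        constructor
        · rintro ⟨t, rfl⟩
          exact ⟨Multiplicative.ofAdd (z k * z k * t.toAdd), (hnx t.toAdd).symm⟩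
        · rintro ⟨t, ht⟩
          refine ⟨Multiplicative.ofAdd ((z k * z k)⁻¹ * t.toAdd), ?_⟩
          refine mul_left_cancel (a := xb) (mul_right_cancel (b := xb⁻¹) ?_)
          rw [← ht]
          show xb * PSL2.uu _ * xb⁻¹ = PSL2.uu t.toAdd
          rw [hnx, ← mul_assoc, mul_inv_cancel₀ (mul_ne_zero (hz0 k) (hz0 k)), one_mul]
      rw [← Sylow.coe_mapSurjective hs P, ← hd]
      have hfix := Sylow.smul_eq_iff_mem_normalizer.2 hx0
      refine Sylow.smul_eq_iff_mem_normalizer.1 ?_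
      rw [smul_smul, inv_mul_cancel_right, mul_smul, hfix]
    obtain ⟨t, htS, ht1⟩ := exists_seven_image ((pmk).comp (φ k)) hs P S
      (g' := d * xb * d⁻¹) (by rw [← hxb7]; exact (MulAut.conj d).orderOf_eq xb) hnorm
    set τ : ↥M := c * (t : ↥M) * c⁻¹
    have hτS : τ ∈ Sx := by
      rw [← hc]
      exact ⟨t, hS' ⟨t, htS, rfl⟩, rfl⟩
    obtain ⟨a, b⟩ := hSdiag k τ hτS
    have hdτ := (φ k τ).2
    rw [det_fin_two, a, zero_mul, sub_zero] at hdτ
    have hs0 : (φ k τ).1 0 0 ≠ 0 := left_ne_zero_of_mul_eq_one hdτ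
    have hi : (φ k τ).1 1 1 = ((φ k τ).1 0 0)⁻¹ := eq_inv_of_mul_eq_one_right hdτ
    have hτd : (φ k τ).1 = diagonal ![(φ k τ).1 0 0, ((φ k τ).1 0 0)⁻¹] := by
      ext i j
      fin_cases i <;> fin_cases j <;> simp [a, b, hi]
    have hss : (φ k τ).1 0 0 * (φ k τ).1 0 0 ≠ 1 := fun e => by
      apply ht1
      have hpm : pmk (φ k τ) = (1 : PSL) := by
        rw [← map_one pmk, mk_eq_mk]
        rcases mul_self_eq_one_iff.1 e with e | e
        · exact Or.inl (by rw [hτd, e]; ext i j; fin_cases i <;> fin_cases j <;> simp)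
        · exact Or.inr (by rw [hτd, e]; ext i j; fin_cases i <;> fin_cases j <;> simp)
      simp only [τ, map_mul, map_inv] at hpm
      exact conj_eq_one_iff.1 hpm
    refine axis_of_traces hss hs0 (φ k v).2 htr ?_
    have hw : (t : ↥M) * u * (t : ↥M)⁻¹ ∈ P := (Subgroup.mem_normalizer_iff.1 t.2 u).1 huP
    have := trace_of_pgroup (p := p) hpP (hm _ (mul_mem huP hw))
    rw [show c * (u * ((t : ↥M) * u * (t : ↥M)⁻¹)) * c⁻¹ = v * (τ * v * τ⁻¹) by simp only [hv, τ]; group] at this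
    have key : ∀ X Y : ↥M, (φ k (X * (Y * X * Y⁻¹))).1 =
        (φ k X).1 * ((φ k Y).1 * (φ k X).1 * (φ k Y).1.adjugate) := fun X Y => by
      rw [map_mul, map_mul, map_mul, map_inv, Matrix.SpecialLinearGroup.coe_mul, Matrix.SpecialLinearGroup.coe_mul,
        Matrix.SpecialLinearGroup.coe_mul, Matrix.SpecialLinearGroup.coe_inv]
    rw [key] at this
    have hadj : ((φ k τ).1.adjugate) = diagonal ![((φ k τ).1 0 0)⁻¹, (φ k τ).1 0 0] := by
      rw [Matrix.adjugate_fin_two]
      ext i j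
      fin_cases i <;> fin_cases j <;> simp [a, b, hi]
    rw [← hadj, ← hτd]
    exact this
  refine ⟨fun k => (φ k v).1 0 1, fun k => (φ k v).1 1 0, fun k => mul_eq_zero.1 (haxis k).2.2, ?_,
    ⟨(v : G7), hMH v.2, ?_⟩⟩
  · by_contra hcon
    push Not at hcon
    refine hv1 (Subtype.ext (Units.ext (eq_of_blk h (hMP v.2).1 (by simp) ?_ fun k => ?_)))
    · rw [(hMP v.2).2.1]; simp
    · obtain ⟨a, b, -⟩ := haxis k
      ext i j
      show (φ k v).1 i j = blk k (1 : M7) i j
      rw [blk_one]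
      fin_cases i <;> fin_cases j <;> simp [a, b, (hcon k).1, (hcon k).2]
  · refine eq_of_blk h (hMP v.2).1 (Wm_uni h _ _) ?_ fun k => ?_
    · rw [(hMP v.2).2.1, uni_zero_zero]
    · obtain ⟨a, b, -⟩ := haxis k
      rw [blk_uni]
      ext i j
      show (φ k v).1 i j = _
      fin_cases i <;> fin_cases j <;> simp [a, b]

variable (O : Over ω H) (hq : NoSub F) (hspan : Spans ω)
  (hn : ∃ n : ℕ, (n : F) = ω + ω ^ 2 + ω ^ 4) (hn' : ∃ n : ℕ, (n : F) = ω ^ 3 + ω ^ 5 + ω ^ 6)

include p O hq hspan hn hn' in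
/-- The monomial property of the centraliser of `W` and `J`. -/
theorem monomial_of_not_top (hnt : ¬ ∀ s : Matrix.SpecialLinearGroup (Fin 7) F, Matrix.SpecialLinearGroup.toGL s ∈ H)
    {g : GL (Fin 7) F} (hg : g ∈ H)
    (eW : Wm ω * (g : Matrix (Fin 7) (Fin 7) F) = (g : Matrix (Fin 7) (Fin 7) F) * Wm ω)
    (eJ : (Jm : Matrix (Fin 7) (Fin 7) F) * (g : Matrix (Fin 7) (Fin 7) F) = (g : Matrix (Fin 7) (Fin 7) F) * Jm)
    (k : Fin 3) : blk k (g : Matrix (Fin 7) (Fin 7) F) 0 0 * blk k (g : Matrix (Fin 7) (Fin 7) F) 0 1 = 0 := by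
  by_contra hk
  obtain ⟨a, b, hab, hne, hu⟩ := exists_uni (p := p) O hq hg eW eJ k hk
  exact hnt (top_of_uni O hspan rfl rfl hn hn' hab hne hu)

end Mono

end CfsgLib.MaxSub.HeisSeven
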