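/-
The two blocks of the centraliser of the central involution, in odd characteristic.
-/
import Cfsg.Agent.Lib.MaxSub.HeisSeven.Plane

set_option autoImplicit false
set_option linter.unusedSectionVars false
set_option linter.style.haveILetI false
set_option maxHeartbeats 1600000

namespace CfsgLib.MaxSub.HeisSeven

open Matrix

variable {F : Type*} [Field F]

local notation "M7" => Matrix (Fin 7) (Fin 7) F
local notation "G7" => GL (Fin 7) F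
local notation "M4" => Matrix (Fin 4) (Fin 4) F
local notation "M3" => Matrix (Fin 3) (Fin 3) F
local notation "𝐀" => (Ea : Matrix (Fin 7) (Fin 4) F)
local notation "𝐚" => (La : Matrix (Fin 4) (Fin 7) F)
local notation "𝐁" => (Eb : Matrix (Fin 7) (Fin 3) F)
local notation "𝐛" => (Lb : Matrix (Fin 3) (Fin 7) F)
local notation "𝐉" => (Jm : Matrix (Fin 7) (Fin 7) F)

/-- The block on the space negated by the involution. -/
def ba (M : Matrix (Fin 7) (Fin 7) F) : Matrix (Fin 4) (Fin 4) F :=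
  (La : Matrix (Fin 4) (Fin 7) F) * M * (Ea : Matrix (Fin 7) (Fin 4) F)

/-- The block on the space fixed by the involution. -/
def bb (M : Matrix (Fin 7) (Fin 7) F) : Matrix (Fin 3) (Fin 3) F :=
  (Lb : Matrix (Fin 3) (Fin 7) F) * M * (Eb : Matrix (Fin 7) (Fin 3) F)

/-- The weights of `W` on the negated space. -/
def wa : Fin 4 → ℕ := ![0, 1, 4, 2]

/-- The weights of `W` on the fixed space. -/
def wb : Fin 3 → ℕ := ![1, 4, 2]

/-- A coordinate of each basis vector of the negated space. -/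
def ia : Fin 4 → Fin 7 := ![0, 1, 2, 4]

/-- The scalar matrix commutes with the involution. -/
theorem Jm_smul_one (c : F) : 𝐉 * (c • 1 : M7) = (c • 1 : M7) * 𝐉 := by
  rw [Matrix.mul_smul, Matrix.mul_one, Matrix.smul_mul, Matrix.one_mul]

section Blocks

variable (h2 : (2 : F) ≠ 0)
include h2

theorem La_Ea : (𝐚 * 𝐀 : M4) = 1 := by
  ext i j
  rw [Matrix.mul_apply, Fin.sum_univ_seven]
  fin_cases i <;> fin_cases j <;> simp [La, Ea, one_apply, ← two_mul, h2]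

theorem Lb_Eb : (𝐛 * 𝐁 : M3) = 1 := by
  ext i j
  rw [Matrix.mul_apply, Fin.sum_univ_seven]
  fin_cases i <;> fin_cases j <;> simp [Lb, Eb, one_apply, ← two_mul, h2]

theorem blocks_add : 𝐀 * 𝐚 + 𝐁 * 𝐛 = (1 : M7) := by
  ext i j
  rw [Matrix.add_apply, Matrix.mul_apply, Matrix.mul_apply, Fin.sum_univ_four, Fin.sum_univ_three]
  fin_cases i <;> fin_cases j <;> simp [La, Lb, Ea, Eb, one_apply, ← two_mul, h2]

omit h2

theorem La_Eb : (𝐚 * 𝐁 : Matrix (Fin 4) (Fin 3) F) = 0 := by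
  ext i j
  rw [Matrix.mul_apply, Fin.sum_univ_seven]
  fin_cases i <;> fin_cases j <;> simp [La, Eb]

theorem Lb_Ea : (𝐛 * 𝐀 : Matrix (Fin 3) (Fin 4) F) = 0 := by
  ext i j
  rw [Matrix.mul_apply, Fin.sum_univ_seven]
  fin_cases i <;> fin_cases j <;> simp [Lb, Ea]

theorem mul_Ea_zero (M : M7) (r : Fin 7) : (M * 𝐀) r 0 = M r 0 := by
  rw [Matrix.mul_apply, Fin.sum_univ_seven]
  simp [Ea]

theorem mul_Ea_succ (M : M7) (r : Fin 7) (k : Fin 3) : (M * 𝐀) r k.succ = M r (pl k 0) + M r (pl k 1) := by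
  rw [Matrix.mul_apply, Fin.sum_univ_seven]
  fin_cases k <;> simp [Ea, pl, add_comm]

theorem mul_Eb_apply (M : M7) (r : Fin 7) (k : Fin 3) : (M * 𝐁) r k = M r (pl k 0) - M r (pl k 1) := by
  rw [Matrix.mul_apply, Fin.sum_univ_seven]
  fin_cases k <;> simp [Eb, pl, sub_eq_add_neg, add_comm]

theorem Jm_Ea : (𝐉 * 𝐀 : Matrix (Fin 7) (Fin 4) F) = -𝐀 := by
  ext i j
  rw [Matrix.mul_apply, Fin.sum_univ_seven]
  fin_cases i <;> fin_cases j <;> simp (config := { decide := true }) [Jm, Ea]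

theorem Jm_Eb : (𝐉 * 𝐁 : Matrix (Fin 7) (Fin 3) F) = 𝐁 := by
  ext i j
  rw [Matrix.mul_apply, Fin.sum_univ_seven]
  fin_cases i <;> fin_cases j <;> simp (config := { decide := true }) [Jm, Eb]

theorem La_Jm : (𝐚 * 𝐉 : Matrix (Fin 4) (Fin 7) F) = -𝐚 := by
  ext i j
  rw [Matrix.mul_apply, Fin.sum_univ_seven]
  fin_cases i <;> fin_cases j <;> simp (config := { decide := true }) [Jm, La]

theorem Lb_Jm : (𝐛 * 𝐉 : Matrix (Fin 3) (Fin 7) F) = 𝐛 := by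
  ext i j
  rw [Matrix.mul_apply, Fin.sum_univ_seven]
  fin_cases i <;> fin_cases j <;> simp (config := { decide := true }) [Jm, Lb]

include h2

variable {M : Matrix (Fin 7) (Fin 7) F} (hM : (Jm : Matrix (Fin 7) (Fin 7) F) * M = M * (Jm : Matrix (Fin 7) (Fin 7) F))
include hM

theorem Lb_M_Ea : 𝐛 * M * 𝐀 = (0 : Matrix (Fin 3) (Fin 4) F) := by
  have e : 𝐛 * M * 𝐀 = -(𝐛 * M * 𝐀) := by
    conv_lhs => rw [← Lb_Jm, Matrix.mul_assoc 𝐛 𝐉 M, hM, ← Matrix.mul_assoc, Matrix.mul_assoc (𝐛 * M), Jm_Ea,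
      Matrix.mul_neg]
  ext i j
  have := congrFun (congrFun e i) j
  rw [Matrix.neg_apply] at this
  simpa [h2] using (by linear_combination this : (2 : F) * (𝐛 * M * 𝐀) i j = 0)

theorem La_M_Eb : 𝐚 * M * 𝐁 = (0 : Matrix (Fin 4) (Fin 3) F) := by
  have e : 𝐚 * M * 𝐁 = -(𝐚 * M * 𝐁) := by
    rw [← Matrix.neg_mul, ← Matrix.neg_mul, ← La_Jm, Matrix.mul_assoc 𝐚 𝐉 M, hM, ← Matrix.mul_assoc,
      Matrix.mul_assoc (𝐚 * M) 𝐉, Jm_Eb]
  ext i j
  have := congrFun (congrFun e i) j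
  rw [Matrix.neg_apply] at this
  simpa [h2] using (by linear_combination this : (2 : F) * (𝐚 * M * 𝐁) i j = 0)

theorem mul_Ea : M * 𝐀 = 𝐀 * ba M := by
  calc M * 𝐀 = (𝐀 * 𝐚 + 𝐁 * 𝐛) * (M * 𝐀) := by rw [blocks_add h2, Matrix.one_mul]
    _ = 𝐀 * (𝐚 * M * 𝐀) + 𝐁 * (𝐛 * M * 𝐀) := by simp only [Matrix.add_mul, Matrix.mul_assoc]
    _ = _ := by rw [Lb_M_Ea h2 hM, Matrix.mul_zero, add_zero, ba]

theorem mul_Eb : M * 𝐁 = 𝐁 * bb M := by
  calc M * 𝐁 = (𝐀 * 𝐚 + 𝐁 * 𝐛) * (M * 𝐁) := by rw [blocks_add h2, Matrix.one_mul]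
    _ = 𝐀 * (𝐚 * M * 𝐁) + 𝐁 * (𝐛 * M * 𝐁) := by simp only [Matrix.add_mul, Matrix.mul_assoc]
    _ = _ := by rw [La_M_Eb h2 hM, Matrix.mul_zero, zero_add, bb]

theorem eq_blocks : M = 𝐀 * ba M * 𝐚 + 𝐁 * bb M * 𝐛 := by
  rw [← mul_Ea h2 hM, ← mul_Eb h2 hM, Matrix.mul_assoc, Matrix.mul_assoc, ← Matrix.mul_add, blocks_add h2,
    Matrix.mul_one]

theorem ba_mul (N : M7) : ba (N * M) = ba N * ba M := by
  show 𝐚 * (N * M) * 𝐀 = 𝐚 * N * 𝐀 * ba M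
  rw [Matrix.mul_assoc (𝐚 * N) 𝐀, ← mul_Ea h2 hM]
  simp only [Matrix.mul_assoc]

theorem bb_mul (N : M7) : bb (N * M) = bb N * bb M := by
  show 𝐛 * (N * M) * 𝐁 = 𝐛 * N * 𝐁 * bb M
  rw [Matrix.mul_assoc (𝐛 * N) 𝐁, ← mul_Eb h2 hM]
  simp only [Matrix.mul_assoc]

theorem det_blocks : M.det = (ba M).det * (bb M).det := by
  have hPQ : (Matrix.fromRows 𝐚 𝐛 * Matrix.fromCols 𝐀 𝐁 : Matrix (Fin 4 ⊕ Fin 3) (Fin 4 ⊕ Fin 3) F) = 1 := by
    rw [Matrix.fromRows_mul_fromCols, La_Ea h2, Lb_Eb h2, La_Eb, Lb_Ea, Matrix.fromBlocks_one]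
  have hQP : (Matrix.fromCols 𝐀 𝐁 * Matrix.fromRows 𝐚 𝐛 : M7) = 1 := by
    rw [Matrix.fromCols_mul_fromRows, blocks_add h2]
  rw [← Matrix.det_conj_of_mul_eq_one hPQ hQP (N := M), Matrix.fromRows_mul, Matrix.fromRows_mul_fromCols,
    La_M_Eb h2 hM, Lb_M_Ea h2 hM, Matrix.det_fromBlocks_zero₂₁]
  rfl

theorem ba_entry (r c : Fin 4) : ba M r c = (M * 𝐀) (ia r) c := by
  rw [mul_Ea h2 hM, Matrix.mul_apply, Fin.sum_univ_four]
  fin_cases r <;> simp [Ea, ia]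

theorem bb_entry (k c : Fin 3) : bb M k c = (M * 𝐁) (pl k 0) c := by
  rw [mul_Eb h2 hM, Matrix.mul_apply, Fin.sum_univ_three]
  fin_cases k <;> simp [Eb, pl]

theorem ba_diag_entry (k : Fin 3) : ba M k.succ k.succ = blk k M 0 0 + blk k M 0 1 := by
  rw [ba_entry h2 hM, Matrix.mul_apply, Fin.sum_univ_seven, blk_apply, blk_apply]
  fin_cases k <;> simp [Ea, ia, pl, add_comm]

theorem bb_diag_entry (k : Fin 3) : bb M k k = blk k M 0 0 - blk k M 0 1 := by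
  rw [bb_entry h2 hM, Matrix.mul_apply, Fin.sum_univ_seven, blk_apply, blk_apply]
  fin_cases k <;> simp [Eb, pl, sub_eq_add_neg, add_comm]

end Blocks

section Rels

variable {ω : F} (h : Root ω) (h2 : (2 : F) ≠ 0)
include h h2

theorem pow_add_ne {a b : ℕ} : ω ^ a + ω ^ b ≠ 0 := fun e => by
  have e2 : ω ^ (2 * a) = ω ^ (2 * b) := by
    rw [two_mul, two_mul, pow_add, pow_add, eq_neg_of_add_eq_zero_left e, neg_mul_neg]
  have e3 := h.pow_inj e2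
  have e4 : ω ^ a = ω ^ b := by rw [h.pow_mod a, h.pow_mod b, show a % 7 = b % 7 by omega]
  rw [e4, ← two_mul] at e
  exact h2 ((mul_eq_zero.1 e).resolve_right (pow_ne_zero _ h.ne_zero))

omit h2 in
theorem pow_sub_ne {a b : ℕ} (hab : a % 7 ≠ b % 7) : ω ^ a - ω ^ b ≠ 0 :=
  sub_ne_zero.2 fun e => hab (h.pow_inj e)

theorem ba_Wm : ba (Wm ω : M7) = diagonal fun r => ω ^ wa r := by
  ext r c
  rw [ba_entry h2 (Jm_Wm h), Wm, diagonal_mul]
  have h4 : ∀ n, ω ^ n = ω ^ (n % 7) := h.pow_mod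
  fin_cases r <;> fin_cases c <;> simp [Ea, ia, wa, h4 16]

theorem bb_Wm : bb (Wm ω : M7) = diagonal fun r => ω ^ wb r := by
  ext r c
  rw [bb_entry h2 (Jm_Wm h), Wm, diagonal_mul]
  have h4 : ∀ n, ω ^ n = ω ^ (n % 7) := h.pow_mod
  fin_cases r <;> fin_cases c <;> simp [Eb, pl, wb, h4 16]

theorem ba_Fm_ne (r c : Fin 4) : ba (Fm ω : M7) r c ≠ 0 := by
  rw [ba_entry h2 (Fm_comm h), Fm_eq, Matrix.smul_mul, Matrix.smul_apply, smul_eq_mul]
  refine mul_ne_zero (fcoef_ne_zero h) ?_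
  refine Fin.cases ?_ (fun k => ?_) c
  · rw [mul_Ea_zero, of_apply]
    exact pow_ne_zero _ h.ne_zero
  · rw [mul_Ea_succ, of_apply, of_apply]
    exact pow_add_ne h h2

theorem bb_Fm_ne (r c : Fin 3) : bb (Fm ω : M7) r c ≠ 0 := by
  rw [bb_entry h2 (Fm_comm h), Fm_eq, Matrix.smul_mul, Matrix.smul_apply, smul_eq_mul]
  refine mul_ne_zero (fcoef_ne_zero h) ?_
  rw [mul_Eb_apply, of_apply, of_apply]
  have hne : ∀ r c : Fin 3, (pl r 0 : ℕ) * (pl c 0 : ℕ) % 7 ≠ (pl r 0 : ℕ) * (pl c 1 : ℕ) % 7 := by decide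
  exact pow_sub_ne h (hne r c)

omit h2 in
theorem FTF : ∃ c : F, (Fm ω * Wm ω ^ 4 * Fm ω : M7) = c • (Wm ω ^ 3 * (Fm ω * 𝐉) * Wm ω ^ 3) := by
  set C := fcoef ω
  set g : F := ∑ k : Fin 7, ω ^ (4 * (k : ℕ) ^ 2)
  refine ⟨-(C * g), ?_⟩
  ext i j
  rw [Fm_eq, Wm, diagonal_pow, diagonal_pow, Matrix.smul_mul, Matrix.smul_mul, Matrix.mul_smul, smul_smul,
    Matrix.smul_apply, Matrix.smul_apply, mul_diagonal, diagonal_mul, Matrix.smul_mul, Matrix.smul_apply, mul_Jm,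
    Matrix.mul_apply, smul_eq_mul, smul_eq_mul, smul_eq_mul]
  simp only [mul_diagonal, of_apply, Pi.pow_apply, ← pow_mul]
  have hexp : ∀ i j k : Fin 7, ((i : ℕ) * (k : ℕ) + (k : ℕ) ^ 2 * 4 + (k : ℕ) * (j : ℕ)) % 7 =
      (4 * ((k + (i + j) : Fin 7) : ℕ) ^ 2 + (i : ℕ) ^ 2 * 3 + (i : ℕ) * ((-j : Fin 7) : ℕ) + (j : ℕ) ^ 2 * 3) % 7 := by
    decide
  have hsum : ∑ k : Fin 7, ω ^ ((i : ℕ) * (k : ℕ)) * ω ^ ((k : ℕ) ^ 2 * 4) * ω ^ ((k : ℕ) * (j : ℕ)) =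
      g * (ω ^ ((i : ℕ) ^ 2 * 3) * ω ^ ((i : ℕ) * ((-j : Fin 7) : ℕ)) * ω ^ ((j : ℕ) ^ 2 * 3)) := by
    simp only [g, Finset.sum_mul]
    refine Fintype.sum_equiv (Equiv.addRight (i + j)) _ _ fun k => ?_
    simp only [Equiv.coe_addRight, ← pow_add]
    rw [h.pow_mod, hexp i j k, ← h.pow_mod]
    congr 1
    ring
  rw [hsum]
  ring

end Rels

/-- The action on the negated space. -/
def pA (h2 : (2 : F) ≠ 0) (H : Subgroup (GL (Fin 7) F)) : ↥(cenJ H) →* GL (Fin 4) F :=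
  MonoidHom.toHomUnits
    { toFun := fun g => ba ((g : GL (Fin 7) F) : Matrix (Fin 7) (Fin 7) F)
      map_one' := by rw [OneMemClass.coe_one, Units.val_one, ba, Matrix.mul_one, La_Ea h2]
      map_mul' := fun a b => by rw [Subgroup.coe_mul, Units.val_mul, ba_mul h2 (cenJ_comm b)] }

/-- The action on the fixed space. -/
def pB (h2 : (2 : F) ≠ 0) (H : Subgroup (GL (Fin 7) F)) : ↥(cenJ H) →* GL (Fin 3) F :=
  MonoidHom.toHomUnits
    { toFun := fun g => bb ((g : GL (Fin 7) F) : Matrix (Fin 7) (Fin 7) F)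
      map_one' := by rw [OneMemClass.coe_one, Units.val_one, bb, Matrix.mul_one, Lb_Eb h2]
      map_mul' := fun a b => by rw [Subgroup.coe_mul, Units.val_mul, bb_mul h2 (cenJ_comm b)] }

section

variable {H : Subgroup (GL (Fin 7) F)} (h2 : (2 : F) ≠ 0)

theorem pA_val (g : ↥(cenJ H)) : ((pA h2 H g : GL (Fin 4) F) : M4) = ba ((g : G7) : M7) := rfl

theorem pB_val (g : ↥(cenJ H)) : ((pB h2 H g : GL (Fin 3) F) : M3) = bb ((g : G7) : M7) := rfl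

theorem blocks_inj {a b : ↥(cenJ H)} (hA : pA h2 H a = pA h2 H b) (hB : pB h2 H a = pB h2 H b) : a = b := by
  refine Subtype.ext (Units.ext ?_)
  have eA : ba ((a : G7) : M7) = ba ((b : G7) : M7) := congrArg Units.val hA
  have eB : bb ((a : G7) : M7) = bb ((b : G7) : M7) := congrArg Units.val hB
  rw [eq_blocks h2 (cenJ_comm a), eq_blocks h2 (cenJ_comm b), eA, eB]

theorem eq_one_of_blocks {a : ↥(cenJ H)} (hA : pA h2 H a = 1) (hB : pB h2 H a = 1) : a = 1 :=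
  blocks_inj h2 (by rw [hA, map_one]) (by rw [hB, map_one])

end

namespace Over

variable {ω : F} {H : Subgroup (GL (Fin 7) F)} (O : Over ω H)
include O

/-- The involution in its centraliser. -/
def Jc : ↥(cenJ H) := ⟨Jg, mem_cenJ.2 ⟨O.Jg_mem, rfl⟩⟩

theorem Jc_central (g : ↥(cenJ H)) : Commute O.Jc g := Subtype.ext (Units.ext (cenJ_comm g))

theorem Jc_sq : O.Jc * O.Jc = 1 := Subtype.ext Jg_mul_self

theorem exists_W : ∃ g : ↥(cenJ H), ((g : G7) : M7) = Wm ω := by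
  obtain ⟨g, hg, e⟩ := O.hW
  exact ⟨⟨g, mem_cenJ.2 ⟨hg, by rw [e]; exact Jm_Wm O.root⟩⟩, e⟩

theorem exists_F : ∃ g : ↥(cenJ H), ((g : G7) : M7) = Fm ω := by
  obtain ⟨g, hg, e⟩ := O.hF
  exact ⟨⟨g, mem_cenJ.2 ⟨hg, by rw [e]; exact Fm_comm O.root⟩⟩, e⟩

/-- The diagonal seven-element of the centraliser. -/
noncomputable def cW : ↥(cenJ H) := O.exists_W.choose

/-- The Fourier element of the centraliser. -/
noncomputable def cF : ↥(cenJ H) := O.exists_F.choose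

theorem cW_val : ((O.cW : G7) : M7) = Wm ω := O.exists_W.choose_spec

theorem cF_val : ((O.cF : G7) : M7) = Fm ω := O.exists_F.choose_spec

theorem cW_pow : O.cW ^ 7 = 1 := Subtype.ext (Units.ext (by
  rw [SubmonoidClass.coe_pow, Units.val_pow_eq_pow_val, O.cW_val, Wm_pow_seven O.root]; rfl))

theorem cF_sq : O.cF * O.cF = O.Jc := Subtype.ext (Units.ext (by
  rw [Subgroup.coe_mul, Units.val_mul, O.cF_val, Fm_sq O.root]; rfl))

theorem cF_pow : O.cF ^ 4 = 1 := by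
  rw [show (4 : ℕ) = 2 * 2 from rfl, pow_mul, pow_two O.cF, O.cF_sq, pow_two, O.Jc_sq]

/-- The relation of the Fourier element and the diagonal element. -/
theorem exists_z : ∃ (z : ↥(cenJ H)) (c : F), ((z : G7) : M7) = c • 1 ∧ c ^ 7 = 1 ∧
    (O.cF * O.cW ^ 4) ^ 3 = z := by
  obtain ⟨c, hc⟩ := FTF O.root
  set z := (O.cF * O.cW ^ 4 * O.cF) * (O.cW ^ 3 * (O.cF * O.Jc) * O.cW ^ 3)⁻¹ with hz
  have hval : ((z : G7) : M7) = c • 1 := by
    rw [hz, Subgroup.coe_mul, Units.val_mul, Subgroup.coe_inv]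
    simp only [Subgroup.coe_mul, Units.val_mul, SubmonoidClass.coe_pow, Units.val_pow_eq_pow_val, O.cF_val, O.cW_val]
    rw [hc, Matrix.smul_mul]
    congr 1
    have e : Wm ω ^ 3 * (Fm ω * 𝐉) * Wm ω ^ 3 = (((O.cW ^ 3 * (O.cF * O.Jc) * O.cW ^ 3 : ↥(cenJ H)) : G7) : M7) := by
      simp only [Subgroup.coe_mul, Units.val_mul, SubmonoidClass.coe_pow, Units.val_pow_eq_pow_val, O.cF_val, O.cW_val]
      rfl
    rw [e, ← Units.val_mul]
    convert Units.val_one (α := M7)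
    rw [mul_inv_eq_one]
    rfl
  have hd := O.det _ (mem_cenJ.1 z.2).1
  rw [hval, det_smul, det_one, mul_one, Fintype.card_fin] at hd
  refine ⟨z, c, hval, hd, ?_⟩
  have hzc : Commute z (O.cF * O.cW ^ 4) := Subtype.ext (Units.ext (by
    simp only [Subgroup.coe_mul, Units.val_mul, hval, Matrix.smul_mul, Matrix.mul_smul, Matrix.one_mul, Matrix.mul_one]))
  have e1 : O.cF * O.cW ^ 4 * O.cF = z * (O.cW ^ 3 * (O.cF * O.Jc) * O.cW ^ 3) := by rw [hz, inv_mul_cancel_right]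
  have h7 : O.cW ^ 3 * O.cW ^ 4 = 1 := by rw [← pow_add, O.cW_pow]
  have hFJF : O.cF * O.Jc * O.cF = 1 := by rw [mul_assoc, (O.Jc_central O.cF).eq, ← mul_assoc, O.cF_sq, O.Jc_sq]
  calc (O.cF * O.cW ^ 4) ^ 3 = (O.cF * O.cW ^ 4 * O.cF) * O.cW ^ 4 * O.cF * O.cW ^ 4 := by
        rw [pow_succ, pow_two]; simp only [mul_assoc]
    _ = z * O.cW ^ 3 * (O.cF * O.Jc) * (O.cW ^ 3 * O.cW ^ 4) * O.cF * O.cW ^ 4 := by
        rw [e1]; simp only [mul_assoc]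
    _ = z * O.cW ^ 3 * (O.cF * O.Jc * O.cF) * O.cW ^ 4 := by rw [h7, mul_one]; simp only [mul_assoc]
    _ = z := by rw [hFJF, mul_one, mul_assoc, h7, mul_one]

variable (h2 : (2 : F) ≠ 0)

theorem pA_Jc : ((pA h2 H O.Jc : GL (Fin 4) F) : M4) = -1 := by
  show ba (𝐉) = -1
  rw [ba, Matrix.mul_assoc, Jm_Ea, Matrix.mul_neg, La_Ea h2]

theorem pB_Jc : pB h2 H O.Jc = 1 := Units.ext (by
  show bb (𝐉) = 1
  rw [bb, Matrix.mul_assoc, Jm_Eb, Lb_Eb h2])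

theorem pA_W : ((pA h2 H O.cW : GL (Fin 4) F) : M4) = diagonal fun r => ω ^ wa r := by
  rw [pA_val, O.cW_val, ba_Wm O.root h2]

theorem pB_W : ((pB h2 H O.cW : GL (Fin 3) F) : M3) = diagonal fun r => ω ^ wb r := by
  rw [pB_val, O.cW_val, bb_Wm O.root h2]

theorem det_pA_pB (g : ↥(cenJ H)) :
    ((pA h2 H g : GL (Fin 4) F) : M4).det * ((pB h2 H g : GL (Fin 3) F) : M3).det = 1 := by
  rw [pA_val, pB_val, ← det_blocks h2 (cenJ_comm g)]
  exact O.det _ (mem_cenJ.1 g.2).1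

end Over

end CfsgLib.MaxSub.HeisSeven
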