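/-
A sign matrix commuting with lifts of the generators of the complement is balanced.
-/
import Cfsg.Agent.Lib.MaxSub.HeisSeven.Blocks

set_option autoImplicit false
set_option linter.unusedSectionVars false
set_option linter.style.haveILetI false
set_option maxHeartbeats 800000

namespace CfsgLib.MaxSub.HeisSeven

open Matrix

variable {F : Type*} [Field F] {ι : Type*} [Fintype ι] [DecidableEq ι]

/-- The sign matrix of a set of coordinates. -/
def sgnMat (F : Type*) [Field F] {ι : Type*} [DecidableEq ι] (S : Finset ι) : Matrix ι ι F :=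
  diagonal fun i => if i ∈ S then 1 else -1

/-- The projection on a set of coordinates. -/
def selMat (F : Type*) [Field F] {ι : Type*} [DecidableEq ι] (S : Finset ι) : Matrix ι ι F :=
  diagonal fun i => if i ∈ S then 1 else 0

/-- The determinant on a set of coordinates. -/
def chiS (S : Finset ι) (X : Matrix ι ι F) : F := (selMat F S * X + (1 - selMat F S)).det

theorem sel_comm (h2 : (2 : F) ≠ 0) {S : Finset ι} {X : Matrix ι ι F} (e : sgnMat F S * X = X * sgnMat F S) :
    selMat F S * X = X * selMat F S := by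
  ext i j
  have h := congrFun (congrFun e i) j
  rw [sgnMat, diagonal_mul, mul_diagonal] at h
  rw [selMat, diagonal_mul, mul_diagonal]
  by_cases hi : i ∈ S <;> by_cases hj : j ∈ S <;> simp [hi, hj] at h ⊢
  all_goals
    have e0 : X i j = 0 := (mul_eq_zero.1 (by first | linear_combination h | linear_combination -h :
      (2 : F) * X i j = 0)).resolve_left h2
    simp [e0]

theorem chiS_mul {S : Finset ι} {X : Matrix ι ι F} (e : selMat F S * X = X * selMat F S) (Y : Matrix ι ι F) :
    chiS S (X * Y) = chiS S X * chiS S Y := by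
  rw [chiS, chiS, chiS, ← det_mul]
  congr 1
  set P := selMat F S
  have hP : P * P = P := by
    simp only [P, selMat, diagonal_mul_diagonal]
    congr 1
    funext i
    split_ifs <;> simp
  have hQ : P * X * P = P * X := by rw [Matrix.mul_assoc, ← e, ← Matrix.mul_assoc, hP]
  have e1 : P * X * (P * Y) = P * (X * Y) := by rw [← Matrix.mul_assoc, hQ, Matrix.mul_assoc]
  have e2 : P * X * (1 - P) = 0 := by rw [Matrix.mul_sub, Matrix.mul_one, hQ, sub_self]
  have e3 : (1 - P) * (P * Y) = 0 := by rw [← Matrix.mul_assoc, Matrix.sub_mul, Matrix.one_mul, hP, sub_self, Matrix.zero_mul]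
  have e4 : (1 - P) * (1 - P) = 1 - P := by
    rw [Matrix.mul_sub, Matrix.mul_one, Matrix.sub_mul, Matrix.one_mul, hP, sub_self, sub_zero]
  rw [Matrix.add_mul, Matrix.mul_add, Matrix.mul_add, e1, e2, e3, e4, add_zero, zero_add]

theorem chiS_diagonal (S : Finset ι) (d : ι → F) : chiS S (diagonal d) = ∏ i ∈ S, d i := by
  rw [chiS, selMat, diagonal_mul_diagonal, ← diagonal_one, diagonal_sub, diagonal_add, det_diagonal,
    ← Finset.prod_subset (Finset.subset_univ S)]
  · exact Finset.prod_congr rfl fun i hi => by simp [hi]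
  · intro i _ hi
    simp [hi]

variable {ω : F} {H : Subgroup (GL (Fin 7) F)} (O : Over ω H) [Finite F] {G' : Type*} [Group G']
  (π : ↥(cenJ H) →* GL ι F) (ρ : ↥(cenJ H) →* G') (wt : ι → ℕ)
include O

/-- The weights on the two sides of a sign matrix are balanced. -/
theorem balance (h2 : (2 : F) ≠ 0) (hW : ((π O.cW : GL ι F) : Matrix ι ι F) = diagonal fun i => ω ^ wt i)
    (hz : ∀ (z : ↥(cenJ H)) (c : F), ((z : GL (Fin 7) F) : Matrix (Fin 7) (Fin 7) F) = c • 1 →
      ((π z : GL ι F) : Matrix ι ι F) = c • 1)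
    (h7 : ¬ 7 ∣ Nat.card ↥ρ.ker) {S : Finset ι} {a : ↥(cenJ H)}
    (ha : ((π a : GL ι F) : Matrix ι ι F) = sgnMat F S) (haW : Commute O.cW a)
    {n : ↥(cenJ H)} (hn : ρ n = ρ O.cF) (hna : Commute n a) :
    ((∑ i ∈ S, wt i) * Sᶜ.card) % 7 = ((∑ i ∈ Sᶜ, wt i) * S.card) % 7 := by
  classical
  have h := O.root
  obtain ⟨z, c, hzv, hc7, hrel⟩ := O.exists_z
  have hza : Commute z a := Subtype.ext (Units.ext (by
    simp only [Subgroup.coe_mul, Units.val_mul, hzv, Matrix.smul_mul, Matrix.mul_smul, Matrix.one_mul, Matrix.mul_one]))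
  -- the character of a side
  have side : ∀ T : Finset ι, (∀ X : Matrix ι ι F, sgnMat F S * X = X * sgnMat F S → selMat F T * X = X * selMat F T) →
      (ω ^ (∑ i ∈ T, wt i)) ^ (4 * 12 * Nat.card ↥ρ.ker) = c ^ (T.card * (4 * Nat.card ↥ρ.ker)) := by
    intro T hT
    set K := Nat.card ↥ρ.ker
    let C : Subgroup ↥(cenJ H) := Subgroup.centralizer {a}
    have hC : ∀ g, g ∈ C ↔ Commute g a := fun g => by
      rw [Subgroup.mem_centralizer_singleton_iff]; exact ⟨fun e => e, fun e => e⟩
    let χ : ↥C →* F :=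
      { toFun := fun g => chiS T ((π g : GL ι F) : Matrix ι ι F)
        map_one' := by
          rw [OneMemClass.coe_one, map_one, Units.val_one, ← diagonal_one, chiS_diagonal, Finset.prod_const_one]
        map_mul' := fun g g' => by
          rw [Subgroup.coe_mul, map_mul, Units.val_mul]
          refine chiS_mul (hT _ ?_) _
          rw [← ha, ← Units.val_mul, ← Units.val_mul, ← map_mul, ← map_mul, ((hC g).1 g.2).eq] }
    have hker : ∀ g : ↥C, ρ (g : ↥(cenJ H)) = 1 → χ g ^ K = 1 := by
      intro g hg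
      rw [← map_pow]
      have e : (g : ↥(cenJ H)) ^ K = 1 :=
        congrArg Subtype.val (pow_card_eq_one' (x := (⟨g, MonoidHom.mem_ker.2 hg⟩ : ↥ρ.ker)))
      rw [show g ^ K = 1 from Subtype.ext (by rw [SubmonoidClass.coe_pow, e]; rfl), map_one]
    set N : ↥C := ⟨n, (hC n).2 hna⟩
    set T4 : ↥C := ⟨O.cW ^ 4, (hC _).2 (haW.pow_left 4)⟩
    set Z : ↥C := ⟨z, (hC z).2 hza⟩
    have k1 : χ N ^ (4 * K) = 1 := by
      rw [pow_mul, ← map_pow]
      refine hker _ ?_
      rw [SubmonoidClass.coe_pow, map_pow, hn, ← map_pow, O.cF_pow, map_one]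
    have k2 : (χ N * χ T4) ^ (3 * K) = χ Z ^ K := by
      have e := hker ((N * T4) ^ 3 * Z⁻¹) (by
        rw [Subgroup.coe_mul, SubmonoidClass.coe_pow, Subgroup.coe_mul, Subgroup.coe_inv, map_mul, map_pow, map_mul,
          map_inv, hn, ← map_mul, ← map_pow, hrel]
        exact mul_inv_cancel _)
      rw [pow_mul, ← map_mul, ← map_pow χ _ 3]
      have e' : χ ((N * T4) ^ 3) = χ ((N * T4) ^ 3 * Z⁻¹) * χ Z := by rw [← map_mul, inv_mul_cancel_right]
      rw [e', mul_pow, e, one_mul]
    have k3 : χ T4 ^ (12 * K) = χ Z ^ (4 * K) := by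
      have := congrArg (· ^ 4) k2
      simp only [← pow_mul, mul_pow] at this
      rw [show 3 * K * 4 = 12 * K by ring] at this
      rw [show χ N ^ (12 * K) = 1 by rw [show 12 * K = 4 * K * 3 by ring, pow_mul, k1, one_pow], one_mul,
        show K * 4 = 4 * K by ring] at this
      exact this
    have eT : χ T4 = (ω ^ (∑ i ∈ T, wt i)) ^ 4 := by
      show chiS T ((π (O.cW ^ 4) : GL ι F) : Matrix ι ι F) = _
      rw [map_pow, Units.val_pow_eq_pow_val, hW, diagonal_pow, chiS_diagonal, ← Finset.prod_pow_eq_pow_sum,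
        ← Finset.prod_pow]
      rfl
    have eZ : χ Z = c ^ T.card := by
      show chiS T ((π z : GL ι F) : Matrix ι ι F) = _
      rw [hz z c hzv, ← diagonal_one, ← diagonal_smul, chiS_diagonal]
      simp
    rw [eT, eZ, ← pow_mul, ← pow_mul, ← pow_mul] at k3
    rw [← pow_mul, show 4 * 12 * K = 4 * (12 * K) by ring]
    exact k3
  have hneg : selMat F Sᶜ = 1 - selMat F S := by
    rw [selMat, selMat, ← diagonal_one, diagonal_sub]
    congr 1
    funext i
    by_cases hi : i ∈ S <;> simp [hi]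
  have s1 := side S (fun X hX => sel_comm h2 hX)
  have s2 := side Sᶜ (fun X hX => by rw [hneg, Matrix.sub_mul, Matrix.mul_sub, sel_comm h2 hX, Matrix.one_mul, Matrix.mul_one])
  have e : (ω ^ ((∑ i ∈ S, wt i) * Sᶜ.card)) ^ (4 * 12 * Nat.card ↥ρ.ker) =
      (ω ^ ((∑ i ∈ Sᶜ, wt i) * S.card)) ^ (4 * 12 * Nat.card ↥ρ.ker) := by
    rw [pow_mul ω, pow_mul ω, pow_right_comm, s1, pow_right_comm _ S.card, s2, ← pow_mul, ← pow_mul]
    congr 1
    ring
  rw [← pow_mul, ← pow_mul] at e
  have e' := h.pow_inj e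
  refine Nat.ModEq.cancel_right_of_coprime ?_ (e' : _ ≡ _ [MOD 7])
  refine Nat.Coprime.mul_right (by norm_num) ?_
  exact Nat.prime_seven.coprime_iff_not_dvd.2 h7

end CfsgLib.MaxSub.HeisSeven
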