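/-
A seven-element acting on subgroups of order prime to the characteristic.
-/
import Cfsg.Agent.Lib.MaxSub.HeisSeven.Endgame
import Cfsg.Agent.Lib.MaxSub.HeisSeven.Plane

set_option autoImplicit false
set_option linter.unusedSectionVars false
set_option linter.style.haveILetI false
set_option maxHeartbeats 800000

namespace CfsgLib.MaxSub.HeisSeven

open Matrix

section Group

variable {G : Type*} [Group G] [Finite G]

/-- A seven-element normalises some Sylow subgroup of a normal subgroup. -/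
theorem exists_normalised_sylow (K : Subgroup G) [K.Normal] (a : G) (ha : a ^ 7 = 1) (r : ℕ) [Fact r.Prime]
    (h : r = 7 ∨ ¬ 7 ∣ Nat.card ↥K) :
    ∃ P : Sylow r ↥K, ∀ x ∈ (P : Subgroup ↥K).map K.subtype, a * x * a⁻¹ ∈ (P : Subgroup ↥K).map K.subtype := by
  classical
  haveI : Fact (Nat.Prime 7) := ⟨Nat.prime_seven⟩
  set α : MulAut ↥K := MulAut.conjNormal a with hα
  have hα7 : α ^ 7 = 1 := by rw [hα, ← map_pow, ha, map_one]
  have hA : IsPGroup 7 (Subgroup.zpowers α) := by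
    rintro ⟨g, hg⟩
    obtain ⟨k, rfl⟩ := Subgroup.mem_zpowers_iff.1 hg
    refine ⟨1, Subtype.ext ?_⟩
    show (α ^ k) ^ (7 ^ 1) = 1
    rw [pow_one, ← _root_.zpow_natCast, ← _root_.zpow_mul, mul_comm, _root_.zpow_mul, _root_.zpow_natCast, hα7, _root_.one_zpow]
  have hnd : ¬ 7 ∣ Nat.card (Sylow r ↥K) := by
    intro hd
    rcases h with rfl | h
    · have h1 : Nat.card (Sylow 7 ↥K) ≡ 1 [MOD 7] := card_sylow_modEq_one 7 ↥K
      have h2 := Nat.modEq_zero_iff_dvd.2 hd
      exact absurd (h2.symm.trans h1) (by decide)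
    · obtain ⟨P⟩ := (inferInstance : Nonempty (Sylow r ↥K))
      exact h (hd.trans (P.card_dvd_index.trans (Subgroup.index_dvd_card _)))
  obtain ⟨P, hP⟩ := hA.nonempty_fixed_point_of_prime_not_dvd_card (Sylow r ↥K) hnd
  have hfix : α • P = P := hP ⟨α, Subgroup.mem_zpowers α⟩
  refine ⟨P, ?_⟩
  rintro _ ⟨x, hx, rfl⟩
  refine ⟨α x, ?_, ?_⟩
  · have : α • x ∈ ((α • P : Sylow r ↥K) : Subgroup ↥K) := Subgroup.smul_mem_pointwise_smul x α _ hx
    rwa [hfix] at this
  · simp [hα]

/-- The Frattini argument: the normaliser of a Sylow subgroup of the kernel covers the image. -/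
theorem exists_normaliser_lift {G' : Type*} [Group G'] (ρ : G →* G') {r : ℕ} [Fact r.Prime]
    (P : Sylow r ↥ρ.ker) (g : G) :
    ∃ n, ρ n = ρ g ∧ ∀ x ∈ (P : Subgroup ↥ρ.ker).map ρ.ker.subtype,
      n * x * n⁻¹ ∈ (P : Subgroup ↥ρ.ker).map ρ.ker.subtype := by
  have hmem : g ∈ Subgroup.normalizer (((P : Subgroup ↥ρ.ker).map ρ.ker.subtype : Subgroup G) : Set G) ⊔ ρ.ker := by
    rw [Sylow.normalizer_sup_eq_top]; exact Subgroup.mem_top _
  obtain ⟨n, hn, k, hk, rfl⟩ := Subgroup.mem_sup_of_normal_right.1 hmem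
  exact ⟨n, by rw [map_mul, MonoidHom.mem_ker.1 hk, mul_one],
    fun x hx => (Subgroup.mem_normalizer_iff.1 hn x).1 hx⟩

end Group

variable {F : Type*} [Field F]

local notation "M7" => Matrix (Fin 7) (Fin 7) F
local notation "G7" => GL (Fin 7) F

/-- A matrix of nonzero weight is nilpotent. -/
theorem weight_nilpotent {ω : F} (h : Root ω) {x : M7} {a : ℕ} (ha : ¬ 7 ∣ a)
    (e : Wm ω * x = ω ^ a • (x * Wm ω)) : x ^ 7 = 0 := by
  have hn : ∀ n : ℕ, Wm ω * x ^ n = ω ^ (a * n) • (x ^ n * Wm ω) := by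
    intro n
    induction n with
    | zero => simp
    | succ n ih =>
      rw [pow_succ, ← Matrix.mul_assoc, ih, Matrix.smul_mul, Matrix.mul_assoc, e, Matrix.mul_smul, smul_smul,
        ← pow_add, Matrix.mul_assoc, Nat.mul_succ]
  have hex : ∀ (b : Fin 7) (c : Fin 7), b ≠ 0 →
      ∃ n : Fin 7, ∀ r : Fin 7, cls r % 7 ≠ ((b : ℕ) * (n : ℕ) + cls c) % 7 := by decide
  ext r c
  obtain ⟨n, hnr⟩ := hex ⟨a % 7, Nat.mod_lt _ (by norm_num)⟩ c (fun e => ha (by
    have := congrArg Fin.val e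
    exact Nat.dvd_of_mod_eq_zero this))
  have hz : ∀ r : Fin 7, (x ^ (n : ℕ)) r c = 0 := by
    intro r
    have e' := congrFun (congrFun (hn n) r) c
    rw [Wm, diagonal_mul, Matrix.smul_apply, mul_diagonal, smul_eq_mul] at e'
    by_contra hne
    refine hnr r ?_
    have := h.pow_inj (a := (r : ℕ) ^ 2) (b := a * (n : ℕ) + (c : ℕ) ^ 2) (mul_right_cancel₀ hne (by
      rw [e', pow_add]; ring))
    simp only [cls, Nat.mod_mod, Nat.add_mod_mod]
    rw [this, Nat.add_mod, Nat.mul_mod]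
    conv_rhs => rw [Nat.add_mod, Nat.mul_mod, Nat.mod_mod]
  rw [show x ^ 7 = x ^ (7 - (n : ℕ)) * x ^ (n : ℕ) by rw [← pow_add]; congr 1; have := n.2; omega]
  simp [Matrix.mul_apply, hz]

/-- An abelian group of order prime to the characteristic normalised by `W` centralises it. -/
theorem centralised [Fintype F] {p : ℕ} [Fact p.Prime] [CharP F p] {ω : F} (h : Root ω)
    (A : Subgroup (GL (Fin 7) F)) [Finite A] (hab : ∀ s ∈ A, ∀ t ∈ A, s * t = t * s) (hp : ¬ p ∣ Nat.card A)
    {w : GL (Fin 7) F} (ew : (w : Matrix (Fin 7) (Fin 7) F) = Wm ω) (hn : ∀ s ∈ A, w * s * w⁻¹ ∈ A)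
    {s : GL (Fin 7) F} (hs : s ∈ A) : w * s = s * w := by
  classical
  obtain ⟨e, -, hF⟩ := FiniteField.card F p
  set q := Fintype.card F with hq
  set k := (Nat.card A).totient * 7
  have hk7 : 7 ≤ q ^ k := by
    have h1 : 1 ≤ (Nat.card A).totient := Nat.totient_pos.2 Nat.card_pos
    have h2 : 2 ≤ q := Fintype.one_lt_card
    have h3 : k ≤ 2 ^ k := Nat.lt_two_pow_self.le
    have h4 : 2 ^ k ≤ q ^ k := Nat.pow_le_pow_left h2 k
    omega
  have hfix : ∀ a ∈ A, a ^ q ^ k = a := by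
    intro a ha
    have hcop : Nat.Coprime q (Nat.card A) := by
      rw [hF]; exact ((Fact.out : p.Prime).coprime_iff_not_dvd.2 hp).pow_left _
    have h1 : q ^ k ≡ 1 [MOD Nat.card A] := by
      have := (Nat.ModEq.pow_totient hcop).pow 7
      rwa [one_pow, ← pow_mul] at this
    have ho : orderOf a ∣ Nat.card A := by
      have := orderOf_dvd_natCard (⟨a, ha⟩ : A)
      rwa [Subgroup.orderOf_mk] at this
    have h2 : q ^ k ≡ 1 [MOD orderOf a] := h1.of_dvd ho
    conv_rhs => rw [← pow_one a]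
    exact pow_eq_pow_iff_modEq.2 h2
  haveI : CharP M7 p := inferInstance
  set S := Submodule.span F (Units.val '' (A : Set (GL (Fin 7) F)))
  have hcomm := fun {a b : M7} (ha : a ∈ S) (hb : b ∈ S) => span_commutes hab ha hb
  have hid : ∀ x ∈ S, x ^ q ^ k = x := by
    intro x hx
    induction hx using Submodule.span_induction with
    | mem x hx =>
      obtain ⟨u, hu, rfl⟩ := hx
      rw [← Units.val_pow_eq_pow_val, hfix u hu]
    | zero => exact zero_pow (by omega)
    | add x y hx hy ihx ihy =>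
      rw [hF, ← pow_mul, add_pow_char_pow_of_commute p _ (hcomm hx hy)]
      rw [hF, ← pow_mul] at ihx ihy
      rw [ihx, ihy]
    | smul c x hx ihx =>
      rw [smul_pow, ihx, FiniteField.pow_card_pow]
  have hw7 : w ^ 7 = 1 := Units.ext (by rw [Units.val_pow_eq_pow_val, ew, Wm_pow_seven h, Units.val_one])
  set M : M7 := (s : M7)
  have hsum := sum_wproj h w M
  rw [Finset.sum_eq_single (0 : Fin 7) (fun a _ ha => ?_) (by simp)] at hsum
  · have h0 := cj_wproj h hw7 ((0 : Fin 7) : ℕ) M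
    rw [hsum, Fin.val_zero, pow_zero, one_smul, cj_smul] at h0
    have := smul_right_injective _ h.seven_ne h0
    rw [cj_eq_iff] at this
    exact Units.ext (by rw [Units.val_mul, Units.val_mul]; exact this)
  · set x := wproj ω w (a : ℕ) M with hx
    have hxS : x ∈ S := by
      refine Submodule.sum_mem _ fun l _ => S.smul_mem _ (mem_span_cj ?_ (Submodule.subset_span ⟨s, hs, rfl⟩))
      intro t ht
      induction (l : ℕ) with
      | zero => simpa using ht
      | succ l ih =>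
        rw [pow_succ', show w * w ^ l * t * (w * w ^ l)⁻¹ = w * (w ^ l * t * (w ^ l)⁻¹) * w⁻¹ by group]
        exact hn _ ih
    have hxw : Wm ω * x = ω ^ (a : ℕ) • (x * Wm ω) := by
      rw [← ew, ← Matrix.smul_mul, ← cj_eq_iff, hx, cj_wproj h hw7]
    have h7 := weight_nilpotent h (fun hd => ha (Fin.ext (Nat.eq_zero_of_dvd_of_lt hd a.2))) hxw
    rw [← hid x hxS]
    exact pow_eq_zero_of_le hk7 h7

end CfsgLib.MaxSub.HeisSeven
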