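/-
A seven-element cannot act nontrivially on an extraspecial group of degree four.
-/
import Cfsg.Agent.Lib.MaxSub.HeisSeven.Coprime

set_option autoImplicit false
set_option linter.unusedSectionVars false
set_option linter.style.haveILetI false
set_option maxHeartbeats 800000

namespace CfsgLib.MaxSub.HeisSeven

open Matrix

variable {G : Type*} [Group G] [Finite G]

/-- The fixed points of a seven-element on a subgroup. -/
theorem card_fixed_modEq (P : Subgroup G) (a : G) (ha : a ^ 7 = 1) (hn : ∀ p ∈ P, a * p * a⁻¹ ∈ P) :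
    Nat.card (P ⊓ Subgroup.centralizer {a} : Subgroup G) ≡ Nat.card P [MOD 7] := by
  classical
  haveI := Fintype.ofFinite ↥P
  haveI : Fact (Nat.Prime 7) := ⟨Nat.prime_seven⟩
  let c : ↥P → ↥P := fun p => ⟨a * (p : G) * a⁻¹, hn _ p.2⟩
  have hinj : Function.Injective c := fun p q e => Subtype.ext (conj_injective (congrArg Subtype.val e))
  let f : Equiv.Perm ↥P := Equiv.ofBijective c (Finite.injective_iff_bijective.1 hinj)
  have hf : ∀ (k : ℕ) (p : ↥P), ((f ^ k) p : G) = a ^ k * (p : G) * (a ^ k)⁻¹ := by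
    intro k
    induction k with
    | zero => intro p; simp
    | succ k ih =>
      intro p
      rw [pow_succ', Equiv.Perm.mul_apply, pow_succ', _root_.mul_inv_rev]
      show a * ((f ^ k) p : G) * a⁻¹ = _
      rw [ih]
      group
  have hf7 : f ^ 7 ^ 1 = 1 := Equiv.ext fun p => Subtype.ext (by
    rw [pow_one, hf, ha, one_mul, inv_one, mul_one]; rfl)
  have hmod := Equiv.Perm.card_compl_support_modEq hf7
  rw [Nat.card_eq_fintype_card (α := ↥P)]
  refine Nat.ModEq.trans ?_ hmod
  rw [← Nat.card_eq_finsetCard]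
  show _ % 7 = _ % 7
  congr 1
  refine Nat.card_congr ?_
  refine
    { toFun := fun p => ⟨⟨(p : G), p.2.1⟩, ?_⟩
      invFun := fun p => ⟨((p : ↥P) : G), p.1.2, ?_⟩
      left_inv := fun p => rfl
      right_inv := fun p => rfl }
  · rw [Finset.mem_compl, Equiv.Perm.notMem_support]
    refine Subtype.ext ?_
    show a * (p : G) * a⁻¹ = p
    rw [(Subgroup.mem_centralizer_singleton_iff.1 p.2.2).symm, mul_inv_cancel_right]
  · have := p.2
    rw [Finset.mem_compl, Equiv.Perm.notMem_support] at this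
    exact Subgroup.mem_centralizer_singleton_iff.2 (mul_inv_eq_iff_eq_mul.1 (congrArg Subtype.val this)).symm

variable {F : Type*} [Field F]

/-- An extraspecial group of degree four with fixed points commuting is its centre. -/
theorem small_extraspecial (h2 : (2 : F) ≠ 0) (π : G →* GL (Fin 4) F) {j : G} (hj : ∀ g, j * g = g * j)
    (hj2 : j * j = 1) (hπj : ((π j : GL (Fin 4) F) : Matrix (Fin 4) (Fin 4) F) = -1) (U : Subgroup G) (hjU : j ∈ U)
    (hcom : ∀ u ∈ U, ∀ v ∈ U, u * v = v * u ∨ u * v = v * u * j)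
    (hcen : ∀ u ∈ U, (∀ v ∈ U, u * v = v * u) → u = 1 ∨ u = j)
    {a : G} (ha : a ^ 7 = 1) (hn : ∀ u ∈ U, a * u * a⁻¹ ∈ U)
    (hfix : ∀ u ∈ U, ∀ v ∈ U, a * u = u * a → a * v = v * a → u * v = v * u) :
    ∀ u ∈ U, u = 1 ∨ u = j := by
  classical
  have hne1 : (-1 : F) ≠ 1 := fun e => h2 (by linear_combination -e)
  have hj1 : j ≠ 1 := fun e => by
    rw [e, map_one, Units.val_one] at hπj
    have := congrFun (congrFun hπj 0) 0
    simp at this
    exact hne1 this.symm
  by_contra hcontra
  push Not at hcontra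
  obtain ⟨u0, hu0, hu01, hu0j⟩ := hcontra
  -- the commutator form
  let e : ↥U → ↥U → ℤˣ := fun u v => if (u : G) * v = v * u then 1 else -1
  have hjne : ∀ u v : G, u * v = v * u * j → u * v ≠ v * u := fun u v h h' => hj1 (by
    rw [h] at h'
    exact mul_eq_left.1 h')
  have emul : ∀ u u' v : ↥U, e (u * u') v = e u v * e u' v := by
    intro u u' v
    simp only [e, Subgroup.coe_mul]
    rcases hcom u u.2 v v.2 with h | h <;> rcases hcom u' u'.2 v v.2 with h' | h'
    · have : (u : G) * u' * v = v * (u * u') := by rw [mul_assoc, h', ← mul_assoc, h, mul_assoc]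
      rw [if_pos this, if_pos h, if_pos h', one_mul]
    · have : (u : G) * u' * v = v * (u * u') * j := by rw [mul_assoc, h', ← mul_assoc, ← mul_assoc, h]; simp only [mul_assoc]
      rw [if_neg (hjne _ _ this), if_pos h, if_neg (hjne _ _ h'), one_mul]
    · have : (u : G) * u' * v = v * (u * u') * j := by
        rw [mul_assoc, h', ← mul_assoc, h, mul_assoc (v * u : G) j, hj]
        simp only [mul_assoc]
      rw [if_neg (hjne _ _ this), if_neg (hjne _ _ h), if_pos h', mul_one]
    · have : (u : G) * u' * v = v * (u * u') := by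
        rw [mul_assoc, h', ← mul_assoc, ← mul_assoc, h, mul_assoc (v * u : G) j, hj, ← mul_assoc (v * u : G),
          mul_assoc (v * u * u' : G), hj2, mul_one, mul_assoc]
      rw [if_pos this, if_neg (hjne _ _ h), if_neg (hjne _ _ h')]
      decide
  let Φ : ↥U →* (↥U → ℤˣ) :=
    { toFun := fun u v => e u v
      map_one' := funext fun v => by simp [e]
      map_mul' := fun u u' => funext fun v => emul u u' v }
  have hΦ : ∀ u v : ↥U, Φ u v = 1 ↔ (u : G) * v = v * u := fun u v => by
    show e u v = 1 ↔ _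
    simp only [e]
    split_ifs with h
    · simp [h]
    · exact ⟨fun e => absurd e (by decide), fun e => absurd e h⟩
  have hkerΦ : ∀ u : ↥U, u ∈ Φ.ker ↔ (u : G) = 1 ∨ (u : G) = j := by
    intro u
    rw [MonoidHom.mem_ker]
    constructor
    · exact fun hu => hcen u u.2 fun v hv => (hΦ u ⟨v, hv⟩).1 (congrFun hu ⟨v, hv⟩)
    · intro hu
      funext v
      rw [Pi.one_apply, hΦ]
      rcases hu with hu | hu <;> rw [hu]
      · simp
      · exact hj _
  set jU : ↥U := ⟨j, hjU⟩
  have hkcard : Nat.card ↥Φ.ker = 2 := by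
    let q : Bool → ↥Φ.ker := fun b => if b then ⟨jU, (hkerΦ jU).2 (Or.inr rfl)⟩ else 1
    refine Nat.card_eq_two_iff.2 ⟨q false, q true, ?_, ?_⟩
    · intro e
      exact hj1 (congrArg (fun x : ↥Φ.ker => ((x : ↥U) : G)) e).symm
    · refine Set.eq_univ_of_forall fun x => ?_
      rcases (hkerΦ x).1 x.2 with h | h
      · exact Or.inl (Subtype.ext (Subtype.ext h))
      · exact Or.inr (Subtype.ext (Subtype.ext h))
  -- independence
  haveI : Fintype ↥Φ.range := Fintype.ofFinite _
  have hrep : ∀ χ : ↥Φ.range, ∃ u : ↥U, Φ u = (χ : ↥U → ℤˣ) := fun χ => χ.2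
  choose rep hrep using hrep
  set X : ↥U → Matrix (Fin 4) (Fin 4) F := fun u => ((π (u : G) : GL (Fin 4) F) : Matrix (Fin 4) (Fin 4) F) with hX
  set sg : ℤˣ → F := fun z => ((z : ℤ) : F) with hsg
  have hconj : ∀ u v : ↥U, X v * X u = sg (Φ u v) • (X u * X v) := by
    intro u v
    simp only [hX, ← Units.val_mul, ← map_mul, hsg]
    rcases hcom v v.2 u u.2 with h | h
    · rw [(hΦ u v).2 h.symm, h]
      simp
    · have hne : ¬ ((u : G) * v = v * u) := fun e => hjne _ _ h e.symm
      have : Φ u v = -1 := by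
        show e u v = -1
        simp only [e]
        rw [if_neg hne]
      rw [this, h, map_mul, Units.val_mul, hπj]
      simp
  have hindep : LinearIndependent F fun χ : ↥Φ.range => X (rep χ) := by
    rw [linearIndependent_iff']
    intro s
    induction s using Finset.induction with
    | empty => simp
    | insert χ0 s h0 ih =>
      intro g hg
      rw [Finset.sum_insert h0] at hg
      have hs : ∀ χ ∈ s, g χ = 0 := by
        intro χ hχ
        have hne : χ ≠ χ0 := fun e => h0 (e ▸ hχ)
        obtain ⟨v, hv⟩ := Function.ne_iff.1 (fun e => hne (Subtype.ext e) : (χ : ↥U → ℤˣ) ≠ χ0)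
        have hstep : ∑ i ∈ s, (g i * (sg ((i : ↥U → ℤˣ) v) - sg ((χ0 : ↥U → ℤˣ) v))) • X (rep i) = 0 := by
          have e1 := congrArg (fun M => X v * M) hg
          have e2 := congrArg (fun M => sg ((χ0 : ↥U → ℤˣ) v) • (M * X v)) hg
          have hc' : ∀ i, X v * X (rep i) = sg ((i : ↥U → ℤˣ) v) • (X (rep i) * X v) := fun i => by
            rw [hconj (rep i) v, hrep]
          simp only [Matrix.mul_add, Matrix.mul_sum, Matrix.mul_smul, hc', smul_smul, Matrix.mul_zero] at e1
          simp only [Matrix.add_mul, Matrix.sum_mul, Matrix.smul_mul, Matrix.zero_mul, smul_add, Finset.smul_sum,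
            smul_smul, smul_zero] at e2
          rw [mul_comm (sg _) (g χ0)] at e2
          have e3 : (∑ i ∈ s, (g i * (sg ((i : ↥U → ℤˣ) v) - sg ((χ0 : ↥U → ℤˣ) v))) • (X (rep i) * X v)) = 0 := by
            simp only [mul_sub, sub_smul, Finset.sum_sub_distrib]
            rw [sub_eq_zero]
            have := e1.trans e2.symm
            rw [add_right_inj] at this
            rw [this]
            exact Finset.sum_congr rfl fun i _ => by rw [mul_comm (sg _) (g i)]
          have e4 := congrArg (fun M => M * ((π (v : G))⁻¹ : GL (Fin 4) F).val) e3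
          simp only [Matrix.sum_mul, Matrix.smul_mul, Matrix.zero_mul] at e4
          rw [← e4]
          refine Finset.sum_congr rfl fun i _ => ?_
          congr 1
          rw [hX, Matrix.mul_assoc, Units.mul_inv, Matrix.mul_one]
        have := ih _ hstep χ hχ
        refine (mul_eq_zero.1 this).resolve_right (sub_ne_zero.2 fun e => hv ?_)
        rcases Int.units_eq_one_or ((χ : ↥U → ℤˣ) v) with a1 | a1 <;>
          rcases Int.units_eq_one_or ((χ0 : ↥U → ℤˣ) v) with a2 | a2 <;> rw [a1, a2] at e ⊢ <;> simp [hsg] at e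
        · exact absurd e hne1.symm
        · exact absurd e hne1
      intro χ hχ
      rcases Finset.mem_insert.1 hχ with rfl | hχ
      · rw [Finset.sum_eq_zero fun i hi => by rw [hs i hi, zero_smul], add_zero, smul_eq_zero] at hg
        exact hg.resolve_right (Units.ne_zero _)
      · exact hs χ hχ
  have h16 : Nat.card ↥Φ.range ≤ 16 := by
    have := hindep.fintype_card_le_finrank
    rw [Module.finrank_matrix, Module.finrank_self, Fintype.card_fin] at this
    rwa [Nat.card_eq_fintype_card]
  have hUcard : Nat.card ↥U = 2 * Nat.card ↥Φ.range := by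
    rw [← Φ.ker.card_mul_index, hkcard, Subgroup.index_ker]
  -- the fixed points
  have hUp : IsPGroup 2 ↥U := by
    intro u
    refine ⟨2, Subtype.ext ?_⟩
    have h2' : ((u * u : ↥U) : G) = 1 ∨ ((u * u : ↥U) : G) = j := (hkerΦ _).1 (MonoidHom.mem_ker.2 (funext fun v => by
      rw [map_mul]; exact Int.units_mul_self _))
    show (u : G) ^ (2 ^ 2) = 1
    rw [show (u : G) ^ (2 ^ 2) = ((u : G) * u) * ((u : G) * u) by rw [show (2 ^ 2 : ℕ) = 4 from rfl, pow_succ, pow_succ, pow_two]; simp only [mul_assoc]]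
    rcases h2' with h | h <;> rw [Subgroup.coe_mul] at h <;> rw [h]
    · exact mul_one 1
    · exact hj2
  haveI : Fact (Nat.Prime 2) := ⟨Nat.prime_two⟩
  set F0 := U ⊓ Subgroup.centralizer {a}
  have hF0mem : ∀ x, x ∈ F0 ↔ x ∈ U ∧ a * x = x * a := fun x => by
    rw [Subgroup.mem_inf, Subgroup.mem_centralizer_singleton_iff]
    exact and_congr_right fun _ => ⟨Eq.symm, Eq.symm⟩
  have hF0ne : F0 ≠ U := fun e => by
    rcases hcen u0 hu0 fun v hv => hfix u0 hu0 v hv ((hF0mem _).1 (e.symm ▸ hu0)).2 ((hF0mem _).1 (e.symm ▸ hv)).2 with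
      h | h
    · exact hu01 h
    · exact hu0j h
  obtain ⟨k, hk⟩ := hUp.exists_card_eq
  obtain ⟨i, hi, hF0⟩ := (Nat.dvd_prime_pow Nat.prime_two).1 (hk ▸ Subgroup.card_dvd_of_le (inf_le_left : F0 ≤ U))
  have hik : i < k := lt_of_le_of_ne hi fun e => hF0ne (Subgroup.eq_of_le_of_card_ge inf_le_left (by rw [hk, hF0, e]))
  have hmod := card_fixed_modEq U a ha hn
  rw [hk, hF0] at hmod
  have hi1 : 1 ≤ i := by
    rcases Nat.eq_zero_or_pos i with e | e
    · exfalso
      rw [e, pow_zero, Subgroup.card_eq_one] at hF0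
      have hjF : j ∈ F0 := (hF0mem _).2 ⟨hjU, (hj a).symm⟩
      exact hj1 (Subgroup.mem_bot.1 (hF0.le hjF))
    · exact e
  have hk5 : k ≤ 5 := by
    have : 2 ^ k ≤ 2 ^ 5 := by rw [← hk, hUcard]; omega
    exact (Nat.pow_le_pow_iff_right (by norm_num)).1 this
  obtain ⟨hik', hk45⟩ : k = i + 3 ∧ (k = 4 ∨ k = 5) := by
    interval_cases k <;> interval_cases i <;> simp_all (config := { decide := true }) [Nat.ModEq]
  -- centralisers in the group
  have hcent : ∀ u : ↥U, ((u : G) ≠ 1 ∧ (u : G) ≠ j) → Nat.card (U ⊓ Subgroup.centralizer {(u : G)} : Subgroup G) * 2 = 2 ^ k := by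
    intro u hu
    let φ : ↥U →* ℤˣ :=
      { toFun := fun v => Φ v u
        map_one' := by rw [map_one]; rfl
        map_mul' := fun v w => by rw [map_mul]; rfl }
    have hidx : φ.ker.index = 2 := by
      have h1 : φ.ker.index ∣ 2 := by
        rw [Subgroup.index_ker]
        have := Subgroup.card_subgroup_dvd_card φ.range
        rwa [Nat.card_eq_fintype_card (α := ℤˣ), Fintype.card_units_int] at this
      refine ((Nat.dvd_prime Nat.prime_two).1 h1).resolve_left fun e => ?_
      rw [Subgroup.index_eq_one] at e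
      rcases hcen u u.2 fun v hv => ((hΦ ⟨v, hv⟩ u).1 (MonoidHom.mem_ker.1 (e ▸ Subgroup.mem_top (⟨v, hv⟩ : ↥U)))).symm
        with h | h
      · exact hu.1 h
      · exact hu.2 h
    have heq : (φ.ker).map U.subtype = U ⊓ Subgroup.centralizer {(u : G)} := by
      ext x
      constructor
      · rintro ⟨v, hv, rfl⟩
        exact ⟨v.2, Subgroup.mem_centralizer_singleton_iff.2 ((hΦ v u).1 hv)⟩
      · rintro ⟨hxU, hxu⟩
        exact ⟨⟨x, hxU⟩, (hΦ _ u).2 (Subgroup.mem_centralizer_singleton_iff.1 hxu), rfl⟩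
    rw [← hk, ← φ.ker.card_mul_index, hidx, ← heq, Subgroup.card_map_of_injective U.subtype_injective]
  rcases hk45 with rfl | rfl
  · -- order sixteen: two noncommuting elements and a common commutant
    obtain ⟨v, hv, w, hw, hvw⟩ : ∃ v ∈ U, ∃ w ∈ U, v * w ≠ w * v := by
      by_contra hc
      push Not at hc
      rcases hcen u0 hu0 fun v hv => hc u0 hu0 v hv with h | h
      · exact hu01 h
      · exact hu0j h
    set V : ↥U := ⟨v, hv⟩
    set W : ↥U := ⟨w, hw⟩
    have hV : (v : G) ≠ 1 ∧ (v : G) ≠ j :=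
      ⟨fun e => hvw (by rw [e, one_mul, mul_one]), fun e => hvw (by rw [e]; exact hj w)⟩
    have hW : (w : G) ≠ 1 ∧ (w : G) ≠ j :=
      ⟨fun e => hvw (by rw [e, one_mul, mul_one]), fun e => hvw (by rw [e]; exact (hj v).symm)⟩
    let φ : ↥U →* ℤˣ × ℤˣ :=
      { toFun := fun x => (Φ x V, Φ x W)
        map_one' := by rw [map_one]; rfl
        map_mul' := fun x y => by rw [map_mul]; rfl }
    obtain ⟨u, huk, hu1⟩ : ∃ u ∈ φ.ker, u ∉ Φ.ker := by
      by_contra hc
      push Not at hc
      have hle := Subgroup.card_le_of_le (H := φ.ker) (K := Φ.ker) hc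
      rw [hkcard] at hle
      have h4 : φ.ker.index ≤ 4 := by
        rw [Subgroup.index_ker]
        refine le_trans (Subgroup.card_le_card_group _) ?_
        rw [Nat.card_eq_fintype_card]
        rfl
      have := φ.ker.card_mul_index
      rw [hk] at this
      nlinarith
    rw [MonoidHom.mem_ker] at huk
    have huV : (u : G) * v = v * u := (hΦ u V).1 (congrArg Prod.fst huk)
    have huW : (u : G) * w = w * u := (hΦ u W).1 (congrArg Prod.snd huk)
    have hu1' : (u : G) ≠ 1 ∧ (u : G) ≠ j := by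
      rw [hkerΦ, not_or] at hu1
      exact hu1
    let Cu : Subgroup ↥U := (U ⊓ Subgroup.centralizer {(u : G)}).subgroupOf U
    have hCu : Nat.card ↥Cu = 8 := by
      have := hcent u hu1'
      rw [Nat.card_congr (Subgroup.subgroupOfEquivOfLe (inf_le_left : U ⊓ Subgroup.centralizer {(u : G)} ≤ U)).toEquiv]
      omega
    have hrange : Nat.card ↥(Cu.map Φ) ≤ 4 := by
      have hkle : Φ.ker ≤ Cu := fun x hx => by
        refine Subgroup.mem_subgroupOf.2 ⟨x.2, Subgroup.mem_centralizer_singleton_iff.2 ?_⟩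
        rcases (hkerΦ x).1 hx with e | e <;> rw [e]
        · simp
        · exact hj _
      have := Cu.card_mul_index
      have e1 : Nat.card ↥(Cu.map Φ) * 2 = 8 := by
        rw [← hCu, ← hkcard]
        have := ((Φ.comp Cu.subtype).ker).card_mul_index
        rw [Subgroup.index_ker, MonoidHom.range_comp, Subgroup.range_subtype,
          show (Φ.comp Cu.subtype).ker = Φ.ker.subgroupOf Cu from rfl,
          Nat.card_congr (Subgroup.subgroupOfEquivOfLe hkle).toEquiv, mul_comm] at this
        exact this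
      omega
    have hmemC : ∀ x : ↥U, (x : G) * u = u * x → Φ x ∈ Cu.map Φ := fun x hx =>
      Subgroup.mem_map_of_mem Φ (Subgroup.mem_subgroupOf.2 ⟨x.2, Subgroup.mem_centralizer_singleton_iff.2 hx⟩)
    have hVW : Φ V W = -1 := by
      show e V W = -1
      simp only [e]
      rw [if_neg (show ¬ ((V : G) * W = W * V) from hvw)]
    have hWV : Φ W V = -1 := by
      show e W V = -1
      simp only [e]
      rw [if_neg (show ¬ ((W : G) * V = V * W) from fun h => hvw h.symm)]
    have hself : ∀ x : ↥U, Φ x x = 1 := fun x => (hΦ x x).2 rfl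
    let L : Fin 5 → ↥(Cu.map Φ) := ![⟨Φ 1, hmemC 1 (by simp)⟩, ⟨Φ V, hmemC V huV.symm⟩, ⟨Φ W, hmemC W huW.symm⟩,
      ⟨Φ (V * W), hmemC (V * W) (by
        show v * w * (u : G) = u * (v * w)
        rw [mul_assoc, ← huW, ← mul_assoc, ← huV, mul_assoc])⟩, ⟨Φ u, hmemC u rfl⟩]
    let E : ↥(Cu.map Φ) → ℤˣ × ℤˣ × Bool := fun χ =>
      ((χ : ↥U → ℤˣ) V, (χ : ↥U → ℤˣ) W, decide ((χ : ↥U → ℤˣ) = 1))
    have hu1Φ : Φ u ≠ 1 := fun e => hu1 (MonoidHom.mem_ker.2 e)
    have hinj : Function.Injective (E ∘ L) := by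
      intro p q
      fin_cases p <;> fin_cases q <;>
        simp (config := { decide := true }) [E, L, map_mul, hVW, hWV, hself, congrArg Prod.fst huk,
          congrArg Prod.snd huk, hu1Φ, show Φ u V = 1 from congrArg Prod.fst huk,
          show Φ u W = 1 from congrArg Prod.snd huk]
    have := Nat.card_le_card_of_injective L (Function.Injective.of_comp hinj)
    rw [Nat.card_fin] at this
    omega
  · -- order thirty-two: the centraliser of a fixed element
    obtain ⟨x, hxF, hx1⟩ : ∃ x ∈ F0, ¬ (x = 1 ∨ x = j) := by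
      by_contra hc
      push Not at hc
      have hle : F0 ≤ (Φ.ker.map U.subtype) := fun x hx => by
        refine ⟨⟨x, ((hF0mem x).1 hx).1⟩, (hkerΦ _).2 ?_, rfl⟩
        exact hc x hx
      have := Subgroup.card_le_of_le (H := F0) (K := Φ.ker.map U.subtype) hle
      rw [Subgroup.card_map_of_injective U.subtype_injective, hkcard, hF0, show i = 2 by omega] at this
      norm_num at this
    obtain ⟨hxU, hxa⟩ := (hF0mem x).1 hxF
    rw [not_or] at hx1
    set Cx := U ⊓ Subgroup.centralizer {x} with hCx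
    have hCxcard : Nat.card ↥Cx = 16 := by
      have this : Nat.card ↥Cx * 2 = 2 ^ 5 := hcent ⟨x, hxU⟩ hx1
      norm_num at this
      omega
    have hmod' := card_fixed_modEq Cx a ha (fun p hp => by
      refine ⟨hn p hp.1, Subgroup.mem_centralizer_singleton_iff.2 ?_⟩
      have hpx : Commute p x := Subgroup.mem_centralizer_singleton_iff.1 hp.2
      have hax : Commute a x := hxa
      exact ((hax.mul_left hpx).mul_left hax.inv_left).eq)
    have hsame : (Cx ⊓ Subgroup.centralizer {a}) = F0 := by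
      refine le_antisymm (inf_le_inf_right _ inf_le_left) fun y hy => ?_
      obtain ⟨hyU, hya⟩ := (hF0mem y).1 hy
      exact ⟨⟨hyU, Subgroup.mem_centralizer_singleton_iff.2 (hfix y hyU x hxU hya hxa)⟩, hy.2⟩
    rw [hsame, hF0, hCxcard, show i = 2 by omega] at hmod'
    exact absurd hmod' (by decide)

end CfsgLib.MaxSub.HeisSeven
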