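/-
Commuting involutions of a group of matrices of degree three without minus one.
-/
import Cfsg.Agent.Lib.InvolutionDiag
import Cfsg.Agent.Lib.MaxSub.HeisSeven.Weyl

set_option autoImplicit false
set_option linter.unusedSectionVars false
set_option maxHeartbeats 800000
set_option maxRecDepth 4000
set_option synthInstance.maxSize 2000

namespace CfsgLib.MaxSub.HeisSeven

open Matrix

variable {F : Type*} [Field F]

local notation "M3" => Matrix (Fin 3) (Fin 3) F
local notation "G3" => GL (Fin 3) F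

/-- The sign of a boolean. -/
def sg (F : Type*) [Field F] (b : Bool) : F := if b then -1 else 1

theorem sg_mul (a b : Bool) : sg F a * sg F b = sg F (a != b) := by cases a <;> cases b <;> simp [sg]

theorem sg_inj (h2 : (2 : F) ≠ 0) {a b : Bool} (e : sg F a = sg F b) : a = b := by
  cases a <;> cases b <;> simp [sg] at e ⊢
  · exact h2 (by linear_combination e)
  · exact h2 (by linear_combination -e)

/-- The diagonal form of commuting involutions. -/
theorem exists_signs (h2 : (2 : F) ≠ 0) {ι : Type*} [Fintype ι] (A : ι → G3) (hsq : ∀ i, A i * A i = 1)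
    (hcomm : ∀ i j, A i * A j = A j * A i) :
    ∃ (P : G3) (e : ι → Fin 3 → Bool), ∀ i,
      (((P⁻¹ * A i * P : G3)) : M3) = diagonal fun r => sg F (e i r) := by
  classical
  obtain ⟨P, s, hs, hA⟩ := InvolutionDiag.exists_diag h2 (fun i => (A i : M3))
    (fun i => by rw [← Units.val_mul, hsq, Units.val_one]) (fun i j => by rw [← Units.val_mul, ← Units.val_mul, hcomm])
  refine ⟨P, fun i r => decide (s i r = -1), fun i => ?_⟩
  rw [Units.val_mul, Units.val_mul, hA i, show ∀ D : M3, (P⁻¹ : G3).1 * (P.1 * D * (P⁻¹ : G3).1) * P.1 = D from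
    fun D => by simp [Matrix.mul_assoc]]
  congr 1
  funext r
  rcases hs i r with e | e <;> by_cases e' : s i r = -1 <;> simp [sg, e, e'] <;>
    exact absurd e (by rw [e']; intro e''; exact h2 (by linear_combination -e''))

variable (h2 : (2 : F) ≠ 0) {X : Subgroup (GL (Fin 3) F)}
  (hX : ∀ x ∈ X, (x : Matrix (Fin 3) (Fin 3) F) ≠ -1)
include h2 hX

theorem not_all {P x : G3} (hx : x ∈ X) {e : Fin 3 → Bool} (he : ((P⁻¹ * x * P : G3) : M3) = diagonal fun r => sg F (e r)) :
    e 0 = false ∨ e 1 = false ∨ e 2 = false := by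
  by_contra hc
  simp only [not_or, Bool.not_eq_false] at hc
  refine hX x hx ?_
  have e1 : ((P⁻¹ * x * P : G3) : M3) = -1 := by
    rw [he, ← diagonal_one, diagonal_neg]
    congr 1
    funext r
    fin_cases r <;> simp [sg, hc.1, hc.2.1, hc.2.2]
  have e2 : (x : M3) = (P : M3) * ((P⁻¹ * x * P : G3) : M3) * ((P⁻¹ : G3) : M3) := by
    rw [← Units.val_mul, ← Units.val_mul, show P * (P⁻¹ * x * P) * P⁻¹ = x by group]
  rw [e2, e1, Matrix.mul_neg, Matrix.mul_one, Matrix.neg_mul, ← Units.val_mul, mul_inv_cancel, Units.val_one]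

omit h2 hX in
theorem conj_prod {P x y : G3} {e e' : Fin 3 → Bool}
    (he : ((P⁻¹ * x * P : G3) : M3) = diagonal fun r => sg F (e r))
    (he' : ((P⁻¹ * y * P : G3) : M3) = diagonal fun r => sg F (e' r)) :
    ((P⁻¹ * (x * y) * P : G3) : M3) = diagonal fun r => sg F (e r != e' r) := by
  rw [show P⁻¹ * (x * y) * P = (P⁻¹ * x * P) * (P⁻¹ * y * P) by group, Units.val_mul, he, he', diagonal_mul_diagonal]
  exact congrArg diagonal (funext fun r => sg_mul _ _)

omit h2 hX in
theorem conj_eq {P x y : G3} {e e' : Fin 3 → Bool}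
    (he : ((P⁻¹ * x * P : G3) : M3) = diagonal fun r => sg F (e r))
    (he' : ((P⁻¹ * y * P : G3) : M3) = diagonal fun r => sg F (e' r)) (heq : e = e') : x = y := by
  have : P⁻¹ * x * P = P⁻¹ * y * P := Units.ext (by rw [he, he', heq])
  simpa using this

omit h2 hX in
theorem conj_one (P : G3) : ((P⁻¹ * 1 * P : G3) : M3) = diagonal fun r : Fin 3 => sg F ((fun _ => false) r) := by
  simp [sg]

/-- A four-group is a maximal elementary abelian subgroup. -/
theorem four_max {a b c : G3} (ha : a ∈ X) (hb : b ∈ X) (hc : c ∈ X) (ha2 : a * a = 1) (hb2 : b * b = 1)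
    (hc2 : c * c = 1) (hab : a * b = b * a) (hac : a * c = c * a) (hbc : b * c = c * b) (ha1 : a ≠ 1) (hb1 : b ≠ 1)
    (hne : a ≠ b) : c = 1 ∨ c = a ∨ c = b ∨ c = a * b := by
  obtain ⟨P, e, he⟩ := exists_signs h2 ![a, b, c] (by intro i; fin_cases i <;> simp [ha2, hb2, hc2])
    (by intro i j; fin_cases i <;> fin_cases j <;> simp [hab, hac, hbc])
  have e0 : ((P⁻¹ * a * P : G3) : M3) = diagonal fun r => sg F (e 0 r) := he 0
  have e1 : ((P⁻¹ * b * P : G3) : M3) = diagonal fun r => sg F (e 1 r) := he 1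
  have e2 : ((P⁻¹ * c * P : G3) : M3) = diagonal fun r => sg F (e 2 r) := he 2
  have n := fun {x : G3} {v : Fin 3 → Bool} => not_all h2 hX (P := P) (x := x) (e := v)
  have key : ∀ u v w : Fin 3 → Bool, (u 0 = false ∨ u 1 = false ∨ u 2 = false) →
      (v 0 = false ∨ v 1 = false ∨ v 2 = false) → (w 0 = false ∨ w 1 = false ∨ w 2 = false) →
      ((u 0 != v 0) = false ∨ (u 1 != v 1) = false ∨ (u 2 != v 2) = false) →
      ((u 0 != w 0) = false ∨ (u 1 != w 1) = false ∨ (u 2 != w 2) = false) →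
      ((v 0 != w 0) = false ∨ (v 1 != w 1) = false ∨ (v 2 != w 2) = false) →
      (((u 0 != v 0) != w 0) = false ∨ ((u 1 != v 1) != w 1) = false ∨ ((u 2 != v 2) != w 2) = false) →
      u ≠ (fun _ => false) → v ≠ (fun _ => false) → u ≠ v →
      w = (fun _ => false) ∨ w = u ∨ w = v ∨ w = fun r => u r != v r := by decide
  rcases key (e 0) (e 1) (e 2) (n ha e0) (n hb e1) (n hc e2) (n (mul_mem ha hb) (conj_prod e0 e1))
      (n (mul_mem ha hc) (conj_prod e0 e2)) (n (mul_mem hb hc) (conj_prod e1 e2))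
      (n (mul_mem (mul_mem ha hb) hc) (conj_prod (conj_prod e0 e1) e2))
      (fun h => ha1 (conj_eq e0 (conj_one P) h)) (fun h => hb1 (conj_eq e1 (conj_one P) h))
      (fun h => hne (conj_eq e0 e1 h)) with h | h | h | h
  · exact Or.inl (conj_eq e2 (conj_one P) h)
  · exact Or.inr (Or.inl (conj_eq e2 e0 h))
  · exact Or.inr (Or.inr (Or.inl (conj_eq e2 e1 h)))
  · exact Or.inr (Or.inr (Or.inr (conj_eq e2 (conj_prod e0 e1) h)))

/-- The joint eigenspaces of a four-group are lines. -/
theorem four_diag {a b : G3} (ha : a ∈ X) (hb : b ∈ X) (ha2 : a * a = 1) (hb2 : b * b = 1) (hab : a * b = b * a)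
    (ha1 : a ≠ 1) (hb1 : b ≠ 1) (hne : a ≠ b) :
    ∃ (P : G3) (u v : Fin 3 → Bool), ((P⁻¹ * a * P : G3) : M3) = diagonal (fun r => sg F (u r)) ∧
      ((P⁻¹ * b * P : G3) : M3) = diagonal (fun r => sg F (v r)) ∧
      (∀ r c, u r = u c → v r = v c → r = c) ∧
      ∀ y : G3, y * a = a * y → y * b = b * y → ∀ r c, r ≠ c → ((P⁻¹ * y * P : G3) : M3) r c = 0 := by
  obtain ⟨P, e, he⟩ := exists_signs h2 ![a, b] (by intro i; fin_cases i <;> simp [ha2, hb2])
    (by intro i j; fin_cases i <;> fin_cases j <;> simp [hab])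
  have e0 : ((P⁻¹ * a * P : G3) : M3) = diagonal fun r => sg F (e 0 r) := he 0
  have e1 : ((P⁻¹ * b * P : G3) : M3) = diagonal fun r => sg F (e 1 r) := he 1
  have n := fun {x : G3} {v : Fin 3 → Bool} => not_all h2 hX (P := P) (x := x) (e := v)
  have key : ∀ u v : Fin 3 → Bool, (u 0 = false ∨ u 1 = false ∨ u 2 = false) →
      (v 0 = false ∨ v 1 = false ∨ v 2 = false) →
      ((u 0 != v 0) = false ∨ (u 1 != v 1) = false ∨ (u 2 != v 2) = false) →
      u ≠ (fun _ => false) → v ≠ (fun _ => false) → u ≠ v →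
      ∀ r c, u r = u c → v r = v c → r = c := by decide
  have hinj := key (e 0) (e 1) (n ha e0) (n hb e1) (n (mul_mem ha hb) (conj_prod e0 e1))
      (fun h => ha1 (conj_eq e0 (conj_one P) h)) (fun h => hb1 (conj_eq e1 (conj_one P) h))
      (fun h => hne (conj_eq e0 e1 h))
  refine ⟨P, e 0, e 1, e0, e1, hinj, fun y hya hyb r c hrc => ?_⟩
  set Y := ((P⁻¹ * y * P : G3) : M3)
  have hz : ∀ (x : G3) (w : Fin 3 → Bool), ((P⁻¹ * x * P : G3) : M3) = diagonal (fun r => sg F (w r)) →
      y * x = x * y → Y r c = 0 ∨ w r = w c := by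
    intro x w hw hxy
    have hc' : Y * (diagonal fun r => sg F (w r)) = (diagonal fun r => sg F (w r)) * Y := by
      rw [← hw, ← Units.val_mul, ← Units.val_mul]
      congr 1
      calc P⁻¹ * y * P * (P⁻¹ * x * P) = P⁻¹ * (y * x) * P := by group
        _ = P⁻¹ * (x * y) * P := by rw [hxy]
        _ = _ := by group
    have := congrFun (congrFun hc' r) c
    rw [mul_diagonal, diagonal_mul, mul_comm] at this
    rcases eq_or_ne (Y r c) 0 with h | h
    · exact Or.inl h
    · exact Or.inr (sg_inj h2 (mul_right_cancel₀ h this)).symm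
  rcases hz a _ e0 hya with h | h
  · exact h
  rcases hz b _ e1 hyb with h' | h'
  · exact h'
  exact absurd (hinj r c h h') hrc

/-- The centraliser of a four-group is abelian. -/
theorem four_comm {a b x y : G3} (ha : a ∈ X) (hb : b ∈ X) (ha2 : a * a = 1) (hb2 : b * b = 1)
    (hab : a * b = b * a) (ha1 : a ≠ 1) (hb1 : b ≠ 1) (hne : a ≠ b) (hxa : x * a = a * x) (hxb : x * b = b * x)
    (hya : y * a = a * y) (hyb : y * b = b * y) : x * y = y * x := by
  obtain ⟨P, u, v, -, -, -, hd⟩ := four_diag h2 hX ha hb ha2 hb2 hab ha1 hb1 hne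
  have hdiag : ∀ z : G3, z * a = a * z → z * b = b * z →
      ((P⁻¹ * z * P : G3) : M3) = diagonal fun r => ((P⁻¹ * z * P : G3) : M3) r r := by
    intro z hza hzb
    ext r c
    by_cases e : r = c
    · subst e; simp
    · rw [diagonal_apply_ne _ e]; exact hd z hza hzb r c e
  have e : (P⁻¹ * x * P) * (P⁻¹ * y * P) = (P⁻¹ * y * P) * (P⁻¹ * x * P) := Units.ext (by
    rw [Units.val_mul, Units.val_mul (P⁻¹ * y * P), hdiag x hxa hxb, hdiag y hya hyb, diagonal_mul_diagonal,
      diagonal_mul_diagonal]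
    exact congrArg diagonal (funext fun r => mul_comm _ _))
  calc x * y = P * ((P⁻¹ * x * P) * (P⁻¹ * y * P)) * P⁻¹ := by group
    _ = P * ((P⁻¹ * y * P) * (P⁻¹ * x * P)) * P⁻¹ := by rw [e]
    _ = y * x := by group

/-- An element permuting a four-group cyclically leaves only scalars in the centraliser. -/
theorem four_cycle {a b s y : G3} (ha : a ∈ X) (hb : b ∈ X) (ha2 : a * a = 1) (hb2 : b * b = 1)
    (hab : a * b = b * a) (ha1 : a ≠ 1) (hb1 : b ≠ 1) (hne : a ≠ b) (hsa : s * a = b * s) (hsb : s * b = a * b * s)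
    (hya : y * a = a * y) (hyb : y * b = b * y) (hys : y * s = s * y) : IsScal (y : M3) := by
  obtain ⟨P, u, v, eu, ev, hinj, hd⟩ := four_diag h2 hX ha hb ha2 hb2 hab ha1 hb1 hne
  have n := fun {x : G3} {w : Fin 3 → Bool} => not_all h2 hX (P := P) (x := x) (e := w)
  set S := ((P⁻¹ * s * P : G3) : M3)
  set Y := ((P⁻¹ * y * P : G3) : M3)
  have hstep : ∀ r c, S r c ≠ 0 → v r = u c ∧ (u r != v r) = v c := by
    intro r c hne'
    have q : ∀ (x x' : G3) (w w' : Fin 3 → Bool), ((P⁻¹ * x * P : G3) : M3) = diagonal (fun r => sg F (w r)) →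
        ((P⁻¹ * x' * P : G3) : M3) = diagonal (fun r => sg F (w' r)) → s * x = x' * s → w' r = w c := by
      intro x x' w w' hw hw' hx
      have hc' : S * (diagonal fun r => sg F (w r)) = (diagonal fun r => sg F (w' r)) * S := by
        rw [← hw, ← hw', ← Units.val_mul, ← Units.val_mul]
        congr 1
        calc P⁻¹ * s * P * (P⁻¹ * x * P) = P⁻¹ * (s * x) * P := by group
          _ = P⁻¹ * (x' * s) * P := by rw [hx]
          _ = _ := by group
      have := congrFun (congrFun hc' r) c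
      rw [mul_diagonal, diagonal_mul, mul_comm] at this
      exact (sg_inj h2 (mul_right_cancel₀ hne' this)).symm
    exact ⟨q a b u v eu ev hsa, q b (a * b) v _ ev (conj_prod eu ev) hsb⟩
  have hcol : ∀ c, ∃ r, S r c ≠ 0 := by
    intro c
    by_contra hc
    push Not at hc
    exact ((Matrix.isUnit_iff_isUnit_det S).1 (P⁻¹ * s * P).isUnit).ne_zero (det_eq_zero_of_column_eq_zero c hc)
  have key : ∀ u v : Fin 3 → Bool, (u 0 = false ∨ u 1 = false ∨ u 2 = false) →
      (v 0 = false ∨ v 1 = false ∨ v 2 = false) →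
      ((u 0 != v 0) = false ∨ (u 1 != v 1) = false ∨ (u 2 != v 2) = false) →
      u ≠ (fun _ => false) → v ≠ (fun _ => false) → u ≠ v →
      (∀ c, ∃ r, v r = u c ∧ (u r != v r) = v c) →
      ∀ r c, r ≠ c → (v r = u c ∧ (u r != v r) = v c) ∨ (v c = u r ∧ (u c != v c) = v r) := by decide
  have hadj := key u v (n ha eu) (n hb ev) (n (mul_mem ha hb) (conj_prod eu ev))
    (fun h => ha1 (conj_eq eu (conj_one P) h)) (fun h => hb1 (conj_eq ev (conj_one P) h))
    (fun h => hne (conj_eq eu ev h)) (fun c => (hcol c).imp fun r hr => hstep r c hr)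
  have hpair : ∀ r c, v r = u c → (u r != v r) = v c → S r c ≠ 0 := by
    intro r c h1 h3
    obtain ⟨r', hr'⟩ := hcol c
    obtain ⟨h1', h3'⟩ := hstep r' c hr'
    have hkey : ∀ a b a' b' : Bool, b = b' → (a != b) = (a' != b') → a = a' := by decide
    have hvv : v r = v r' := h1.trans h1'.symm
    rwa [hinj r r' (hkey _ _ _ _ hvv (h3.trans h3'.symm)) hvv]
  have hYd : Y = diagonal fun r => Y r r := by
    ext r c
    by_cases e : r = c
    · subst e; simp
    · rw [diagonal_apply_ne _ e]; exact hd y hya hyb r c e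
  have hYS : Y * S = S * Y := by
    rw [← Units.val_mul, ← Units.val_mul]
    congr 1
    calc P⁻¹ * y * P * (P⁻¹ * s * P) = P⁻¹ * (y * s) * P := by group
      _ = P⁻¹ * (s * y) * P := by rw [hys]
      _ = _ := by group
  have hedge : ∀ r c, S r c ≠ 0 → Y r r = Y c c := by
    intro r c hne'
    have := congrFun (congrFun hYS r) c
    rw [hYd, diagonal_mul, mul_diagonal, mul_comm] at this
    exact mul_left_cancel₀ hne' this
  have hall : ∀ r, Y r r = Y 0 0 := by
    intro r
    rcases eq_or_ne r 0 with rfl | hr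
    · rfl
    rcases hadj r 0 hr with h | h
    · exact hedge r 0 (hpair r 0 h.1 h.2)
    · exact (hedge 0 r (hpair 0 r h.1 h.2)).symm
  refine ⟨Y 0 0, ?_⟩
  have e1 : (y : M3) = (P : M3) * Y * ((P⁻¹ : G3) : M3) := by
    rw [← Units.val_mul, ← Units.val_mul, show P * (P⁻¹ * y * P) * P⁻¹ = y by group]
  have e2 : Y = Y 0 0 • (1 : M3) := by
    rw [← diagonal_one, ← diagonal_smul]
    conv_lhs => rw [hYd]
    exact congrArg diagonal (funext fun r => by rw [hall r, Pi.smul_apply, smul_eq_mul, mul_one])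
  rw [e1, e2, Matrix.mul_smul, Matrix.mul_one, Matrix.smul_mul, ← Units.val_mul, mul_inv_cancel, Units.val_one]
  congr 1
  simp

end CfsgLib.MaxSub.HeisSeven
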