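/-
Fusion of involutions in a double cover of a group of matrices of degree three.
-/
import Cfsg.Agent.Lib.MaxSub.HeisSeven.Signs
import Cfsg.Agent.Lib.MaximalClass
import Cfsg.Agent.Lib.DihedralShape

set_option autoImplicit false
set_option linter.unusedSectionVars false
set_option linter.style.haveILetI false
set_option maxHeartbeats 1600000

namespace CfsgLib.MaxSub.HeisSeven

open Matrix

variable {F : Type*} [Field F] {C : Type*} [Group C]

/-- A double cover of a group of matrices of degree three with a frame of quaternion type. -/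
structure Cover (π : C →* GL (Fin 3) F) (J : C) : Prop where
  two : (2 : F) ≠ 0
  ne : J ≠ 1
  sq : J * J = 1
  central : ∀ g, g * J = J * g
  image : π J = 1
  ker : ∀ g, π g = 1 → g = 1 ∨ g = J
  neg : ∀ x ∈ π.range, (x : Matrix (Fin 3) (Fin 3) F) ≠ -1
  frame : ∃ f g, f * f = J ∧ g * g = J ∧ f * g = g * f * J

namespace Cover

variable {π : C →* GL (Fin 3) F} {J : C} (D : Cover π J)
include D

theorem lift_eq {a b : C} (e : π a = π b) : b = a ∨ b = a * J := by
  rcases D.ker (a⁻¹ * b) (by rw [map_mul, map_inv, e, inv_mul_cancel]) with h | h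
  · exact Or.inl (inv_mul_eq_one.1 h).symm
  · exact Or.inr (inv_mul_eq_iff_eq_mul.1 h)

theorem sq_eq {a b : C} (e : π a = π b) : b * b = a * a := by
  rcases D.lift_eq e with rfl | rfl
  · rfl
  · rw [mul_assoc, ← mul_assoc J, ← D.central a, mul_assoc a J J, D.sq, mul_one]

theorem image_ne {t : C} (h1 : t ≠ 1) (hJ : t ≠ J) : π t ≠ 1 := fun e => (D.ker t e).elim h1 hJ

theorem ne_of_sq {a b : C} (ha : a * a = 1) (hb : b * b = J) : π a ≠ π b := fun e => D.ne (by
  rw [← hb, D.sq_eq e, ha])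

/-- Commuting images give commuting squares. -/
theorem sq_comm {a b : C} (e : π (a * b) = π (b * a)) : Commute (a * a) (b * b) := by
  have h1 : a * a * b = b * (a * a) := by
    rcases D.lift_eq e with h | h
    · rw [← mul_assoc b a, h, mul_assoc a b a, h, ← mul_assoc]
    · have h' : a * b = b * a * J := by rw [h, mul_assoc, D.sq, mul_one]
      calc a * a * b = a * (b * a * J) := by rw [mul_assoc, h']
        _ = (a * b) * a * J := by simp only [mul_assoc]
        _ = b * a * (J * a) * J := by rw [h']; simp only [mul_assoc]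
        _ = b * a * a * (J * J) := by rw [← D.central a]; simp only [mul_assoc]
        _ = b * (a * a) := by rw [D.sq, mul_one, mul_assoc]
  exact Commute.mul_right h1 h1

theorem emb_mem {M : Subgroup ↥π.range} (x : ↥M) : ((x : ↥π.range) : GL (Fin 3) F) ∈ π.range := (x : ↥π.range).2

/-- A four-group in the image is a maximal elementary abelian subgroup. -/
theorem emb_max {M : Subgroup ↥π.range} {a b c : ↥M} (ha2 : a * a = 1) (hb2 : b * b = 1) (hc2 : c * c = 1)
    (hab : a * b = b * a) (hac : a * c = c * a) (hbc : b * c = c * b) (ha1 : a ≠ 1) (hb1 : b ≠ 1) (hne : a ≠ b) :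
    c = 1 ∨ c = a ∨ c = b ∨ c = a * b := by
  set ι := π.range.subtype.comp M.subtype
  have hi : Function.Injective ι := π.range.subtype_injective.comp M.subtype_injective
  rcases four_max D.two D.neg (D.emb_mem a) (D.emb_mem b) (D.emb_mem c) (a := ι a) (b := ι b) (c := ι c)
      (by rw [← map_mul, ha2, map_one]) (by rw [← map_mul, hb2, map_one]) (by rw [← map_mul, hc2, map_one])
      (by rw [← map_mul, ← map_mul, hab]) (by rw [← map_mul, ← map_mul, hac]) (by rw [← map_mul, ← map_mul, hbc])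
      (fun e => ha1 (hi (by rw [e, map_one]))) (fun e => hb1 (hi (by rw [e, map_one]))) (fun e => hne (hi e))
    with e | e | e | e
  · exact Or.inl (hi (by rw [e, map_one]))
  · exact Or.inr (Or.inl (hi e))
  · exact Or.inr (Or.inr (Or.inl (hi e)))
  · exact Or.inr (Or.inr (Or.inr (hi (by rw [e, map_mul]))))

/-- The centraliser of a four-group in the image is abelian. -/
theorem emb_comm {M : Subgroup ↥π.range} {a b x y : ↥M} (ha2 : a * a = 1) (hb2 : b * b = 1) (hab : a * b = b * a)
    (ha1 : a ≠ 1) (hb1 : b ≠ 1) (hne : a ≠ b) (hxa : x * a = a * x) (hxb : x * b = b * x)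
    (hya : y * a = a * y) (hyb : y * b = b * y) : x * y = y * x := by
  set ι := π.range.subtype.comp M.subtype
  have hi : Function.Injective ι := π.range.subtype_injective.comp M.subtype_injective
  refine hi ?_
  rw [map_mul, map_mul]
  exact four_comm D.two D.neg (D.emb_mem a) (D.emb_mem b) (a := ι a) (b := ι b)
    (by rw [← map_mul, ha2, map_one]) (by rw [← map_mul, hb2, map_one]) (by rw [← map_mul, ← map_mul, hab])
    (fun e => ha1 (hi (by rw [e, map_one]))) (fun e => hb1 (hi (by rw [e, map_one]))) (fun e => hne (hi e))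
    (by rw [← map_mul, ← map_mul, hxa]) (by rw [← map_mul, ← map_mul, hxb])
    (by rw [← map_mul, ← map_mul, hya]) (by rw [← map_mul, ← map_mul, hyb])

variable [Finite C]

omit [Finite C] in
theorem rr_ne_of_sq {a : C} (ha : a * a = J) : π.rangeRestrict a ≠ 1 := fun e => D.ne (by
  rw [← ha, D.sq_eq (a := 1) (by rw [map_one]; exact (congrArg Subtype.val e).symm), one_mul])

omit [Finite C] in
theorem frame_prod {f g : C} (hf : f * f = J) (hg : g * g = J) (hfg : f * g = g * f * J) :
    f * g * (f * g) = J := by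
  calc f * g * (f * g) = f * g * (g * f * J) := by rw [← hfg]
    _ = f * (g * g) * f * J := by simp only [mul_assoc]
    _ = f * f * (J * J) := by rw [hg, mul_assoc f J f, ← D.central f]; simp only [mul_assoc]
    _ = J := by rw [hf, D.sq, mul_one]

omit [Finite C] in
theorem frame_image_ne {f g : C} (hfg : f * g = g * f * J) : π.rangeRestrict f ≠ π.rangeRestrict g := fun e => by
  rcases D.lift_eq (congrArg Subtype.val e : π f = π g) with r | r
  · rw [r] at hfg
    exact D.ne (left_eq_mul.1 hfg)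
  · rw [r] at hfg
    refine D.ne ((left_eq_mul (a := f * (f * J))).1 ?_)
    conv_lhs => rw [hfg]
    rw [mul_assoc f J f, ← D.central f]

omit [Finite C] in
/-- An involution with trivial lift squares does not centralise the frame. -/
theorem frame_not_both {M : Subgroup ↥π.range} {f g t : C} (hf : f * f = J) (hg : g * g = J)
    (hfg : f * g = g * f * J) {u v w : ↥M} (hu : (u : ↥π.range) = π.rangeRestrict f)
    (hv : (v : ↥π.range) = π.rangeRestrict g) (hw : (w : ↥π.range) = π.rangeRestrict t) (ht : t * t = 1)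
    (hw1 : w ≠ 1) (hwu : u * w = w * u) : v * w ≠ w * v := fun hwv => by
  have hρJ : π.rangeRestrict J = 1 := Subtype.ext D.image
  have hnot : ∀ a : C, a * a = J → (w : ↥π.range) ≠ π.rangeRestrict a := fun a ha e =>
    D.ne_of_sq ht ha (congrArg Subtype.val (hw.symm.trans e))
  rcases D.emb_max (a := u) (b := v) (c := w)
      (Subtype.ext (by rw [Subgroup.coe_mul, hu, ← map_mul, hf, hρJ]; rfl))
      (Subtype.ext (by rw [Subgroup.coe_mul, hv, ← map_mul, hg, hρJ]; rfl))
      (Subtype.ext (by rw [Subgroup.coe_mul, hw, ← map_mul, ht, map_one]; rfl))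
      (Subtype.ext (by rw [Subgroup.coe_mul, Subgroup.coe_mul, hu, hv, ← map_mul, hfg, map_mul, map_mul, hρJ, mul_one]))
      hwu hwv (fun e => D.rr_ne_of_sq hf (by rw [← hu, e]; rfl)) (fun e => D.rr_ne_of_sq hg (by rw [← hv, e]; rfl))
      (fun e => D.frame_image_ne hfg (by rw [← hu, ← hv, e])) with h | h | h | h
  · exact hw1 h
  · exact hnot f hf (by rw [h, hu])
  · exact hnot g hg (by rw [h, hv])
  · exact hnot (f * g) (D.frame_prod hf hg hfg) (by rw [h, Subgroup.coe_mul, hu, hv, map_mul])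

/-- A Sylow subgroup with a frame and a central involution, every lift of which is of order four. -/
theorem exists_sylow_frame {f g : C} (hf : f * f = J) (hg : g * g = J) (hfg : f * g = g * f * J) :
    ∃ S : Sylow 2 ↥π.range, π.rangeRestrict f ∈ (S : Subgroup ↥π.range) ∧
      π.rangeRestrict g ∈ (S : Subgroup ↥π.range) ∧
      ∃ (z : ↥(S : Subgroup ↥π.range)) (G : C), z ≠ 1 ∧ z * z = 1 ∧ (∀ s, s * z = z * s) ∧
        π.rangeRestrict G = z ∧ G * G = J := by
  haveI : Fact (Nat.Prime 2) := ⟨Nat.prime_two⟩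
  haveI : Finite ↥π.range := Finite.of_surjective _ π.rangeRestrict_surjective
  set ρ := π.rangeRestrict
  have hJ : ρ J = 1 := Subtype.ext D.image
  have huv : ρ f * ρ g = ρ g * ρ f := by rw [← map_mul, hfg, map_mul, map_mul, hJ, mul_one]
  have hu : ρ f * ρ f = 1 := by rw [← map_mul, hf, hJ]
  have hv : ρ g * ρ g = 1 := by rw [← map_mul, hg, hJ]
  set P := Subgroup.closure ({ρ f, ρ g} : Set ↥π.range)
  have hP : IsPGroup 2 ↥P := by
    rintro ⟨w, hw⟩
    have : ∃ i j : ℕ, w = ρ f ^ i * ρ g ^ j := by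
      induction hw using Subgroup.closure_induction with
      | mem r hr =>
        rcases hr with rfl | rfl
        · exact ⟨1, 0, by simp⟩
        · exact ⟨0, 1, by simp⟩
      | one => exact ⟨0, 0, by simp⟩
      | mul a b _ _ ha hb =>
        obtain ⟨i, j, rfl⟩ := ha
        obtain ⟨k, l, rfl⟩ := hb
        exact ⟨i + k, j + l, by rw [pow_add, pow_add, (Commute.pow_pow huv.symm j k).mul_mul_mul_comm]⟩
      | inv a _ ha =>
        obtain ⟨i, j, rfl⟩ := ha
        refine ⟨i, j, ?_⟩
        rw [_root_.mul_inv_rev, ← inv_pow, ← inv_pow, inv_eq_of_mul_eq_one_right hu, inv_eq_of_mul_eq_one_right hv]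
        exact (Commute.pow_pow huv.symm j i).eq
    obtain ⟨i, j, rfl⟩ := this
    refine ⟨1, Subtype.ext ?_⟩
    show (ρ f ^ i * ρ g ^ j) ^ 2 ^ 1 = 1
    rw [pow_one, (Commute.pow_pow huv i j).mul_pow, ← pow_mul, ← pow_mul, mul_comm i, mul_comm j, pow_mul, pow_mul,
      pow_two, pow_two, hu, hv, one_pow, one_pow, one_mul]
  obtain ⟨S, hS⟩ := hP.exists_le_sylow
  have hfS : ρ f ∈ (S : Subgroup ↥π.range) := hS (Subgroup.subset_closure (Set.mem_insert _ _))
  have hgS : ρ g ∈ (S : Subgroup ↥π.range) := hS (Subgroup.subset_closure (Set.mem_insert_of_mem _ rfl))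
  refine ⟨S, hfS, hgS, ?_⟩
  set u : ↥(S : Subgroup ↥π.range) := ⟨ρ f, hfS⟩
  set v : ↥(S : Subgroup ↥π.range) := ⟨ρ g, hgS⟩
  have hfg' := D.frame_prod hf hg hfg
  have hne : ∀ a : C, a * a = J → ρ a ≠ 1 := fun a ha => D.rr_ne_of_sq ha
  have hu1 : u ≠ 1 := fun e => hne f hf (congrArg Subtype.val e)
  haveI : Nontrivial ↥(S : Subgroup ↥π.range) := ⟨⟨u, 1, hu1⟩⟩
  haveI := S.2.center_nontrivial
  have h2 : 2 ∣ Nat.card (Subgroup.center ↥(S : Subgroup ↥π.range)) := by
    obtain ⟨k, hk⟩ := (S.2.to_subgroup (Subgroup.center _)).exists_card_eq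
    rcases Nat.eq_zero_or_pos k with rfl | hk0
    · rw [pow_zero] at hk
      exact absurd hk Finite.one_lt_card.ne'
    · rw [hk]; exact dvd_pow_self 2 hk0.ne'
  obtain ⟨z, hz⟩ := exists_prime_orderOf_dvd_card' 2 h2
  have hz2 : (z : ↥(S : Subgroup ↥π.range)) * z = 1 := by
    have h := pow_orderOf_eq_one z; rw [hz, pow_two] at h; exact congrArg Subtype.val h
  have hz1 : (z : ↥(S : Subgroup ↥π.range)) ≠ 1 := fun e => by
    rw [show z = 1 from Subtype.ext e, orderOf_one] at hz; omega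
  have hzc : ∀ s, s * (z : ↥(S : Subgroup ↥π.range)) = z * s := Subgroup.mem_center_iff.1 z.2
  rcases D.emb_max (a := u) (b := v) (c := z) (Subtype.ext hu) (Subtype.ext hv) hz2 (Subtype.ext huv) (hzc u)
      (hzc v) hu1 (fun e => hne g hg (congrArg Subtype.val e))
      (fun e => D.frame_image_ne hfg (congrArg Subtype.val e)) with e | e | e | e
  · exact absurd e hz1
  · exact ⟨z, f, hz1, hz2, hzc, by rw [e], hf⟩
  · exact ⟨z, g, hz1, hz2, hzc, by rw [e], hg⟩
  · exact ⟨z, f * g, hz1, hz2, hzc, by rw [e, map_mul]; rfl, hfg'⟩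

omit D in
/-- An element of two-power order is conjugate into a Sylow subgroup. -/
theorem exists_conj_mem (S : Sylow 2 ↥π.range) (c : C) {m : ℕ} (hc : π.rangeRestrict c ^ 2 ^ m = 1) :
    ∃ k : C, π.rangeRestrict (k * c * k⁻¹) ∈ (S : Subgroup ↥π.range) := by
  haveI : Fact (Nat.Prime 2) := ⟨Nat.prime_two⟩
  haveI : Finite ↥π.range := Finite.of_surjective _ π.rangeRestrict_surjective
  have hZ : IsPGroup 2 (Subgroup.zpowers (π.rangeRestrict c)) := by
    obtain ⟨j, -, hj⟩ := (Nat.dvd_prime_pow Nat.prime_two).1 (orderOf_dvd_of_pow_eq_one hc)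
    exact IsPGroup.of_card (n := j) (by rw [Nat.card_zpowers, hj])
  obtain ⟨P, hP⟩ := hZ.exists_le_sylow
  obtain ⟨w, hw⟩ := MulAction.exists_smul_eq ↥π.range P S
  obtain ⟨k, rfl⟩ := π.rangeRestrict_surjective w
  refine ⟨k, ?_⟩
  rw [← hw, Sylow.coe_subgroup_smul, map_mul, map_mul, map_inv]
  exact ⟨_, hP (Subgroup.mem_zpowers _), rfl⟩

/-- A non-central involution has no square root. -/
theorem no_root {t : C} (ht : t * t = 1) (h1 : t ≠ 1) (hJ : t ≠ J) (d0 : C) : d0 * d0 ≠ t := by
  intro hd0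
  haveI : Fact (Nat.Prime 2) := ⟨Nat.prime_two⟩
  haveI : Finite ↥π.range := Finite.of_surjective _ π.rangeRestrict_surjective
  obtain ⟨f, g, hf, hg, hfg⟩ := D.frame
  obtain ⟨S, hfS, hgS, z, G, hz1, hz2, hzc, hGz, hG⟩ := D.exists_sylow_frame hf hg hfg
  set ρ := π.rangeRestrict
  obtain ⟨k, hk⟩ := exists_conj_mem S d0 (m := 2) (by
    rw [← map_pow, show (2 : ℕ) ^ 2 = 2 + 2 from rfl, pow_add, pow_two, hd0, ht, map_one])
  set d := k * d0 * k⁻¹
  set t1 := d * d with ht1
  have ht1' : t1 = k * t * k⁻¹ := by rw [← hd0, ht1]; simp only [d]; group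
  have ht12 : t1 * t1 = 1 := by
    rw [ht1', show k * t * k⁻¹ * (k * t * k⁻¹) = k * (t * t) * k⁻¹ by group, ht, mul_one, mul_inv_cancel]
  set x : ↥(S : Subgroup ↥π.range) := ⟨ρ d, hk⟩
  set tb := x * x with htbdef
  have htb : ((tb : ↥π.range) : GL (Fin 3) F) = π t1 := by rw [ht1, map_mul]; rfl
  have htb1 : tb ≠ 1 := fun e => by
    refine D.image_ne h1 hJ ?_
    have : π t1 = 1 := by rw [← htb, e]; rfl
    rw [ht1', map_mul, map_mul, map_inv] at this
    simpa using this
  have htb2 : tb * tb = 1 := Subtype.ext (Subtype.ext (by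
    show ((tb : ↥π.range) : GL (Fin 3) F) * (tb : ↥π.range) = 1
    rw [htb, ← map_mul, ht12, map_one]))
  have hGv : π G = ((z : ↥π.range) : GL (Fin 3) F) := congrArg Subtype.val hGz
  have hztb : z ≠ tb := fun e => D.ne_of_sq ht12 hG (by rw [hGv, e, htb])
  have hx : x * tb = tb * x := by rw [htbdef, mul_assoc]
  set T := Subgroup.centralizer ({tb} : Set ↥(S : Subgroup ↥π.range))
  have memT : ∀ {y}, y ∈ T ↔ y * tb = tb * y := fun {y} => Subgroup.mem_centralizer_singleton_iff
  set u : ↥(S : Subgroup ↥π.range) := ⟨ρ f, hfS⟩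
  set v : ↥(S : Subgroup ↥π.range) := ⟨ρ g, hgS⟩
  have hTlt : T < ⊤ := lt_top_iff_ne_top.2 fun e =>
    D.frame_not_both hf hg hfg (u := u) (v := v) (w := tb) (t := t1) rfl rfl (Subtype.ext htb) ht12 htb1
      (memT.1 (e ▸ Subgroup.mem_top u)) (memT.1 (e ▸ Subgroup.mem_top v))
  haveI := S.2.isNilpotent
  obtain ⟨s, hsN, hsT⟩ := SetLike.exists_of_lt (Group.normalizerCondition_of_isNilpotent T hTlt)
  have hnorm : ∀ {y}, y ∈ T → s * y * s⁻¹ ∈ T := fun {y} hy => (Subgroup.mem_normalizer_iff.1 hsN y).1 hy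
  set t' := s * tb * s⁻¹ with ht'
  have ht'c : t' * tb = tb * t' := memT.1 (hnorm (memT.2 rfl))
  obtain ⟨ks, hks⟩ := π.rangeRestrict_surjective (s : ↥π.range)
  have hks' : π ks = ((s : ↥π.range) : GL (Fin 3) F) := congrArg Subtype.val hks
  set d2 := ks * d * ks⁻¹ with hd2
  have ht2 : π (d2 * d2) = ((t' : ↥π.range) : GL (Fin 3) F) := by
    rw [hd2, show ks * d * ks⁻¹ * (ks * d * ks⁻¹) = ks * (d * d) * ks⁻¹ by group, ← ht1, map_mul, map_mul, map_inv,
      hks', ← htb]
    rfl
  have ht22 : (d2 * d2) * (d2 * d2) = 1 := by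
    rw [hd2, show ks * d * ks⁻¹ * (ks * d * ks⁻¹) * (ks * d * ks⁻¹ * (ks * d * ks⁻¹)) =
      ks * (d * d * (d * d)) * ks⁻¹ by group, ← ht1, ht12, mul_one, mul_inv_cancel]
  rcases D.emb_max hz2 htb2 (c := t') (by
      rw [ht', show s * tb * s⁻¹ * (s * tb * s⁻¹) = s * (tb * tb) * s⁻¹ by group, htb2, mul_one, mul_inv_cancel])
      (hzc tb).symm (hzc t').symm ht'c.symm hz1 htb1 hztb with h | h | h | h
  · refine htb1 ?_
    rw [ht'] at h
    simpa using h
  · exact D.ne_of_sq ht22 hG (by rw [ht2, h, hGv])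
  · exact hsT (memT.2 (mul_inv_eq_iff_eq_mul.1 h))
  · set x' := s * x * s⁻¹
    have hxx : x * x' = x' * x := D.emb_comm hz2 htb2 (hzc tb).symm hz1 htb1 hztb (hzc x) hx (hzc x')
      (memT.1 (hnorm (memT.2 hx)))
    have hd2x : π d2 = ((x' : ↥π.range) : GL (Fin 3) F) := by
      rw [hd2, map_mul, map_mul, map_inv, hks']; rfl
    have hcomm : π (d * d2) = π (d2 * d) := by
      rw [map_mul π d, map_mul π d2, hd2x]
      exact congrArg (fun y : ↥(S : Subgroup ↥π.range) => ((y : ↥π.range) : GL (Fin 3) F)) hxx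
    refine D.ne_of_sq (a := d * d * (d2 * d2)) ?_ hG ?_
    · rw [((D.sq_comm hcomm).symm).mul_mul_mul_comm, ← ht1, ht12, ht22, one_mul]
    · rw [map_mul, ← ht1, ← htb, ht2, hGv, h]
      show ((tb * (z * tb) : ↥(S : Subgroup ↥π.range)) : ↥π.range).1 = _
      rw [← mul_assoc, hzc tb, mul_assoc, htb2, mul_one]

/-- A non-central involution whose centraliser has no element with square `J` makes the Sylow subgroups dihedral. -/
theorem exists_dihedral {t0 : C} (ht0 : t0 * t0 = 1) (h1 : t0 ≠ 1) (hJ : t0 ≠ J)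
    (hK0 : ∀ k, k * t0 = t0 * k → k * k ≠ J) :
    ∃ (S : Sylow 2 ↥π.range) (m : ℕ), 2 ≤ m ∧ Nonempty (↥(S : Subgroup ↥π.range) ≃* DihedralGroup m) := by
  haveI : Fact (Nat.Prime 2) := ⟨Nat.prime_two⟩
  haveI : Finite ↥π.range := Finite.of_surjective _ π.rangeRestrict_surjective
  obtain ⟨f, g, hf, hg, hfg⟩ := D.frame
  obtain ⟨S, hfS, hgS, z, G, hz1, hz2, hzc, hGz, hG⟩ := D.exists_sylow_frame hf hg hfg
  obtain ⟨k0, htS⟩ := exists_conj_mem S t0 (m := 1) (by rw [← map_pow, pow_one, pow_two, ht0, map_one])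
  set t := k0 * t0 * k0⁻¹ with htdef
  have ht : t * t = 1 := by
    rw [htdef, show k0 * t0 * k0⁻¹ * (k0 * t0 * k0⁻¹) = k0 * (t0 * t0) * k0⁻¹ by group, ht0, mul_one, mul_inv_cancel]
  have htne : π t ≠ 1 := by
    rw [htdef, map_mul, map_mul, map_inv]
    simpa using D.image_ne h1 hJ
  have hK : ∀ k, k * t = t * k → k * k ≠ J := by
    intro k hk e
    refine hK0 (k0⁻¹ * k * k0) ?_ ?_
    · calc k0⁻¹ * k * k0 * t0 = k0⁻¹ * (k * t) * k0 := by rw [htdef]; group
        _ = k0⁻¹ * (t * k) * k0 := by rw [hk]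
        _ = t0 * (k0⁻¹ * k * k0) := by rw [htdef]; group
    · rw [show k0⁻¹ * k * k0 * (k0⁻¹ * k * k0) = k0⁻¹ * (k * k) * k0 by group, e, mul_assoc, ← D.central k0,
        inv_mul_cancel_left]
  clear_value t
  set tb : ↥(S : Subgroup ↥π.range) := ⟨π.rangeRestrict t, htS⟩
  set u : ↥(S : Subgroup ↥π.range) := ⟨π.rangeRestrict f, hfS⟩
  set v : ↥(S : Subgroup ↥π.range) := ⟨π.rangeRestrict g, hgS⟩
  have htb1 : tb ≠ 1 := fun e => htne (congrArg (fun x : ↥(S : Subgroup ↥π.range) => ((x : ↥π.range) : GL (Fin 3) F)) e)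
  have htb2 : tb * tb = 1 := Subtype.ext (by
    show π.rangeRestrict t * π.rangeRestrict t = 1
    rw [← map_mul, ht, map_one])
  have hGv : π G = ((z : ↥π.range) : GL (Fin 3) F) := congrArg Subtype.val hGz
  have hztb : z ≠ tb := fun e => D.ne_of_sq ht hG (by rw [hGv, e]; rfl)
  have hGt : G * t = t * G * J := by
    have e : π (G * t) = π (t * G) := by
      rw [map_mul, map_mul, hGv]
      exact congrArg (fun x : ↥(S : Subgroup ↥π.range) => ((x : ↥π.range) : GL (Fin 3) F)) (hzc tb).symm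
    rcases D.lift_eq e.symm with h | h
    · exact absurd hG (hK G h)
    · exact h
  have hsmall : ∀ {k : C} {w : ↥(S : Subgroup ↥π.range)}, (w : ↥π.range) = π.rangeRestrict k → k * t = t * k → w * w = 1 := by
    intro k w hw hk
    obtain ⟨m, hm⟩ := IsPGroup.iff_orderOf.1 S.2 w
    rcases Nat.lt_or_ge m 2 with hm2 | hm2
    · rw [← pow_two, ← orderOf_dvd_iff_pow_eq_one, hm]
      exact (pow_dvd_pow 2 (show m ≤ 1 by omega)).trans (pow_one 2).dvd
    exfalso
    set k1 := k ^ 2 ^ (m - 2)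
    have hk1 : k1 * t = t * k1 := ((show Commute k t from hk).pow_left _).eq
    have hord : orderOf (π.rangeRestrict k) = 2 ^ m := by rw [← hw, Subgroup.orderOf_coe, hm]
    have hρ4 : π.rangeRestrict ((k1 * k1) * (k1 * k1)) = 1 := by
      rw [← pow_two, ← pow_two, ← pow_mul, ← pow_mul, map_pow, ← mul_assoc, ← pow_succ, ← pow_succ,
        show m - 2 + 1 + 1 = m by omega, ← hord, pow_orderOf_eq_one]
    have hne : π (k1 * k1) ≠ 1 := fun e => by
      have e' : π.rangeRestrict k ^ 2 ^ (m - 1) = 1 := by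
        rw [← map_pow, show m - 1 = m - 2 + 1 by omega, pow_succ, pow_mul, pow_two]
        exact Subtype.ext e
      have := orderOf_dvd_of_pow_eq_one e'
      rw [hord, Nat.pow_dvd_pow_iff_le_right (by norm_num)] at this
      omega
    rcases D.ker _ (congrArg Subtype.val hρ4) with e | e
    · exact D.no_root e (fun h => hne (by rw [h, map_one])) (fun h => hne (by rw [h, D.image])) k1 rfl
    · exact hK (k1 * k1) ((show Commute k1 t from hk1).mul_left (show Commute k1 t from hk1)).eq e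
  have hcent : ∀ y : ↥(S : Subgroup ↥π.range), y * tb = tb * y → y = 1 ∨ y = z ∨ y = tb ∨ y = z * tb := by
    intro y hy
    obtain ⟨Y0, hY0⟩ := π.rangeRestrict_surjective (y : ↥π.range)
    have e : π (Y0 * t) = π (t * Y0) := congrArg Subtype.val (by
      rw [map_mul, map_mul, hY0]; exact congrArg Subtype.val hy :
      π.rangeRestrict (Y0 * t) = π.rangeRestrict (t * Y0))
    have hzz : ∀ x : ↥(S : Subgroup ↥π.range), x = 1 ∨ x = z ∨ x = tb ∨ x = z * tb → x * z = 1 ∨ x * z = z ∨ x * z = tb ∨ x * z = z * tb := by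
      rintro x (rfl | rfl | rfl | rfl)
      · exact Or.inr (Or.inl (one_mul z))
      · exact Or.inl hz2
      · exact Or.inr (Or.inr (Or.inr (hzc tb)))
      · exact Or.inr (Or.inr (Or.inl (by rw [mul_assoc, hzc tb, ← mul_assoc, hz2, one_mul])))
    have hmax : ∀ (k : C) (w : ↥(S : Subgroup ↥π.range)), (w : ↥π.range) = π.rangeRestrict k → k * t = t * k →
        w = 1 ∨ w = z ∨ w = tb ∨ w = z * tb := by
      intro k w hw hk
      refine D.emb_max hz2 htb2 (hsmall hw hk) (hzc tb).symm (hzc w).symm ?_ hz1 htb1 hztb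
      refine Subtype.ext ?_
      rw [Subgroup.coe_mul, Subgroup.coe_mul, hw]
      show π.rangeRestrict t * π.rangeRestrict k = _
      rw [← map_mul, ← hk, map_mul]
    rcases D.lift_eq e.symm with h | h
    · exact hmax Y0 y hY0.symm h
    · have h' := hzz _ (hmax (Y0 * G) (y * z) (by rw [Subgroup.coe_mul, map_mul, hY0, hGz]) (by
        calc Y0 * G * t = Y0 * (t * G * J) := by rw [mul_assoc, hGt]
          _ = (Y0 * t) * (G * J) := by simp only [mul_assoc]
          _ = t * Y0 * (J * (G * J)) := by rw [h]; simp only [mul_assoc]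
          _ = t * Y0 * (G * (J * J)) := by rw [← mul_assoc J G J, ← D.central G, mul_assoc G]
          _ = t * (Y0 * G) := by rw [D.sq, mul_one, mul_assoc]))
      rwa [mul_assoc, hz2, mul_one] at h'
  obtain ⟨n, hn⟩ := S.2.exists_card_eq
  have hcard : Nat.card (Subgroup.centralizer ({tb} : Set ↥(S : Subgroup ↥π.range))) = 2 ^ 2 := by
    classical
    have hset : (Subgroup.centralizer ({tb} : Set ↥(S : Subgroup ↥π.range)) : Set ↥(S : Subgroup ↥π.range)) = {1, z, tb, z * tb} := by
      ext y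
      rw [SetLike.mem_coe, Subgroup.mem_centralizer_singleton_iff]
      constructor
      · intro h
        rcases hcent y h with e | e | e | e <;> simp [e]
      · simp only [Set.mem_insert_iff, Set.mem_singleton_iff]
        rintro (rfl | rfl | rfl | rfl)
        · simp
        · exact (hzc tb).symm
        · rfl
        · rw [← mul_assoc tb z tb, hzc tb]
    rw [← SetLike.coe_sort_coe, Nat.card_coe_set_eq, hset,
      Set.ncard_insert_of_notMem (by
        simp only [Set.mem_insert_iff, Set.mem_singleton_iff]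
        rintro (e | e | e)
        · exact hz1 e.symm
        · exact htb1 e.symm
        · exact hztb (by rw [← mul_right_inj z, hz2, e])),
      Set.ncard_insert_of_notMem (by
        simp only [Set.mem_insert_iff, Set.mem_singleton_iff]
        rintro (e | e)
        · exact hztb e
        · exact htb1 (left_eq_mul.1 e)),
      Set.ncard_pair (fun e => hz1 (right_eq_mul.1 e))]
    norm_num
  have hn3 : 3 ≤ n := by
    by_contra hlt
    have hle : Nat.card (Subgroup.centralizer ({tb} : Set ↥(S : Subgroup ↥π.range))) ∣ 2 ^ n := hn ▸ Subgroup.card_subgroup_dvd_card _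
    rw [hcard, Nat.pow_dvd_pow_iff_le_right (by norm_num)] at hle
    have htop : Subgroup.centralizer ({tb} : Set ↥(S : Subgroup ↥π.range)) = ⊤ :=
      Subgroup.eq_top_of_card_eq _ (by rw [hcard, hn, show n = 2 by omega])
    have hcm : ∀ y : ↥(S : Subgroup ↥π.range), y * tb = tb * y := fun y =>
      Subgroup.mem_centralizer_singleton_iff.1 (htop ▸ Subgroup.mem_top y)
    exact D.frame_not_both hf hg hfg (u := u) (v := v) (w := tb) rfl rfl rfl ht htb1 (hcm u) (hcm v)
  have hcl := MaximalClass.class_of_centralizer hn hcard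
  obtain ⟨a, b, r, ha, hb, hgen, hconj, -, hfix, -⟩ := MaximalClass.shape hn3 hn
    (MaximalClass.index_commutator hn3 hn hcl) fun x => MaximalClass.pow_mem_commutator hn3 hn hcl x
  set z0 := a ^ 2 ^ (n - 2) with hz0
  have hz02 : z0 * z0 = 1 := by
    rw [← pow_two, hz0, ← pow_mul, ← pow_succ, show n - 2 + 1 = n - 1 by omega, ← ha, pow_orderOf_eq_one]
  have hz0p : ∀ w ∈ Subgroup.zpowers z0, w = 1 ∨ w = z0 := fun w hw => by
    obtain ⟨i, rfl⟩ := Subgroup.mem_zpowers_iff.1 hw
    have h2 : z0 ^ (2 : ℤ) = 1 := by rw [zpow_ofNat, pow_two, hz02]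
    rcases Int.even_or_odd' i with ⟨k, rfl | rfl⟩
    · left; rw [_root_.zpow_mul, h2, _root_.one_zpow]
    · right; rw [_root_.zpow_add, _root_.zpow_mul, h2, _root_.one_zpow, one_mul, zpow_one]
  have hz0a : Subgroup.zpowers z0 ≤ Subgroup.zpowers a := Subgroup.zpowers_le.2 (pow_mem (Subgroup.mem_zpowers a) _)
  have hcyc : ∀ w ∈ Subgroup.zpowers a, w * w = 1 → w ∈ Subgroup.zpowers z0 := by
    intro w hw h2
    obtain ⟨i, rfl⟩ := Subgroup.mem_zpowers_iff.1 hw
    have h3 : (orderOf a : ℤ) ∣ i + i := orderOf_dvd_iff_zpow_eq_one.2 (by rw [_root_.zpow_add, h2])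
    rw [ha, show n - 1 = n - 2 + 1 by omega, pow_succ, Nat.cast_mul, Nat.cast_two, ← mul_two,
      mul_dvd_mul_iff_right (two_ne_zero : (2 : ℤ) ≠ 0)] at h3
    obtain ⟨k, rfl⟩ := h3
    exact Subgroup.mem_zpowers_iff.2 ⟨k, by rw [hz0, ← zpow_natCast, ← _root_.zpow_mul]⟩
  have hout : ∀ x, x ∉ Subgroup.zpowers a → ∀ w, w * x = x * w →
      w ∈ Subgroup.zpowers z0 ∨ x⁻¹ * w ∈ Subgroup.zpowers z0 := fun x hx w hw =>
    MaximalClass.shape_centralizer ha hgen hconj hfix hx hw
  have hza : z ∈ Subgroup.zpowers a := by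
    by_contra hza
    rcases hout z hza a (hzc a) with e | e
    · rcases hz0p a e with e' | e'
      · rw [e', orderOf_one] at ha
        exact absurd ha.symm (Nat.one_lt_two_pow (by omega)).ne'
      · have h2 : a ^ 2 = 1 := by rw [pow_two, e', hz02]
        have := orderOf_dvd_of_pow_eq_one h2
        rw [ha, ← pow_one 2, ← pow_mul, one_mul, Nat.pow_dvd_pow_iff_le_right (by norm_num)] at this
        omega
    · exact hza (by simpa using mul_mem (Subgroup.mem_zpowers a) (inv_mem (hz0a e)))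
  have hzz0 : z = z0 := (hz0p z (hcyc z hza hz2)).resolve_left hz1
  have hinv : ∀ x, x ∉ Subgroup.zpowers a → x * x = 1 := by
    intro x hx
    have hxx : x * x ∈ Subgroup.zpowers z0 := by
      rcases hout x hx (x * x) (mul_assoc x x x) with e | e
      · exact e
      · rw [inv_mul_cancel_left] at e
        exact absurd (hz0a e) hx
    refine (hz0p _ hxx).resolve_right fun e => ?_
    rw [← hzz0] at e
    set a1 := a ^ 2 ^ (n - 3) with ha1def
    have ha12 : a1 * a1 = z := by
      rw [hzz0, hz0, ← pow_two, ha1def, ← pow_mul, ← pow_succ, show n - 3 + 1 = n - 2 by omega]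
    have ha1a : a1 ∈ Subgroup.zpowers a := pow_mem (Subgroup.mem_zpowers a) _
    have hconjmem : x * a1 * x⁻¹ ∈ Subgroup.zpowers a := by
      obtain ⟨i, hi⟩ := Subgroup.mem_zpowers_iff.1 ha1a
      obtain ⟨j, hj⟩ := Subgroup.mem_zpowers_iff.1 ((hgen x).resolve_left hx)
      refine Subgroup.mem_zpowers_iff.2 ⟨r * i, ?_⟩
      have e1 : x = b * a ^ j := by rw [hj]; group
      rw [_root_.zpow_mul, ← hconj, conj_zpow, e1, ← hi]
      group
    have hc2 : x * a1 * x⁻¹ * (x * a1 * x⁻¹) = z := by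
      rw [show x * a1 * x⁻¹ * (x * a1 * x⁻¹) = x * (a1 * a1) * x⁻¹ by group, ha12, hzc x, mul_inv_cancel_right]
    have hq : x * a1 * x⁻¹ * a1⁻¹ = z := by
      have hcomm : ∀ p ∈ Subgroup.zpowers a, ∀ q ∈ Subgroup.zpowers a, p * q = q * p := by
        intro p hp q hq
        obtain ⟨i, rfl⟩ := Subgroup.mem_zpowers_iff.1 hp
        obtain ⟨j, rfl⟩ := Subgroup.mem_zpowers_iff.1 hq
        rw [← _root_.zpow_add, ← _root_.zpow_add, add_comm]
      have hsq : x * a1 * x⁻¹ * a1⁻¹ * (x * a1 * x⁻¹ * a1⁻¹) = 1 := by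
        rw [(show Commute a1⁻¹ (x * a1 * x⁻¹) from hcomm _ (inv_mem ha1a) _ hconjmem).mul_mul_mul_comm, hc2,
          ← _root_.mul_inv_rev, ha12, mul_inv_cancel]
      rcases hz0p _ (hcyc _ (mul_mem hconjmem (inv_mem ha1a)) hsq) with h | h
      · exfalso
        rcases hout x hx a1 (mul_inv_eq_iff_eq_mul.1 (mul_inv_eq_one.1 h)).symm with h' | h'
        · rcases hz0p _ h' with h'' | h''
          · rw [h'', one_mul] at ha12; exact hz1 ha12.symm
          · rw [h'', hz02] at ha12; exact hz1 ha12.symm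
        · exact hx (by simpa using mul_mem ha1a (inv_mem (hz0a h')))
      · exact h.trans hzz0.symm
    have hai : x * a1 * x⁻¹ = a1⁻¹ := by
      rw [mul_inv_eq_iff_eq_mul.1 hq]
      refine eq_inv_of_mul_eq_one_left ?_
      rw [mul_assoc, ha12, hz2]
    obtain ⟨X, hX⟩ := π.rangeRestrict_surjective (x : ↥π.range)
    obtain ⟨A, hA⟩ := π.rangeRestrict_surjective (a1 : ↥π.range)
    have hzero : π G = π (A * A) := congrArg Subtype.val (by rw [hGz, map_mul, hA, ← Subgroup.coe_mul, ha12] :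
      π.rangeRestrict G = π.rangeRestrict (A * A))
    have hXX : π (X * X) = π (A * A) := congrArg Subtype.val (by
      rw [map_mul, map_mul, hX, hA, ← Subgroup.coe_mul, ← Subgroup.coe_mul, e, ha12] :
      π.rangeRestrict (X * X) = π.rangeRestrict (A * A))
    have hconjA : π (A⁻¹) = π (X * A * X⁻¹) := congrArg Subtype.val (by
      rw [map_mul, map_mul, map_inv, map_inv, hX, hA, ← Subgroup.coe_inv, ← Subgroup.coe_inv, ← Subgroup.coe_mul,
        ← Subgroup.coe_mul, hai] :
      π.rangeRestrict (A⁻¹) = π.rangeRestrict (X * A * X⁻¹))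
    have hA2 : Commute X (A * A) := by
      rcases D.lift_eq hXX with h | h <;> rw [h]
      · exact (Commute.refl X).mul_right (Commute.refl X)
      · exact ((Commute.refl X).mul_right (Commute.refl X)).mul_right (D.central X)
    have h4 : A * A = A⁻¹ * A⁻¹ := by
      rw [← D.sq_eq hconjA, show X * A * X⁻¹ * (X * A * X⁻¹) = X * (A * A) * X⁻¹ by group, hA2.eq, mul_inv_cancel_right]
    refine D.ne ?_
    rw [← hG, ← D.sq_eq hzero]
    nth_rewrite 1 [h4]
    group
  have hbb : b * b = 1 := hinv b hb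
  have hba : b * a * (b * a) = 1 := hinv (b * a) fun h =>
    hb (by simpa using mul_mem h (inv_mem (Subgroup.mem_zpowers a)))
  refine ⟨S, 2 ^ (n - 1), ?_, DihedralShape.equiv_dihedral (c := a) (t := b) ha ?_ hbb hb ?_⟩
  · calc 2 = 2 ^ 1 := (pow_one 2).symm
      _ ≤ 2 ^ (n - 1) := Nat.pow_le_pow_right (by norm_num) (by omega)
  · rw [hn, ← pow_succ', show n - 1 + 1 = n by omega]
  · rw [inv_eq_of_mul_eq_one_right hbb, eq_inv_iff_mul_eq_one, mul_assoc, hba]

end Cover

end CfsgLib.MaxSub.HeisSeven
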