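/-
The kernels of the two blocks of the centraliser of the central involution.
-/
import Cfsg.Agent.Lib.MaxSub.HeisSeven.Balance
import Cfsg.Agent.Lib.MaxSub.HeisSeven.Extraspecial

set_option autoImplicit false
set_option linter.unusedSectionVars false
set_option linter.style.haveILetI false
set_option maxHeartbeats 1600000

namespace CfsgLib.MaxSub.HeisSeven

open Matrix

variable {F : Type*} [Field F]

local notation "M7" => Matrix (Fin 7) (Fin 7) F
local notation "G7" => GL (Fin 7) F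

/-- The centraliser of `W` and the involution is monomial on the coordinate planes. -/
def Mono (ω : F) (H : Subgroup (GL (Fin 7) F)) : Prop :=
  ∀ g ∈ H, Wm ω * (g : Matrix (Fin 7) (Fin 7) F) = (g : Matrix (Fin 7) (Fin 7) F) * Wm ω →
    (Jm : Matrix (Fin 7) (Fin 7) F) * (g : Matrix (Fin 7) (Fin 7) F) = (g : Matrix (Fin 7) (Fin 7) F) * Jm →
    ∀ k, blk k (g : Matrix (Fin 7) (Fin 7) F) 0 0 * blk k (g : Matrix (Fin 7) (Fin 7) F) 0 1 = 0

theorem wa_inj : ∀ r c : Fin 4, wa r % 7 = wa c % 7 → r = c := by decide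

theorem wb_inj : ∀ r c : Fin 3, wb r % 7 = wb c % 7 → r = c := by decide

theorem diag_of_weights {ι : Type*} [Fintype ι] [DecidableEq ι] {ω : F} (h : Root ω) (wt : ι → ℕ)
    (hwt : ∀ r c, wt r % 7 = wt c % 7 → r = c) {X : Matrix ι ι F}
    (e : (diagonal fun r => ω ^ wt r) * X = X * diagonal fun r => ω ^ wt r) : X = diagonal fun r => X r r := by
  ext r c
  by_cases hrc : r = c
  · subst hrc; simp
  · rw [diagonal_apply_ne _ hrc]
    have e' := congrFun (congrFun e r) c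
    rw [diagonal_mul, mul_diagonal, mul_comm] at e'
    by_contra hne
    exact hrc (hwt r c (h.pow_inj (mul_left_cancel₀ hne e')))

theorem det_sgnMat {ι : Type*} [Fintype ι] [DecidableEq ι] (S : Finset ι) :
    (sgnMat F S).det = (-1) ^ Sᶜ.card := by
  rw [sgnMat, det_diagonal, ← Finset.prod_mul_prod_compl S, Finset.prod_eq_one (fun i hi => if_pos hi), one_mul,
    Finset.prod_congr rfl (fun i hi => if_neg (Finset.mem_compl.1 hi)), Finset.prod_const]

theorem even_of_sign (h2 : (2 : F) ≠ 0) {n : ℕ} (e : (-1 : F) ^ n = 1) : Even n := by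
  rcases Nat.even_or_odd n with h | h
  · exact h
  · rw [h.neg_one_pow] at e
    exact absurd (by linear_combination -e) h2

theorem sgn_of_diag {ι : Type*} [Fintype ι] [DecidableEq ι] {X : Matrix ι ι F} (hd : X = diagonal fun r => X r r)
    (hs : ∀ r, X r r = 1 ∨ X r r = -1) : ∃ S : Finset ι, X = sgnMat F S := by
  classical
  refine ⟨Finset.univ.filter fun r => X r r = 1, ?_⟩
  conv_lhs => rw [hd]
  rw [sgnMat]
  congr 1
  funext r
  by_cases e : X r r = 1
  · simp [e]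
  · simp [e, (hs r).resolve_left e]

theorem sgnMat_sq {ι : Type*} [Fintype ι] [DecidableEq ι] (S : Finset ι) : sgnMat F S * sgnMat F S = 1 := by
  rw [sgnMat, diagonal_mul_diagonal, ← diagonal_one]
  congr 1
  funext i
  split_ifs <;> simp

theorem conj_inv_mem {G : Type*} [Group G] [Finite G] {A : Subgroup G} {n : G} (hn : ∀ x ∈ A, n * x * n⁻¹ ∈ A) :
    ∀ x ∈ A, n⁻¹ * x * n ∈ A := by
  intro x hx
  obtain ⟨⟨y, hy⟩, e⟩ := Finite.surjective_of_injective
    (f := fun a : ↥A => (⟨n * a.1 * n⁻¹, hn a.1 a.2⟩ : ↥A))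
    (fun a b e => Subtype.ext (by simpa using congrArg Subtype.val e)) ⟨x, hx⟩
  have e' : n * y * n⁻¹ = x := congrArg Subtype.val e
  rw [← e', show n⁻¹ * (n * y * n⁻¹) * n = y by group]
  exact hy

variable {ω : F} {H : Subgroup (GL (Fin 7) F)} (O : Over ω H) (h2 : (2 : F) ≠ 0)
include O

/-- The diagonal entries on the two blocks agree up to sign. -/
theorem entries_of_commute (hm : Mono ω H) {g : ↥(cenJ H)} (hg : Commute O.cW g) :
    ((pA h2 H g : GL (Fin 4) F) : Matrix (Fin 4) (Fin 4) F) =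
        diagonal (fun r => ((pA h2 H g : GL (Fin 4) F) : Matrix (Fin 4) (Fin 4) F) r r) ∧
      ((pB h2 H g : GL (Fin 3) F) : Matrix (Fin 3) (Fin 3) F) =
        diagonal (fun r => ((pB h2 H g : GL (Fin 3) F) : Matrix (Fin 3) (Fin 3) F) r r) ∧
      ∀ k : Fin 3, ((pB h2 H g : GL (Fin 3) F) : Matrix (Fin 3) (Fin 3) F) k k =
          ((pA h2 H g : GL (Fin 4) F) : Matrix (Fin 4) (Fin 4) F) k.succ k.succ ∨
        ((pB h2 H g : GL (Fin 3) F) : Matrix (Fin 3) (Fin 3) F) k k =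
          -((pA h2 H g : GL (Fin 4) F) : Matrix (Fin 4) (Fin 4) F) k.succ k.succ := by
  have h := O.root
  refine ⟨diag_of_weights h wa wa_inj ?_, diag_of_weights h wb wb_inj ?_, fun k => ?_⟩
  · rw [← O.pA_W h2, ← Units.val_mul, ← Units.val_mul, ← map_mul, ← map_mul, hg.eq]
  · rw [← O.pB_W h2, ← Units.val_mul, ← Units.val_mul, ← map_mul, ← map_mul, hg.eq]
  · have eW : Wm ω * ((g : G7) : M7) = ((g : G7) : M7) * Wm ω := by
      rw [← O.cW_val, ← Units.val_mul, ← Units.val_mul, ← Subgroup.coe_mul, ← Subgroup.coe_mul, hg.eq]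
    have := hm _ (mem_cenJ.1 g.2).1 eW (cenJ_comm g) k
    rw [pA_val, pB_val, ba_diag_entry h2 (cenJ_comm g), bb_diag_entry h2 (cenJ_comm g)]
    rcases mul_eq_zero.1 this with e | e <;> rw [e]
    · exact Or.inr (by ring)
    · exact Or.inl (by ring)

theorem ker_pB_sign (hm : Mono ω H) {g : ↥(cenJ H)} (hg : Commute O.cW g) (hB : pB h2 H g = 1) :
    ∃ S : Finset (Fin 4), ((pA h2 H g : GL (Fin 4) F) : Matrix (Fin 4) (Fin 4) F) = sgnMat F S ∧ Even Sᶜ.card := by
  obtain ⟨dA, -, hk⟩ := entries_of_commute O h2 hm hg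
  set X := ((pA h2 H g : GL (Fin 4) F) : Matrix (Fin 4) (Fin 4) F)
  have hs : ∀ k : Fin 3, X k.succ k.succ = 1 ∨ X k.succ k.succ = -1 := fun k => by
    have := hk k
    rw [hB, Units.val_one, one_apply_eq] at this
    rcases this with e | e
    · exact Or.inl e.symm
    · exact Or.inr (by linear_combination e)
  have hd := O.det_pA_pB h2 g
  rw [hB, Units.val_one, det_one, mul_one] at hd
  have hall : ∀ r, X r r = 1 ∨ X r r = -1 := by
    refine Fin.cases ?_ hs
    change X.det = 1 at hd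
    rw [dA, det_diagonal, Fin.prod_univ_four] at hd
    rcases hs 0 with a | a <;> rcases hs 1 with b | b <;> rcases hs 2 with c | c <;>
      simp only [Fin.succ_zero_eq_one, Fin.succ_one_eq_two, show (2 : Fin 3).succ = (3 : Fin 4) from rfl] at a b c <;>
      rw [a, b, c] at hd <;>
      first | exact Or.inl (by linear_combination hd) | exact Or.inr (by linear_combination -hd)
  obtain ⟨S, hS⟩ := sgn_of_diag dA hall
  change X.det = 1 at hd
  rw [hS, det_sgnMat] at hd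
  exact ⟨S, hS, even_of_sign h2 hd⟩

theorem ker_pA_sign (hm : Mono ω H) {g : ↥(cenJ H)} (hg : Commute O.cW g) (hA : pA h2 H g = 1) :
    ∃ S : Finset (Fin 3), ((pB h2 H g : GL (Fin 3) F) : Matrix (Fin 3) (Fin 3) F) = sgnMat F S ∧ Even Sᶜ.card := by
  obtain ⟨-, dB, hk⟩ := entries_of_commute O h2 hm hg
  set X := ((pB h2 H g : GL (Fin 3) F) : Matrix (Fin 3) (Fin 3) F)
  have hall : ∀ k : Fin 3, X k k = 1 ∨ X k k = -1 := fun k => by
    have := hk k
    rwa [hA, Units.val_one, one_apply_eq] at this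
  have hd := O.det_pA_pB h2 g
  rw [hA, Units.val_one, det_one, one_mul] at hd
  obtain ⟨S, hS⟩ := sgn_of_diag dB hall
  change X.det = 1 at hd
  rw [hS, det_sgnMat] at hd
  exact ⟨S, hS, even_of_sign h2 hd⟩

theorem pA_scalar (z : ↥(cenJ H)) (c : F) (e : ((z : G7) : M7) = c • 1) :
    ((pA h2 H z : GL (Fin 4) F) : Matrix (Fin 4) (Fin 4) F) = c • 1 := by
  rw [pA_val, e, ba, Matrix.mul_smul, Matrix.mul_one, Matrix.smul_mul, La_Ea h2]

theorem pB_scalar (z : ↥(cenJ H)) (c : F) (e : ((z : G7) : M7) = c • 1) :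
    ((pB h2 H z : GL (Fin 3) F) : Matrix (Fin 3) (Fin 3) F) = c • 1 := by
  rw [pB_val, e, bb, Matrix.mul_smul, Matrix.mul_one, Matrix.smul_mul, Lb_Eb h2]

theorem ker_pB_sq (hm : Mono ω H) : ∀ e ∈ (pB h2 H).ker, Commute O.cW e → e * e = 1 := by
  intro e he hc
  obtain ⟨S, hS, -⟩ := ker_pB_sign O h2 hm hc (MonoidHom.mem_ker.1 he)
  refine eq_one_of_blocks h2 (Units.ext ?_) (by rw [map_mul, MonoidHom.mem_ker.1 he, one_mul])
  rw [map_mul, Units.val_mul, hS, sgnMat_sq, Units.val_one]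

theorem ker_pA_sq (hm : Mono ω H) : ∀ e ∈ (pA h2 H).ker, Commute O.cW e → e * e = 1 := by
  intro e he hc
  obtain ⟨S, hS, -⟩ := ker_pA_sign O h2 hm hc (MonoidHom.mem_ker.1 he)
  refine eq_one_of_blocks h2 (by rw [map_mul, MonoidHom.mem_ker.1 he, one_mul]) (Units.ext ?_)
  rw [map_mul, Units.val_mul, hS, sgnMat_sq, Units.val_one]

section Generic

variable [Finite F] {G' : Type*} [Group G']

variable (ρ : ↥(cenJ H) →* G')

/-- A lift of the Fourier element commuting with an invariant subgroup fixed by `W`. -/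
theorem exists_commuting_lift {A : Subgroup ↥(cenJ H)} (hW : ∀ a ∈ A, Commute O.cW a) {n0 : ↥(cenJ H)}
    (hn0 : ρ n0 = ρ O.cF) (hA : ∀ a ∈ A, n0 * a * n0⁻¹ ∈ A) :
    ∃ n, ρ n = ρ O.cF ∧ ∀ a ∈ A, Commute n a := by
  obtain ⟨z, c, hzv, -, hrel⟩ := O.exists_z
  have hzc : ∀ g, Commute z g := fun g => Subtype.ext (Units.ext (by
    simp only [Subgroup.coe_mul, Units.val_mul, hzv, Matrix.smul_mul, Matrix.mul_smul, Matrix.one_mul, Matrix.mul_one]))
  refine ⟨O.cW ^ 4 * (n0 * O.cW ^ 4 * n0⁻¹) * O.cW ^ 4 * z⁻¹, ?_, fun a ha => ?_⟩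
  · have e : O.cW ^ 4 * (O.cF * O.cW ^ 4 * O.cF⁻¹) * O.cW ^ 4 * z⁻¹ = O.cF := by
      rw [mul_inv_eq_iff_eq_mul]
      have hFi : O.cF⁻¹ = O.Jc * O.cF := inv_eq_of_mul_eq_one_right (by
        rw [(O.Jc_central O.cF).eq, ← mul_assoc, O.cF_sq, O.Jc_sq])
      have hx : O.cW ^ 4 * O.cF * O.cW ^ 4 * O.cF * O.cW ^ 4 = O.cF⁻¹ * z := by
        rw [eq_inv_mul_iff_mul_eq, ← hrel, pow_succ _ 2, pow_two (O.cF * O.cW ^ 4)]
        simp only [mul_assoc]
      calc O.cW ^ 4 * (O.cF * O.cW ^ 4 * O.cF⁻¹) * O.cW ^ 4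
          = O.cW ^ 4 * O.cF * O.cW ^ 4 * (O.Jc * O.cF) * O.cW ^ 4 := by rw [hFi]; simp only [mul_assoc]
        _ = O.Jc * (O.cW ^ 4 * O.cF * O.cW ^ 4 * O.cF * O.cW ^ 4) := by
            rw [← mul_assoc _ O.Jc O.cF, ← (O.Jc_central (O.cW ^ 4 * O.cF * O.cW ^ 4)).eq]
            simp only [mul_assoc]
        _ = O.Jc * (O.Jc * O.cF * z) := by rw [hx, hFi]
        _ = O.cF * z := by rw [← mul_assoc, ← mul_assoc, O.Jc_sq, one_mul]
    conv_rhs => rw [← e]
    simp only [map_mul, map_inv, hn0]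
  · have hc4 : Commute (O.cW ^ 4) a := (hW a ha).pow_left 4
    have hcj : Commute (n0 * O.cW ^ 4 * n0⁻¹) a := by
      have h' : Commute (O.cW ^ 4) (n0⁻¹ * a * n0) := (hW _ (conj_inv_mem hA a ha)).pow_left 4
      calc n0 * O.cW ^ 4 * n0⁻¹ * a = n0 * (O.cW ^ 4 * (n0⁻¹ * a * n0)) * n0⁻¹ := by group
        _ = n0 * (n0⁻¹ * a * n0 * O.cW ^ 4) * n0⁻¹ := by rw [h'.eq]
        _ = a * (n0 * O.cW ^ 4 * n0⁻¹) := by group
    exact ((hc4.mul_left hcj).mul_left hc4).mul_left (hzc a).inv_left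

variable [Fintype F] {p : ℕ} [Fact p.Prime] [CharP F p]

theorem commute_of_coprime {A : Subgroup ↥(cenJ H)} (hab : ∀ a ∈ A, ∀ b ∈ A, a * b = b * a)
    (hp : ¬ p ∣ Nat.card ↥A) (hn : ∀ a ∈ A, O.cW * a * O.cW⁻¹ ∈ A) : ∀ a ∈ A, Commute O.cW a := by
  intro a ha
  set A' := A.map (cenJ H).subtype
  have := centralised (p := p) O.root A'
    (by rintro _ ⟨s, hs, rfl⟩ _ ⟨t, ht, rfl⟩; rw [← map_mul, ← map_mul, hab s hs t ht])
    (by rwa [Subgroup.card_map_of_injective (cenJ H).subtype_injective]) O.cW_val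
    (by rintro _ ⟨s, hs, rfl⟩; exact ⟨_, hn s hs, rfl⟩) (s := (a : G7)) ⟨a, ha, rfl⟩
  exact Subtype.ext this

variable (hsq : ∀ e ∈ ρ.ker, Commute O.cW e → e * e = 1)
include hsq

/-- The kernel has order prime to seven. -/
theorem seven_not_dvd : ¬ 7 ∣ Nat.card ↥ρ.ker := by
  haveI : Fact (Nat.Prime 7) := ⟨Nat.prime_seven⟩
  intro hd
  obtain ⟨P, hP⟩ := exists_normalised_sylow ρ.ker O.cW O.cW_pow 7 (Or.inl rfl)
  set A := (P : Subgroup ↥ρ.ker).map ρ.ker.subtype
  have hA : IsPGroup 7 ↥A := P.2.map _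
  obtain ⟨k, hk⟩ := hA.exists_card_eq
  have h7 : 7 ∣ Nat.card ↥A := by
    have hne := P.ne_bot_of_dvd_card hd
    rcases Nat.eq_zero_or_pos k with rfl | hk0
    · rw [pow_zero, Subgroup.card_eq_one, Subgroup.map_eq_bot_iff_of_injective _ ρ.ker.subtype_injective] at hk
      exact absurd hk hne
    · rw [hk]; exact dvd_pow_self 7 hk0.ne'
  obtain ⟨a, ha, ha1, hc⟩ := exists_fixed A h7 O.cW O.cW_pow hP
  have hsq' := hsq a (Subgroup.map_subtype_le _ ha) hc
  obtain ⟨m, hm⟩ := hA ⟨a, ha⟩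
  have hm' : a ^ 7 ^ m = 1 := congrArg Subtype.val hm
  refine ha1 ?_
  have hcop : Nat.Coprime (7 ^ m) 2 := ((Nat.coprime_primes Nat.prime_seven Nat.prime_two).2 (by norm_num)).pow_left m
  have := (pow_gcd_eq_one (a := a)).2 ⟨hm', (pow_two a).trans hsq'⟩
  rwa [Nat.Coprime.gcd_eq_one hcop, pow_one] at this

/-- Odd primes other than the characteristic do not divide the order of the kernel. -/
theorem odd_not_dvd {r : ℕ} [Fact r.Prime] (hr2 : r ≠ 2) (hrp : r ≠ p) : ¬ r ∣ Nat.card ↥ρ.ker := by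
  intro hd
  have hr := (Fact.out : r.Prime)
  obtain ⟨P, hP⟩ := exists_normalised_sylow ρ.ker O.cW O.cW_pow r (Or.inr (seven_not_dvd O ρ hsq))
  set A := (P : Subgroup ↥ρ.ker).map ρ.ker.subtype with hAdef
  have hA : IsPGroup r ↥A := P.2.map _
  haveI : Nontrivial ↥A := by
    rw [Subgroup.nontrivial_iff_ne_bot, Ne, hAdef, Subgroup.map_eq_bot_iff_of_injective _ ρ.ker.subtype_injective]
    exact P.ne_bot_of_dvd_card hd
  haveI := hA.center_nontrivial
  obtain ⟨a, ha1⟩ := exists_ne (1 : Subgroup.center ↥A)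
  set Z := (Subgroup.center ↥A).map A.subtype
  have hZ : IsPGroup r ↥Z := (hA.to_subgroup _).map _
  have hZp : ¬ p ∣ Nat.card ↥Z := by
    obtain ⟨k, hk⟩ := hZ.exists_card_eq
    rw [hk]
    intro hpd
    exact hrp ((Nat.prime_dvd_prime_iff_eq Fact.out hr).1 ((Fact.out : p.Prime).dvd_of_dvd_pow hpd)).symm
  have hc := commute_of_coprime O (p := p) (A := Z)
    (by rintro _ ⟨s, hs, rfl⟩ _ ⟨t, _, rfl⟩; rw [← map_mul, ← map_mul, (Subgroup.mem_center_iff.1 hs t).symm])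
    hZp (by
      rintro _ ⟨s, hs, rfl⟩
      refine ⟨⟨_, hP _ s.2⟩, Subgroup.mem_center_iff.2 fun t => Subtype.ext ?_, rfl⟩
      have := congrArg Subtype.val (Subgroup.mem_center_iff.1 hs ⟨_, conj_inv_mem hP _ t.2⟩)
      simp only [Subgroup.coe_mul] at this ⊢
      calc (t : ↥(cenJ H)) * (O.cW * (s : ↥(cenJ H)) * O.cW⁻¹)
          = O.cW * (O.cW⁻¹ * (t : ↥(cenJ H)) * O.cW * (s : ↥(cenJ H))) * O.cW⁻¹ := by group
        _ = O.cW * ((s : ↥(cenJ H)) * (O.cW⁻¹ * (t : ↥(cenJ H)) * O.cW)) * O.cW⁻¹ := by rw [this]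
        _ = O.cW * (s : ↥(cenJ H)) * O.cW⁻¹ * t := by group)
    _ ⟨(a : ↥A), a.2, rfl⟩
  have hsq' := hsq _ (Subgroup.map_subtype_le _ (a : ↥A).2) hc
  obtain ⟨m, hm⟩ := hA (a : ↥A)
  have hm' : ((a : ↥A) : ↥(cenJ H)) ^ r ^ m = 1 := congrArg Subtype.val hm
  refine ha1 (Subtype.ext (Subtype.ext ?_))
  have hcop : Nat.Coprime (r ^ m) 2 := ((Nat.coprime_primes hr Nat.prime_two).2 hr2).pow_left m
  have := (pow_gcd_eq_one (a := ((a : ↥A) : ↥(cenJ H)))).2 ⟨hm', (pow_two _).trans hsq'⟩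
  rwa [Nat.Coprime.gcd_eq_one hcop, pow_one] at this

end Generic

section Final

variable [Fintype F] {p : ℕ} [Fact p.Prime] [CharP F p] (hm : Mono ω H)
include hm

/-- A normalised `p`-group acts trivially on a block. -/
theorem fixed_trivial {ι : Type*} [Fintype ι] [DecidableEq ι] [Nonempty ι] (π : ↥(cenJ H) →* GL ι F) (wt : ι → ℕ)
    (hwt : ∀ r c, wt r % 7 = wt c % 7 → r = c) (hW : ((π O.cW : GL ι F) : Matrix ι ι F) = diagonal fun r => ω ^ wt r)
    (hF : ∀ r c, ((π O.cF : GL ι F) : Matrix ι ι F) r c ≠ 0) (Q : Subgroup ↥(cenJ H)) (hQ : IsPGroup p ↥Q)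
    (hn : ∀ g, ∀ x ∈ Q, g * x * g⁻¹ ∈ Q) : ∀ x ∈ Q, π x = 1 := by
  classical
  have h := O.root
  let U : Submodule F (ι → F) :=
    { carrier := {v | ∀ x ∈ Q, ((π x : GL ι F) : Matrix ι ι F) *ᵥ v = v}
      add_mem' := fun {u v} hu hv x hx => by rw [mulVec_add, hu x hx, hv x hx]
      zero_mem' := fun x hx => mulVec_zero _
      smul_mem' := fun c v hv x hx => by rw [mulVec_smul, hv x hx] }
  have hinv : ∀ (g : ↥(cenJ H)) (v : ι → F), v ∈ U → ((π g : GL ι F) : Matrix ι ι F) *ᵥ v ∈ U := by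
    intro g v hv x hx
    have hx' := conj_inv_mem (hn g) x hx
    rw [mulVec_mulVec, ← Units.val_mul, ← map_mul, show x * g = g * (g⁻¹ * x * g) by group, map_mul, Units.val_mul,
      ← mulVec_mulVec, hv _ hx']
  have hcomp : ∀ (v : ι → F) (c : ι), v ∈ U → Pi.single c (v c) ∈ U := by
    intro v c hv
    have hk : ∀ k : ℕ, (fun r => ω ^ (wt r * k) * v r) ∈ U := by
      intro k
      induction k with
      | zero => simpa using hv
      | succ k ih =>
        have := hinv O.cW _ ih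
        rw [hW] at this
        convert this using 1
        funext r
        rw [mulVec_diagonal, ← mul_assoc, ← pow_add, Nat.mul_succ, add_comm]
    have hsum : ∑ k : Fin 7, ω ^ (6 * wt c * (k : ℕ)) • (fun r => ω ^ (wt r * (k : ℕ)) * v r) ∈ U :=
      U.sum_mem fun k _ => U.smul_mem _ (hk k)
    have e : ∑ k : Fin 7, ω ^ (6 * wt c * (k : ℕ)) • (fun r => ω ^ (wt r * (k : ℕ)) * v r) =
        (7 : F) • Pi.single c (v c) := by
      funext r
      simp only [Finset.sum_apply, Pi.smul_apply, smul_eq_mul, ← mul_assoc, ← pow_add, ← Finset.sum_mul, ← add_mul,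
        h.sum_pow]
      by_cases hr : r = c
      · subst hr
        rw [if_pos ⟨wt r, by ring⟩, Pi.single_eq_same]
      · rw [if_neg (fun hd => hr (hwt r c (by omega))), zero_mul, Pi.single_eq_of_ne hr, mul_zero]
    rw [e] at hsum
    have := U.smul_mem (7 : F)⁻¹ hsum
    rwa [smul_smul, inv_mul_cancel₀ h.seven_ne, one_smul] at this
  letI : MulAction ↥Q (ι → F) :=
    { smul := fun x v => ((π (x : ↥(cenJ H)) : GL ι F) : Matrix ι ι F) *ᵥ v
      one_smul := fun v => by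
        show ((π ((1 : ↥Q) : ↥(cenJ H)) : GL ι F) : Matrix ι ι F) *ᵥ v = v
        rw [OneMemClass.coe_one, map_one, Units.val_one, one_mulVec]
      mul_smul := fun x y v => by
        show ((π ((x * y : ↥Q) : ↥(cenJ H)) : GL ι F) : Matrix ι ι F) *ᵥ v =
          ((π (x : ↥(cenJ H)) : GL ι F) : Matrix ι ι F) *ᵥ (((π (y : ↥(cenJ H)) : GL ι F) : Matrix ι ι F) *ᵥ v)
        rw [mulVec_mulVec, ← Units.val_mul, ← map_mul, Subgroup.coe_mul] }
  obtain ⟨v, hv, hv0⟩ := hQ.exists_fixed_point_of_prime_dvd_card_of_fixed_point (ι → F) (by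
    rw [Nat.card_eq_fintype_card, Fintype.card_fun]
    obtain ⟨n, -, hq⟩ := FiniteField.card F p
    rw [hq, ← pow_mul]
    exact dvd_pow_self p (Nat.mul_ne_zero n.ne_zero Fintype.card_ne_zero)) (a := (0 : ι → F))
    (fun x => mulVec_zero _)
  have hvU : v ∈ U := fun x hx => hv ⟨x, hx⟩
  obtain ⟨c, hc⟩ := Function.ne_iff.1 hv0.symm
  have hcU : Pi.single c (1 : F) ∈ U := by
    have := U.smul_mem (v c)⁻¹ (hcomp v c hvU)
    rwa [← Pi.single_smul, smul_eq_mul, inv_mul_cancel₀ hc] at this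
  have hall : ∀ r, Pi.single r (1 : F) ∈ U := by
    intro r
    have h1 := hcomp _ r (hinv O.cF _ hcU)
    rw [mulVec_single_one] at h1
    have := U.smul_mem (((π O.cF : GL ι F) : Matrix ι ι F) r c)⁻¹ h1
    rwa [← Pi.single_smul, smul_eq_mul, Matrix.col_apply, inv_mul_cancel₀ (hF r c)] at this
  intro x hx
  refine Units.ext (Matrix.ext_of_mulVec_single fun r => ?_)
  rw [hall r x hx, Units.val_one, one_mulVec]

/-- The kernel on the fixed space is trivial. -/
theorem ker_pA_trivial {g : ↥(cenJ H)} (hg : pA h2 H g = 1) : g = 1 := by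
  obtain ⟨p, hchar⟩ := CharP.exists F
  haveI : Fact p.Prime := ⟨CharP.char_is_prime F p⟩
  classical
  set K := (pA h2 H).ker
  have hsq := ker_pA_sq O h2 hm
  have h7 := seven_not_dvd O _ hsq
  -- no involutions
  have h2K : ¬ 2 ∣ Nat.card ↥K ∨ p = 2 := by
    left
    intro hd
    haveI : Fact (Nat.Prime 2) := ⟨Nat.prime_two⟩
    obtain ⟨P, hP⟩ := exists_normalised_sylow K O.cW O.cW_pow 2 (Or.inr h7)
    obtain ⟨n0, hn0, hn0P⟩ := exists_normaliser_lift (pA h2 H) P O.cF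
    set A := (P : Subgroup ↥K).map K.subtype with hAdef
    have hA : IsPGroup 2 ↥A := P.2.map _
    haveI : Nontrivial ↥A := by
      rw [Subgroup.nontrivial_iff_ne_bot, Ne, hAdef, Subgroup.map_eq_bot_iff_of_injective _ K.subtype_injective]
      exact P.ne_bot_of_dvd_card hd
    haveI := hA.center_nontrivial
    obtain ⟨a, ha1⟩ := exists_ne (1 : Subgroup.center ↥A)
    set Z := (Subgroup.center ↥A).map A.subtype
    have hZn : ∀ g, (∀ x ∈ A, g * x * g⁻¹ ∈ A) → ∀ z ∈ Z, g * z * g⁻¹ ∈ Z := by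
      rintro g hg _ ⟨s, hs, rfl⟩
      refine ⟨⟨_, hg _ s.2⟩, Subgroup.mem_center_iff.2 fun t => Subtype.ext ?_, rfl⟩
      have := congrArg Subtype.val (Subgroup.mem_center_iff.1 hs ⟨_, conj_inv_mem hg _ t.2⟩)
      simp only [Subgroup.coe_mul] at this ⊢
      calc (t : ↥(cenJ H)) * (g * (s : ↥(cenJ H)) * g⁻¹)
          = g * (g⁻¹ * (t : ↥(cenJ H)) * g * (s : ↥(cenJ H))) * g⁻¹ := by group
        _ = g * ((s : ↥(cenJ H)) * (g⁻¹ * (t : ↥(cenJ H)) * g)) * g⁻¹ := by rw [this]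
        _ = g * (s : ↥(cenJ H)) * g⁻¹ * t := by group
    have hZp : ¬ p ∣ Nat.card ↥Z := by
      have hZ : IsPGroup 2 ↥Z := (hA.to_subgroup _).map _
      obtain ⟨k, hk⟩ := hZ.exists_card_eq
      rw [hk]
      intro hpd
      have := (Nat.prime_dvd_prime_iff_eq Fact.out Nat.prime_two).1 ((Fact.out : p.Prime).dvd_of_dvd_pow hpd)
      subst this
      exact h2 (CharP.cast_eq_zero F 2)
    have hc := commute_of_coprime O (p := p) (A := Z)
      (by rintro _ ⟨s, hs, rfl⟩ _ ⟨t, _, rfl⟩; rw [← map_mul, ← map_mul, (Subgroup.mem_center_iff.1 hs t).symm])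
      hZp (hZn _ hP)
    obtain ⟨n, hn, hnc⟩ := exists_commuting_lift O (pA h2 H) hc hn0 (hZn _ hn0P)
    set b : ↥(cenJ H) := ((a : ↥A) : ↥(cenJ H))
    have hbZ : b ∈ Z := ⟨(a : ↥A), a.2, rfl⟩
    have hbK : pA h2 H b = 1 := MonoidHom.mem_ker.1 (Subgroup.map_subtype_le _ (a : ↥A).2)
    obtain ⟨S, hS, hev⟩ := ker_pA_sign O h2 hm (hc b hbZ) hbK
    have hbal := balance O (pB h2 H) (pA h2 H) wb h2 (O.pB_W h2) (pB_scalar O h2) h7 hS (hc b hbZ) hn (hnc b hbZ)
    have hdec : ∀ S : Finset (Fin 3), Even Sᶜ.card →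
        ((∑ i ∈ S, wb i) * Sᶜ.card) % 7 = ((∑ i ∈ Sᶜ, wb i) * S.card) % 7 → S = Finset.univ := by decide
    rw [hdec S hev hbal] at hS
    refine ha1 (Subtype.ext (Subtype.ext (eq_one_of_blocks h2 hbK (Units.ext ?_))))
    rw [hS, Units.val_one, sgnMat, ← diagonal_one]
    simp
  -- a normal `p`-group
  have hK : IsPGroup p ↥K := by
    refine IsPGroup.iff_card.2 ⟨(Nat.card ↥K).primeFactorsList.length,
      Nat.eq_prime_pow_of_unique_prime_dvd Nat.card_pos.ne' fun {r} hr hd => ?_⟩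
    haveI : Fact r.Prime := ⟨hr⟩
    by_contra hrp
    by_cases hr2 : r = 2
    · subst hr2
      rcases h2K with e | e
      · exact e hd
      · exact hrp e.symm
    · exact odd_not_dvd O _ hsq hr2 hrp hd
  refine eq_one_of_blocks h2 hg (fixed_trivial O hm (pB h2 H) wb wb_inj (O.pB_W h2) (fun r c => ?_) K hK
    (fun g x hx => Subgroup.Normal.conj_mem inferInstance x hx g) g (MonoidHom.mem_ker.2 hg))
  rw [pB_val, O.cF_val]
  exact bb_Fm_ne O.root h2 r c

/-- The kernel on the negated space consists of the involution. -/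
theorem ker_pB_eq {g : ↥(cenJ H)} (hg : pB h2 H g = 1) : g = 1 ∨ g = O.Jc := by
  obtain ⟨p, hchar⟩ := CharP.exists F
  haveI : Fact p.Prime := ⟨CharP.char_is_prime F p⟩
  classical
  set K := (pB h2 H).ker
  haveI hKn : K.Normal := MonoidHom.normal_ker _
  have hsq := ker_pB_sq O h2 hm
  have h7 := seven_not_dvd O _ hsq
  have hJK : O.Jc ∈ K := MonoidHom.mem_ker.2 (O.pB_Jc h2)
  have hJ1 : O.Jc ≠ 1 := fun e => by
    have := O.pA_Jc h2
    rw [e, map_one, Units.val_one] at this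
    have := congrFun (congrFun this 0) 0
    simp at this
    exact h2 (by linear_combination this)
  haveI : Fact (Nat.Prime 2) := ⟨Nat.prime_two⟩
  obtain ⟨P, hP⟩ := exists_normalised_sylow K O.cW O.cW_pow 2 (Or.inr h7)
  obtain ⟨n0, hn0, hn0P⟩ := exists_normaliser_lift (pB h2 H) P O.cF
  set A := (P : Subgroup ↥K).map K.subtype with hAdef
  have hA : IsPGroup 2 ↥A := P.2.map _
  have hAK : A ≤ K := Subgroup.map_subtype_le _
  have hpA : ∀ B : Subgroup ↥(cenJ H), B ≤ A → ¬ p ∣ Nat.card ↥B := by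
    intro B hB hpd
    obtain ⟨k, hk⟩ := (hA.to_le hB).exists_card_eq
    rw [hk] at hpd
    have := (Nat.prime_dvd_prime_iff_eq Fact.out Nat.prime_two).1 ((Fact.out : p.Prime).dvd_of_dvd_pow hpd)
    subst this
    exact h2 (CharP.cast_eq_zero F 2)
  -- characteristic abelian subgroups
  have hscal : ∀ B : Subgroup ↥(cenJ H), B ≤ A → (∀ a ∈ B, ∀ b ∈ B, a * b = b * a) →
      (∀ a ∈ B, O.cW * a * O.cW⁻¹ ∈ B) → (∀ a ∈ B, n0 * a * n0⁻¹ ∈ B) → ∀ b ∈ B, b = 1 ∨ b = O.Jc := by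
    intro B hB hab hBW hBn b hb
    have hc := commute_of_coprime O (p := p) hab (hpA B hB) hBW
    obtain ⟨n, hn, hnc⟩ := exists_commuting_lift O (pB h2 H) hc hn0 hBn
    have hbK := MonoidHom.mem_ker.1 (hAK (hB hb))
    obtain ⟨S, hS, hev⟩ := ker_pB_sign O h2 hm (hc b hb) hbK
    have hbal := balance O (pA h2 H) (pB h2 H) wa h2 (O.pA_W h2) (pA_scalar O h2) h7 hS (hc b hb) hn (hnc b hb)
    have hdec : ∀ S : Finset (Fin 4), Even Sᶜ.card →
        ((∑ i ∈ S, wa i) * Sᶜ.card) % 7 = ((∑ i ∈ Sᶜ, wa i) * S.card) % 7 → S = Finset.univ ∨ S = ∅ := by decide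
    rcases hdec S hev hbal with e | e <;> rw [e] at hS
    · refine Or.inl (eq_one_of_blocks h2 (Units.ext ?_) hbK)
      rw [hS, Units.val_one, sgnMat, ← diagonal_one]
      simp
    · refine Or.inr (blocks_inj h2 (Units.ext ?_) (by rw [hbK, O.pB_Jc h2]))
      rw [hS, O.pA_Jc h2, sgnMat, ← diagonal_one, diagonal_neg]
      simp
  -- the involution lies in the Sylow subgroup
  have hJA : O.Jc ∈ A := by
    have hJ2 : IsPGroup 2 (Subgroup.zpowers (⟨O.Jc, hJK⟩ : ↥K)) := IsPGroup.of_card (n := 1) (by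
      rw [Nat.card_zpowers, pow_one]
      exact orderOf_eq_prime (Subtype.ext (by rw [SubmonoidClass.coe_pow, pow_two, O.Jc_sq]; rfl))
        fun e => hJ1 (congrArg Subtype.val e))
    obtain ⟨P', hP'⟩ := hJ2.exists_le_sylow
    obtain ⟨k, hk⟩ := MulAction.exists_smul_eq ↥K P' P
    refine ⟨⟨O.Jc, hJK⟩, ?_, rfl⟩
    have hcen : k * ⟨O.Jc, hJK⟩ * k⁻¹ = ⟨O.Jc, hJK⟩ := Subtype.ext (by
      show (k : ↥(cenJ H)) * O.Jc * (k : ↥(cenJ H))⁻¹ = O.Jc
      rw [← (O.Jc_central _).eq, mul_inv_cancel_right])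
    rw [← hk, ← hcen]
    exact ⟨_, hP' (Subgroup.mem_zpowers _), rfl⟩
  -- the centre
  set Z := A ⊓ Subgroup.centralizer (A : Set ↥(cenJ H)) with hZdef
  have hJcomm : ∀ g, O.Jc * g = g * O.Jc := fun g => (O.Jc_central g).eq
  have hZmem : ∀ z, z ∈ Z → z = 1 ∨ z = O.Jc := hscal Z inf_le_left
    (fun a ha b hb => (Subgroup.mem_centralizer_iff.1 ha.2 b hb.1).symm)
    (fun a ha => ⟨hP a ha.1, Subgroup.mem_centralizer_iff.2 fun t ht => by
      have := Subgroup.mem_centralizer_iff.1 ha.2 _ (conj_inv_mem hP t ht)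
      calc t * (O.cW * a * O.cW⁻¹) = O.cW * (O.cW⁻¹ * t * O.cW * a) * O.cW⁻¹ := by group
        _ = O.cW * (a * (O.cW⁻¹ * t * O.cW)) * O.cW⁻¹ := by rw [this]
        _ = O.cW * a * O.cW⁻¹ * t := by group⟩)
    (fun a ha => ⟨hn0P a ha.1, Subgroup.mem_centralizer_iff.2 fun t ht => by
      have := Subgroup.mem_centralizer_iff.1 ha.2 _ (conj_inv_mem hn0P t ht)
      calc t * (n0 * a * n0⁻¹) = n0 * (n0⁻¹ * t * n0 * a) * n0⁻¹ := by group
        _ = n0 * (a * (n0⁻¹ * t * n0)) * n0⁻¹ := by rw [this]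
        _ = n0 * a * n0⁻¹ * t := by group⟩)
  -- the second centre
  let U : Subgroup ↥(cenJ H) :=
    { carrier := {u | u ∈ A ∧ ∀ x ∈ A, u * x = x * u ∨ u * x = x * u * O.Jc}
      one_mem' := ⟨one_mem A, fun x _ => Or.inl (by simp)⟩
      mul_mem' := fun {u v} hu hv => ⟨mul_mem hu.1 hv.1, fun x hx => by
        have e1 : ∀ y, u * (y * O.Jc) = u * y * O.Jc := fun y => (mul_assoc _ _ _).symm
        rcases hv.2 x hx with h | h <;> rcases hu.2 x hx with h' | h'
        · exact Or.inl (by rw [mul_assoc, h, ← mul_assoc, h', mul_assoc])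
        · refine Or.inr ?_
          rw [mul_assoc, h, ← mul_assoc, h', mul_assoc (x * u) O.Jc, hJcomm]
          simp only [mul_assoc]
        · refine Or.inr ?_
          rw [mul_assoc, h, ← mul_assoc, ← mul_assoc, h']
          simp only [mul_assoc]
        · refine Or.inl ?_
          rw [mul_assoc, h, e1, ← mul_assoc, h', mul_assoc (x * u) O.Jc v, hJcomm, ← mul_assoc (x * u) v,
            mul_assoc (x * u * v), O.Jc_sq, mul_one, mul_assoc]⟩
      inv_mem' := fun {u} hu => ⟨inv_mem hu.1, fun x hx => by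
        rcases hu.2 x hx with h | h
        · exact Or.inl (by rw [inv_mul_eq_iff_eq_mul, ← mul_assoc, h, mul_inv_cancel_right])
        · refine Or.inr ?_
          rw [inv_mul_eq_iff_eq_mul, ← mul_assoc, ← mul_assoc, h, mul_assoc (x * u) O.Jc u⁻¹, hJcomm,
            ← mul_assoc (x * u), mul_inv_cancel_right, mul_assoc, O.Jc_sq, mul_one]⟩ }
  have hUA : U ≤ A := fun u hu => hu.1
  have hUn : ∀ g, (∀ x ∈ A, g * x * g⁻¹ ∈ A) → ∀ u ∈ U, g * u * g⁻¹ ∈ U := by
    intro g hg u hu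
    refine ⟨hg u hu.1, fun x hx => ?_⟩
    rcases hu.2 _ (conj_inv_mem hg x hx) with h | h
    · refine Or.inl ?_
      calc g * u * g⁻¹ * x = g * (u * (g⁻¹ * x * g)) * g⁻¹ := by group
        _ = g * (g⁻¹ * x * g * u) * g⁻¹ := by rw [h]
        _ = _ := by group
    · refine Or.inr ?_
      calc g * u * g⁻¹ * x = g * (u * (g⁻¹ * x * g)) * g⁻¹ := by group
        _ = g * (g⁻¹ * x * g * u * O.Jc) * g⁻¹ := by rw [h]
        _ = g * (g⁻¹ * x * g * u) * (O.Jc * g⁻¹) := by simp only [mul_assoc]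
        _ = g * (g⁻¹ * x * g * u) * g⁻¹ * O.Jc := by rw [hJcomm]; simp only [mul_assoc]
        _ = _ := by group
  have hZU : ∀ u ∈ U, (∀ v ∈ U, u * v = v * u) → u = 1 ∨ u = O.Jc := by
    intro u hu hc
    refine hscal (U ⊓ Subgroup.centralizer (U : Set ↥(cenJ H))) (inf_le_left.trans hUA)
      (fun a ha b hb => (Subgroup.mem_centralizer_iff.1 ha.2 b hb.1).symm) ?_ ?_ u
      ⟨hu, Subgroup.mem_centralizer_iff.2 fun v hv => (hc v hv).symm⟩
    all_goals intro a ha
    · refine ⟨hUn _ hP a ha.1, Subgroup.mem_centralizer_iff.2 fun t ht => ?_⟩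
      have := Subgroup.mem_centralizer_iff.1 ha.2 _ (conj_inv_mem (hUn _ hP) t ht)
      calc t * (O.cW * a * O.cW⁻¹) = O.cW * (O.cW⁻¹ * t * O.cW * a) * O.cW⁻¹ := by group
        _ = O.cW * (a * (O.cW⁻¹ * t * O.cW)) * O.cW⁻¹ := by rw [this]
        _ = O.cW * a * O.cW⁻¹ * t := by group
    · refine ⟨hUn _ hn0P a ha.1, Subgroup.mem_centralizer_iff.2 fun t ht => ?_⟩
      have := Subgroup.mem_centralizer_iff.1 ha.2 _ (conj_inv_mem (hUn _ hn0P) t ht)
      calc t * (n0 * a * n0⁻¹) = n0 * (n0⁻¹ * t * n0 * a) * n0⁻¹ := by group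
        _ = n0 * (a * (n0⁻¹ * t * n0)) * n0⁻¹ := by rw [this]
        _ = n0 * a * n0⁻¹ * t := by group
  have hUJ : ∀ u ∈ U, u = 1 ∨ u = O.Jc := by
    refine small_extraspecial h2 (pA h2 H) hJcomm O.Jc_sq (O.pA_Jc h2) U ⟨hJA, fun x _ => Or.inl (hJcomm x)⟩
      (fun u hu v hv => hu.2 v hv.1) hZU O.cW_pow (hUn _ hP) fun u hu v hv huW hvW => ?_
    have huK := MonoidHom.mem_ker.1 (hAK hu.1)
    have hvK := MonoidHom.mem_ker.1 (hAK hv.1)
    obtain ⟨S, hS, -⟩ := ker_pB_sign O h2 hm huW huK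
    obtain ⟨T, hT, -⟩ := ker_pB_sign O h2 hm hvW hvK
    refine blocks_inj h2 (Units.ext ?_) (by rw [map_mul, map_mul, huK, hvK])
    rw [map_mul, map_mul, Units.val_mul, Units.val_mul, hS, hT, sgnMat, sgnMat, diagonal_mul_diagonal,
      diagonal_mul_diagonal]
    exact congrArg diagonal (funext fun i => mul_comm _ _)
  -- the two part
  have hA2 : ∀ x ∈ A, x = 1 ∨ x = O.Jc := by
    by_contra hc
    push Not at hc
    obtain ⟨x0, hx0, hx01, hx0J⟩ := hc
    set Q := ↥A ⧸ Subgroup.center ↥A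
    have hQ : IsPGroup 2 Q := hA.to_quotient _
    haveI : Nontrivial Q := by
      refine ⟨⟨QuotientGroup.mk ⟨x0, hx0⟩, 1, fun e => ?_⟩⟩
      have hm' := (QuotientGroup.eq_one_iff _).1 e
      rcases hZmem x0 ⟨hx0, Subgroup.mem_centralizer_iff.2 fun t ht =>
        congrArg Subtype.val (Subgroup.mem_center_iff.1 hm' ⟨t, ht⟩)⟩ with h | h
      · exact hx01 h
      · exact hx0J h
    haveI := hQ.center_nontrivial
    obtain ⟨q, hq1⟩ := exists_ne (1 : Subgroup.center Q)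
    obtain ⟨u, hu⟩ := QuotientGroup.mk_surjective (q : Q)
    have huU : (u : ↥(cenJ H)) ∈ U := by
      refine ⟨u.2, fun x hx => ?_⟩
      have hcq := Subgroup.mem_center_iff.1 q.2 (QuotientGroup.mk ⟨x, hx⟩)
      rw [← hu, ← QuotientGroup.mk_mul, ← QuotientGroup.mk_mul, QuotientGroup.eq] at hcq
      set d := ((⟨x, hx⟩ : ↥A) * u)⁻¹ * (u * ⟨x, hx⟩) with hd
      have hdv : (u : ↥(cenJ H)) * x = x * u * (d : ↥(cenJ H)) := by
        simp only [hd, Subgroup.coe_mul, Subgroup.coe_inv]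
        group
      rcases hZmem (d : ↥(cenJ H)) ⟨d.2, Subgroup.mem_centralizer_iff.2 fun t ht =>
        congrArg Subtype.val (Subgroup.mem_center_iff.1 hcq ⟨t, ht⟩)⟩ with h | h <;> rw [h] at hdv
      · exact Or.inl (by rw [hdv, mul_one])
      · exact Or.inr hdv
    refine hq1 (Subtype.ext ?_)
    rw [← hu]
    refine (QuotientGroup.eq_one_iff _).2 (Subgroup.mem_center_iff.2 fun t => Subtype.ext ?_)
    rcases hUJ _ huU with h | h <;> simp only [Subgroup.coe_mul, h]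
    · simp
    · exact (hJcomm _).symm
  -- the part of the characteristic
  haveI hpf : Fact p.Prime := inferInstance
  obtain ⟨R⟩ := (inferInstance : Nonempty (Sylow p ↥K))
  have hp2 : p ≠ 2 := fun e => by subst e; exact h2 (CharP.cast_eq_zero F 2)
  have hAcard : Nat.card ↥A = 2 := by
    refine Nat.card_eq_two_iff.2 ⟨⟨1, one_mem A⟩, ⟨O.Jc, hJA⟩, fun e => hJ1 (congrArg Subtype.val e).symm, ?_⟩
    refine Set.eq_univ_of_forall fun x => ?_
    rcases hA2 x x.2 with e | e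
    · exact Or.inl (Subtype.ext e)
    · exact Or.inr (Subtype.ext e)
  have hRidx : (R : Subgroup ↥K).index = 2 := by
    have hne : (R : Subgroup ↥K).index ≠ 0 := Subgroup.index_ne_zero_of_finite
    have huniq : ∀ {r : ℕ}, r.Prime → r ∣ (R : Subgroup ↥K).index → r = 2 := by
      intro r hr hd
      haveI : Fact r.Prime := ⟨hr⟩
      by_contra hr2
      by_cases hrp : r = p
      · subst hrp; exact R.not_dvd_index hd
      · exact odd_not_dvd O _ hsq hr2 hrp (hd.trans (Subgroup.index_dvd_card _))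
    have hi := Nat.eq_prime_pow_of_unique_prime_dvd hne huniq
    rw [hi]
    have hdv : 2 ^ (R : Subgroup ↥K).index.primeFactorsList.length ∣ Nat.card ↥K := hi ▸ Subgroup.index_dvd_card _
    have := P.pow_dvd_card_of_pow_dvd_card hdv
    rw [← Subgroup.card_map_of_injective K.subtype_injective, ← hAdef, hAcard] at this
    rcases hl : (R : Subgroup ↥K).index.primeFactorsList.length with _ | l
    · exfalso
      rw [hl, pow_zero, Subgroup.index_eq_one] at hi
      have hR := R.2.exists_card_eq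
      obtain ⟨k, hk⟩ := hR
      have h2R : 2 ∣ Nat.card ↥(R : Subgroup ↥K) := by
        rw [hi, Subgroup.card_top, ← hAcard, hAdef, Subgroup.card_map_of_injective K.subtype_injective]
        exact Subgroup.card_subgroup_dvd_card _
      rw [hk] at h2R
      exact hp2 ((Nat.prime_dvd_prime_iff_eq Nat.prime_two Fact.out).1 (Nat.prime_two.dvd_of_dvd_pow h2R)).symm
    · rw [hl] at this
      have := Nat.le_of_dvd (by norm_num) this
      rcases l with _ | l
      · rfl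
      · exfalso
        have : 2 ^ 2 ≤ 2 ^ (l + 1 + 1) := Nat.pow_le_pow_right (by norm_num) (by omega)
        omega
  haveI hRn : (R : Subgroup ↥K).Normal := Subgroup.normal_of_index_eq_two hRidx
  have hRconj : ∀ g, ∀ x ∈ (R : Subgroup ↥K).map K.subtype, g * x * g⁻¹ ∈ (R : Subgroup ↥K).map K.subtype := by
    rintro g _ ⟨x, hx, rfl⟩
    haveI : Unique (Sylow p ↥K) := Sylow.unique_of_normal R hRn
    set α : MulAut ↥K := MulAut.conjNormal g
    have hfix : α • R = R := Subsingleton.elim _ _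
    refine ⟨α x, ?_, by simp [α]⟩
    have : α • x ∈ ((α • R : Sylow p ↥K) : Subgroup ↥K) := Subgroup.smul_mem_pointwise_smul x α _ hx
    rwa [hfix] at this
  have hR1 : (R : Subgroup ↥K) = ⊥ := by
    rw [eq_bot_iff]
    intro x hx
    refine Subtype.ext (eq_one_of_blocks h2 ?_ (MonoidHom.mem_ker.1 x.2))
    refine fixed_trivial O hm (pA h2 H) wa wa_inj (O.pA_W h2) (fun r c => ?_) _ (R.2.map _) hRconj _ ⟨x, hx, rfl⟩
    rw [pA_val, O.cF_val]
    exact ba_Fm_ne O.root h2 r c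
  have hK2 : Nat.card ↥K = 2 := by rw [← (R : Subgroup ↥K).card_mul_index, hRidx, hR1, Subgroup.card_bot]
  have hAK' : A = K := Subgroup.eq_of_le_of_card_ge hAK (by rw [hK2, hAcard])
  exact hA2 g (hAK' ▸ MonoidHom.mem_ker.2 hg)

/-- An element acting by a scalar on the fixed space is central up to the involution. -/
theorem scalar_of_pB {g : ↥(cenJ H)}
    (hg : IsScal ((pB h2 H g : GL (Fin 3) F) : Matrix (Fin 3) (Fin 3) F)) :
    ∃ c : F, c ^ 7 = 1 ∧ (((g : G7) : M7) = c • 1 ∨ ((g : G7) : M7) = c • Jm) := by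
  obtain ⟨d, hd⟩ := hg
  have hcomm : ∀ x, g * x * g⁻¹ * x⁻¹ = 1 ∨ g * x * g⁻¹ * x⁻¹ = O.Jc := by
    intro x
    refine ker_pB_eq O h2 hm ?_
    have : pB h2 H g * pB h2 H x = pB h2 H x * pB h2 H g := Units.ext (by
      rw [Units.val_mul, Units.val_mul, hd]; exact IsScal.comm ⟨d, rfl⟩ _)
    rw [map_mul, map_mul, map_mul, map_inv, map_inv, this, mul_inv_cancel_right, mul_inv_cancel]
  have hgW : Commute O.cW g := by
    rcases hcomm O.cW with e | e
    · exact (mul_inv_eq_iff_eq_mul.1 (mul_inv_eq_one.1 e)).symm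
    · exfalso
      have e1 : g * O.cW * g⁻¹ = O.Jc * O.cW := mul_inv_eq_iff_eq_mul.1 e
      have e2 := congrArg (· ^ 7) e1
      simp only [conj_pow, (O.Jc_central O.cW).mul_pow, O.cW_pow, mul_one, mul_inv_cancel] at e2
      have hj7 : O.Jc ^ 7 = O.Jc := calc
        O.Jc ^ 7 = (O.Jc * O.Jc) ^ 3 * O.Jc := by rw [← pow_two, ← pow_mul, ← pow_succ]
        _ = O.Jc := by rw [O.Jc_sq, one_pow, one_mul]
      rw [hj7] at e2
      have := O.pA_Jc h2
      rw [← e2, map_one, Units.val_one] at this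
      have := congrFun (congrFun this 0) 0
      simp at this
      exact h2 (by linear_combination this)
  obtain ⟨dA, dB, hk⟩ := entries_of_commute O h2 hm hgW
  set X := ((pA h2 H g : GL (Fin 4) F) : Matrix (Fin 4) (Fin 4) F)
  set f4 := ((pA h2 H O.cF : GL (Fin 4) F) : Matrix (Fin 4) (Fin 4) F)
  have hsame : ∀ r, X r r = X 0 0 := by
    have hne : ∀ r c, f4 r c ≠ 0 := fun r c => by
      show ((pA h2 H O.cF : GL (Fin 4) F) : Matrix (Fin 4) (Fin 4) F) r c ≠ 0
      rw [pA_val, O.cF_val]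
      exact ba_Fm_ne O.root h2 r c
    rcases hcomm O.cF with e | e
    · have e' : pA h2 H g * pA h2 H O.cF = pA h2 H O.cF * pA h2 H g := by
        rw [← map_mul, ← map_mul, mul_inv_eq_iff_eq_mul.1 (mul_inv_eq_one.1 e)]
      have e2 : X * f4 = f4 * X := by rw [← Units.val_mul, ← Units.val_mul, e']
      intro r
      have := congrFun (congrFun e2 r) 0
      rw [dA, diagonal_mul, mul_diagonal, mul_comm] at this
      exact mul_left_cancel₀ (hne r 0) this
    · exfalso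
      have e' : g * O.cF = O.Jc * O.cF * g := mul_inv_eq_iff_eq_mul.1 (mul_inv_eq_iff_eq_mul.1 e)
      have e2 : X * f4 = -(f4 * X) := by
        rw [← Units.val_mul, ← map_mul, e', map_mul, map_mul, Units.val_mul, Units.val_mul, O.pA_Jc h2,
          Matrix.neg_mul, Matrix.one_mul, Matrix.neg_mul]
      have := congrFun (congrFun e2 0) 0
      rw [dA, Matrix.neg_apply, diagonal_mul, mul_diagonal] at this
      rcases mul_eq_zero.1 (by linear_combination this : (2 : F) * (X 0 0 * f4 0 0) = 0) with e3 | e3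
      · exact h2 e3
      rcases mul_eq_zero.1 e3 with e4 | e4
      · have hdet : X.det ≠ 0 := ((Matrix.isUnit_iff_isUnit_det _).1 (pA h2 H g).isUnit).ne_zero
        rw [dA, det_diagonal] at hdet
        exact hdet (Finset.prod_eq_zero (Finset.mem_univ 0) e4)
      · exact hne 0 0 e4
  set c := X 0 0
  have hX : X = c • 1 := by
    rw [dA, ← diagonal_one, ← diagonal_smul]
    exact congrArg diagonal (funext fun r => by rw [hsame r, Pi.smul_apply, smul_eq_mul, mul_one])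
  have hd0 := hk 0
  rw [hsame] at hd0
  rw [hd, Matrix.smul_apply, one_apply_eq, smul_eq_mul, mul_one] at hd0
  have hM := eq_blocks h2 (cenJ_comm g)
  have hB : bb ((g : G7) : M7) = d • 1 := hd
  have hA' : ba ((g : G7) : M7) = c • 1 := hX
  rw [hA', hB, Matrix.mul_smul, Matrix.mul_one, Matrix.smul_mul, Matrix.mul_smul, Matrix.mul_one,
    Matrix.smul_mul] at hM
  have hdet := O.det_pA_pB h2 g
  rw [hd] at hdet
  change X.det * _ = 1 at hdet
  rw [hX, det_smul, det_one, det_smul, det_one, Fintype.card_fin, Fintype.card_fin, mul_one, mul_one] at hdet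
  have hJ : (Jm : M7) = (Eb : Matrix (Fin 7) (Fin 3) F) * (Lb : Matrix (Fin 3) (Fin 7) F) -
      (Ea : Matrix (Fin 7) (Fin 4) F) * (La : Matrix (Fin 4) (Fin 7) F) := by
    have := congrArg (fun M => (Jm : M7) * M) (blocks_add h2)
    simp only [Matrix.mul_one, Matrix.mul_add, ← Matrix.mul_assoc, Jm_Ea, Jm_Eb, Matrix.neg_mul] at this
    rw [← this, neg_add_eq_sub]
  rcases hd0 with e | e <;> rw [e] at hdet hM
  · exact ⟨c, by linear_combination hdet, Or.inl (by rw [hM, ← smul_add, blocks_add h2])⟩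
  · refine ⟨-c, by linear_combination hdet, Or.inr ?_⟩
    rw [hM, hJ]
    module

end Final

end CfsgLib.MaxSub.HeisSeven
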