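/-
The frame of quaternion type in the centraliser of the central involution.
-/
import Cfsg.Agent.Lib.MaxSub.HeisSeven.Kernel
import Cfsg.Agent.Lib.MaxSub.HeisSeven.Fusion

set_option autoImplicit false
set_option linter.unusedSectionVars false
set_option linter.style.haveILetI false
set_option maxHeartbeats 1600000
set_option maxRecDepth 4000

namespace CfsgLib.MaxSub.HeisSeven

open Matrix

variable {F : Type*} [Field F]

local notation "M7" => Matrix (Fin 7) (Fin 7) F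
local notation "G7" => GL (Fin 7) F
local notation "𝐉" => (Jm : Matrix (Fin 7) (Fin 7) F)
local notation "𝐌" => (Mm : Matrix (Fin 7) (Fin 7) F)

theorem Mm_cube : 𝐌 * 𝐌 * 𝐌 = (1 : M7) := by
  have e : ∀ i : Fin 7, (4 : Fin 7) * (4 * (4 * i)) = i := by decide
  ext i j
  have hi : (4 : Fin 7) * (4 * i) = 2 * i := by revert i; decide
  rw [Matrix.mul_assoc, Mm_mul, Mm_mul, hi]
  simp only [Mm, of_apply, one_apply]
  have e2 : ∀ a b : Fin 7, (2 * a = 2 * b) ↔ a = b := by decide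
  simp [e2]

section Matrices

variable {ω : F} (h : Root ω)
include h

theorem gauss_neg : (∑ k : Fin 7, ω ^ ((k : ℕ) ^ 2)) + ∑ k : Fin 7, ω ^ (6 * (k : ℕ) ^ 2) = 0 := by
  simp only [Fin.sum_univ_seven, Fin.val_zero, Fin.val_one, Fin.val_two,
    show ((3 : Fin 7) : ℕ) = 3 from rfl, show ((4 : Fin 7) : ℕ) = 4 from rfl, show ((5 : Fin 7) : ℕ) = 5 from rfl,
    show ((6 : Fin 7) : ℕ) = 6 from rfl]
  simp only [h.pow_mod (2 ^ 2), h.pow_mod (3 ^ 2), h.pow_mod (4 ^ 2), h.pow_mod (5 ^ 2), h.pow_mod (6 ^ 2),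
    h.pow_mod (6 * 2 ^ 2), h.pow_mod (6 * 3 ^ 2), h.pow_mod (6 * 4 ^ 2), h.pow_mod (6 * 5 ^ 2),
    h.pow_mod (6 * 6 ^ 2)]
  norm_num
  linear_combination 2 * h.eq

theorem frame_rel :
    Fm ω * (Wm ω * (𝐌 * 𝐌) * Fm ω * (𝐌 * Wm ω ^ 6)) = Wm ω * (𝐌 * 𝐌) * Fm ω * (𝐌 * Wm ω ^ 6) * Fm ω * 𝐉 := by
  have h2i : ∀ i : Fin 7, (4 : Fin 7) * (4 * i) = 2 * i := by decide
  set C := fcoef ω
  have hG : ∀ i j : Fin 7, (Wm ω * (𝐌 * 𝐌) * Fm ω * (𝐌 * Wm ω ^ 6) : M7) i j =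
      C * ω ^ ((i : ℕ) ^ 2 + ((2 * i : Fin 7) : ℕ) * ((2 * j : Fin 7) : ℕ) + (j : ℕ) ^ 2 * 6) := by
    intro i j
    rw [← Matrix.mul_assoc (Wm ω * (𝐌 * 𝐌) * Fm ω) 𝐌, Matrix.mul_assoc (Wm ω) (𝐌 * 𝐌),
      Matrix.mul_assoc (Wm ω) (𝐌 * 𝐌 * Fm ω), Wm, diagonal_pow, mul_diagonal, diagonal_mul, mul_Mm,
      Matrix.mul_assoc 𝐌 𝐌, Mm_mul, Mm_mul, h2i, Fm_eq, Matrix.smul_apply, of_apply, smul_eq_mul, Pi.pow_apply,
      ← pow_mul, pow_add, pow_add]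
    ring
  ext i j
  rw [mul_Jm, Matrix.mul_apply, Matrix.mul_apply]
  simp only [hG]
  simp only [Fm_eq, Matrix.smul_apply, of_apply, smul_eq_mul]
  have hL : ∀ i j k : Fin 7, ((i : ℕ) * (k : ℕ) +
      ((k : ℕ) ^ 2 + ((2 * k : Fin 7) : ℕ) * ((2 * j : Fin 7) : ℕ) + (j : ℕ) ^ 2 * 6)) % 7 =
      (((k + (4 * i + 2 * j) : Fin 7) : ℕ) ^ 2 + (5 * (i : ℕ) ^ 2 + 5 * (i : ℕ) * (j : ℕ) + 2 * (j : ℕ) ^ 2)) % 7 := by
    decide
  have hR : ∀ i j k : Fin 7, (((i : ℕ) ^ 2 + ((2 * i : Fin 7) : ℕ) * ((2 * k : Fin 7) : ℕ) + (k : ℕ) ^ 2 * 6) +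
      (k : ℕ) * ((-j : Fin 7) : ℕ)) % 7 =
      (6 * ((k + (5 * i + 4 * j) : Fin 7) : ℕ) ^ 2 + (5 * (i : ℕ) ^ 2 + 5 * (i : ℕ) * (j : ℕ) + 2 * (j : ℕ) ^ 2)) % 7 := by
    decide
  set E := 5 * (i : ℕ) ^ 2 + 5 * (i : ℕ) * (j : ℕ) + 2 * (j : ℕ) ^ 2 with hE
  have e1 : ∑ k : Fin 7, C * ω ^ ((i : ℕ) * (k : ℕ)) *
      (C * ω ^ ((k : ℕ) ^ 2 + ((2 * k : Fin 7) : ℕ) * ((2 * j : Fin 7) : ℕ) + (j : ℕ) ^ 2 * 6)) =
      C * C * ω ^ E * ∑ k : Fin 7, ω ^ ((k : ℕ) ^ 2) := by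
    rw [Finset.mul_sum]
    refine Fintype.sum_equiv (Equiv.addRight (4 * i + 2 * j)) _ _ fun k => ?_
    rw [Equiv.coe_addRight, mul_mul_mul_comm, ← pow_add, mul_assoc (C * C), ← pow_add, add_comm E,
      h.pow_mod, hL i j k, ← hE, ← h.pow_mod]
  have e2 : ∑ k : Fin 7, C * ω ^ ((i : ℕ) ^ 2 + ((2 * i : Fin 7) : ℕ) * ((2 * k : Fin 7) : ℕ) + (k : ℕ) ^ 2 * 6) *
      (C * ω ^ ((k : ℕ) * ((-j : Fin 7) : ℕ))) = C * C * ω ^ E * ∑ k : Fin 7, ω ^ (6 * (k : ℕ) ^ 2) := by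
    rw [Finset.mul_sum]
    refine Fintype.sum_equiv (Equiv.addRight (5 * i + 4 * j)) _ _ fun k => ?_
    rw [Equiv.coe_addRight, mul_mul_mul_comm, ← pow_add, mul_assoc (C * C), ← pow_add, add_comm E,
      h.pow_mod, hR i j k, ← hE, ← h.pow_mod]
  rw [e1, e2]
  linear_combination C * C * ω ^ E * gauss_neg h

end Matrices

namespace Over

variable {ω : F} {H : Subgroup (GL (Fin 7) F)} (O : Over ω H)
include O

theorem exists_M : ∃ g : ↥(cenJ H), ((g : G7) : M7) = 𝐌 := by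
  obtain ⟨g, hg, e⟩ := O.hM
  exact ⟨⟨g, mem_cenJ.2 ⟨hg, by rw [e]; exact Jm_Mm⟩⟩, e⟩

/-- The multiplier in the centraliser. -/
noncomputable def cM : ↥(cenJ H) := O.exists_M.choose

theorem cM_val : ((O.cM : G7) : M7) = 𝐌 := O.exists_M.choose_spec

/-- The second element of the frame. -/
noncomputable def cG : ↥(cenJ H) := O.cW * (O.cM * O.cM) * O.cF * (O.cW * (O.cM * O.cM))⁻¹

theorem cG_sq : O.cG * O.cG = O.Jc := by
  rw [cG, show ∀ k x : ↥(cenJ H), k * x * k⁻¹ * (k * x * k⁻¹) = k * (x * x) * k⁻¹ from fun k x => by group,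
    O.cF_sq, ← (O.Jc_central _).eq, mul_inv_cancel_right]

theorem cG_val : ((O.cG : G7) : M7) = Wm ω * (𝐌 * 𝐌) * Fm ω * (𝐌 * Wm ω ^ 6) := by
  have e : (O.cW * (O.cM * O.cM))⁻¹ = O.cM * O.cW ^ 6 := by
    refine inv_eq_of_mul_eq_one_left (Subtype.ext (Units.ext ?_))
    simp only [Subgroup.coe_mul, SubmonoidClass.coe_pow, Units.val_mul, Units.val_pow_eq_pow_val, O.cM_val, O.cW_val]
    rw [Matrix.mul_assoc 𝐌, ← Matrix.mul_assoc (Wm ω ^ 6), ← pow_succ, Wm_pow_seven O.root, Matrix.one_mul,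
      ← Matrix.mul_assoc, Mm_cube]
    rfl
  rw [cG, e]
  simp only [Subgroup.coe_mul, SubmonoidClass.coe_pow, Units.val_mul, Units.val_pow_eq_pow_val, O.cM_val, O.cW_val,
    O.cF_val]

theorem cF_cG : O.cF * O.cG = O.cG * O.cF * O.Jc := by
  refine Subtype.ext (Units.ext ?_)
  simp only [Subgroup.coe_mul, Units.val_mul, O.cG_val, O.cF_val]
  exact frame_rel O.root

theorem Jc_ne (h2 : (2 : F) ≠ 0) : O.Jc ≠ 1 := fun e => by
  have := O.pA_Jc h2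
  rw [e, map_one, Units.val_one] at this
  have := congrFun (congrFun this 0) 0
  simp at this
  exact h2 (by linear_combination this)

end Over

variable [Fintype F] {p : ℕ} [Fact p.Prime] [CharP F p] {ω : F} {H : Subgroup (GL (Fin 7) F)}

/-- The fixed-space representation is a double cover with a frame. -/
theorem cover (O : Over ω H) (h2 : (2 : F) ≠ 0) (hm : Mono ω H) : Cover (pB h2 H) O.Jc where
  two := h2
  ne := O.Jc_ne h2
  sq := O.Jc_sq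
  central g := ((O.Jc_central g).eq).symm
  image := O.pB_Jc h2
  ker g hg := ker_pB_eq O h2 hm hg
  neg := by
    rintro _ ⟨g, rfl⟩ e
    obtain ⟨c, hc, hg⟩ := scalar_of_pB O h2 hm (g := g) ⟨-1, by rw [e, neg_one_smul]⟩
    have e2 : (c • 1 : Matrix (Fin 3) (Fin 3) F) = -1 := by
      rw [← e, pB_val]
      rcases hg with hg | hg <;> rw [hg, bb, Matrix.mul_smul, Matrix.smul_mul]
      · rw [Matrix.mul_one, Lb_Eb h2]
      · rw [Matrix.mul_assoc, Jm_Eb, Lb_Eb h2]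
    have := congrFun (congrFun e2 0) 0
    simp at this
    rw [this] at hc
    exact h2 (by linear_combination -hc)
  frame := ⟨O.cF, O.cG, O.cF_sq, O.cG_sq, O.cF_cG⟩

/-- A failure of isolation gives a non-central involution with dihedral Sylow subgroups. -/
theorem exists_bad (O : Over ω H) (h2 : (2 : F) ≠ 0) (hm : Mono ω H) {g : G7} (hg : g ∈ H)
    (hc : Jg * (g * Jg * g⁻¹) = g * Jg * g⁻¹ * Jg) (hne : g * Jg * g⁻¹ ≠ Jg) :
    ∃ (t : ↥(cenJ H)) (S : Sylow 2 ↥(pB h2 H).range) (m : ℕ), t * t = 1 ∧ t ≠ 1 ∧ t ≠ O.Jc ∧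
      2 ≤ m ∧ Nonempty (↥(S : Subgroup ↥(pB h2 H).range) ≃* DihedralGroup m) := by
  have D := cover O h2 hm
  have hmem : g * Jg * g⁻¹ ∈ cenJ H := mem_cenJ.2 ⟨mul_mem (mul_mem hg O.Jg_mem) (inv_mem hg), by
    rw [← Jg_val, ← Units.val_mul, ← Units.val_mul, hc]⟩
  set t : ↥(cenJ H) := ⟨g * Jg * g⁻¹, hmem⟩ with htdef
  have ht : t * t = 1 := Subtype.ext (by
    show g * Jg * g⁻¹ * (g * Jg * g⁻¹) = 1
    rw [show g * Jg * g⁻¹ * (g * Jg * g⁻¹) = g * (Jg * Jg) * g⁻¹ by group, Jg_mul_self, mul_one, mul_inv_cancel])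
  have hJ1 : (Jg : G7) ≠ 1 := fun e => O.Jc_ne h2 (Subtype.ext e)
  have ht1 : t ≠ 1 := fun e => hJ1 (by
    have e' : g * Jg * g⁻¹ = 1 := congrArg Subtype.val e
    rwa [mul_inv_eq_one, mul_eq_left] at e')
  have htJ : t ≠ O.Jc := fun e => hne (congrArg Subtype.val e)
  have hK : ∀ k, k * t = t * k → k * k ≠ O.Jc := by
    intro k hk hkJ
    have hk' : (k : G7) * (g * Jg * g⁻¹) = g * Jg * g⁻¹ * (k : G7) := congrArg Subtype.val hk
    have hJk : Jg * (g⁻¹ * (k : G7) * g) = g⁻¹ * (k : G7) * g * Jg := by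
      calc Jg * (g⁻¹ * (k : G7) * g) = g⁻¹ * (g * Jg * g⁻¹ * (k : G7)) * g := by group
        _ = g⁻¹ * ((k : G7) * (g * Jg * g⁻¹)) * g := by rw [hk']
        _ = _ := by group
    set k' : ↥(cenJ H) := ⟨g⁻¹ * (k : G7) * g,
      mem_cenJ.2 ⟨mul_mem (mul_mem (inv_mem hg) (mem_cenJ.1 k.2).1) hg, by
        rw [← Jg_val, ← Units.val_mul, ← Units.val_mul, hJk]⟩⟩
    have hsq : ((k' * k' : ↥(cenJ H)) : G7) = g⁻¹ * Jg * g := by
      show g⁻¹ * (k : G7) * g * (g⁻¹ * (k : G7) * g) = _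
      rw [show g⁻¹ * (k : G7) * g * (g⁻¹ * (k : G7) * g) = g⁻¹ * ((k : G7) * (k : G7)) * g by group,
        show (k : G7) * (k : G7) = Jg from congrArg Subtype.val hkJ]
    refine D.no_root (t := k' * k') (Subtype.ext ?_) ?_ ?_ k' rfl
    · rw [Subgroup.coe_mul, hsq, show g⁻¹ * Jg * g * (g⁻¹ * Jg * g) = g⁻¹ * (Jg * Jg) * g by group, Jg_mul_self,
        mul_one, inv_mul_cancel]
      rfl
    · intro e
      rw [e] at hsq
      have : Jg = g * (1 : G7) * g⁻¹ := by rw [← OneMemClass.coe_one (cenJ H), hsq]; group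
      exact hJ1 (by rw [this]; group)
    · intro e
      rw [e] at hsq
      refine hne ?_
      conv_lhs => rw [show (Jg : G7) = g⁻¹ * Jg * g from hsq]
      group
  obtain ⟨S, m, h⟩ := D.exists_dihedral ht ht1 htJ hK
  exact ⟨t, S, m, ht, ht1, htJ, h⟩

end CfsgLib.MaxSub.HeisSeven
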