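/-
The perfect residue of the fixed-space image of the centraliser of the central involution.
-/
import Cfsg.Agent.Lib.MaxSub.HeisSeven.Frame
import Cfsg.Agent.Lib.OddOrder.FeitThompson
import Cfsg.Agent.Lib.Basic
import Cfsg.Agent.Lib.GW.Hyp

set_option autoImplicit false
set_option linter.unusedSectionVars false
set_option linter.style.haveILetI false
set_option maxHeartbeats 1600000
set_option maxRecDepth 4000

namespace CfsgLib.MaxSub.HeisSeven

open Matrix

variable {F : Type*} [Field F]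

local notation "M3" => Matrix (Fin 3) (Fin 3) F
local notation "G3" => GL (Fin 3) F

variable [Fintype F] {p : ℕ} [Fact p.Prime] [CharP F p] {ω : F} {H : Subgroup (GL (Fin 7) F)}
  (O : Over ω H) (h2 : (2 : F) ≠ 0) (hm : Mono ω H)
include O

/-- The Fourier and diagonal elements satisfy the triangle relation in the fixed-space image. -/
theorem pB_rel : pB h2 H ((O.cF * O.cW ^ 4) ^ 3) = 1 := by
  obtain ⟨z, c, hz, hc, hrel⟩ := O.exists_z
  have hW : ((pB h2 H O.cW : G3) : M3).det = 1 := by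
    rw [O.pB_W h2, det_diagonal, Fin.prod_univ_three]
    simp only [wb, Matrix.cons_val_zero, Matrix.cons_val_one, Matrix.cons_val]
    linear_combination O.root.pow_seven
  set d := ((pB h2 H O.cF : G3) : M3).det
  have hd : d * d = 1 := by
    rw [← det_mul, ← Units.val_mul, ← map_mul, O.cF_sq, O.pB_Jc h2, Units.val_one, det_one]
  have hz3 : ((pB h2 H z : G3) : M3) = c • 1 := pB_scalar O h2 z c hz
  have hd3 : d ^ 3 = c ^ 3 := by
    have := congrArg (fun x => ((pB h2 H x : G3) : M3).det) hrel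
    simp only [hz3, map_pow, map_mul, Units.val_pow_eq_pow_val, Units.val_mul, det_pow, det_mul, hW, one_pow,
      mul_one, det_smul, det_one, Fintype.card_fin] at this
    exact this
  have hc6 : c ^ 6 = 1 := by
    rw [show (6 : ℕ) = 3 + 3 from rfl, pow_add, ← hd3, ← mul_pow, hd, one_pow]
  have hc1 : c = 1 := by
    rw [show (7 : ℕ) = 6 + 1 from rfl, pow_add, hc6, one_mul, pow_one] at hc
    exact hc
  rw [hrel]
  exact Units.ext (by rw [hz3, hc1, one_smul, Units.val_one])

/-- An element commuting with the diagonal and the Fourier element acts as a scalar. -/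
theorem scalar_of_commute {x : G3} (hW : x * pB h2 H O.cW = pB h2 H O.cW * x)
    (hF : x * pB h2 H O.cF = pB h2 H O.cF * x) : IsScal (x : M3) := by
  set f3 := ((pB h2 H O.cF : G3) : M3)
  have hd : (x : M3) = diagonal fun r => (x : M3) r r := by
    refine diag_of_weights O.root wb wb_inj ?_
    rw [← O.pB_W h2, ← Units.val_mul, ← Units.val_mul, hW]
  have hne : ∀ r c, f3 r c ≠ 0 := fun r c => by
    show ((pB h2 H O.cF : G3) : M3) r c ≠ 0
    rw [pB_val, O.cF_val]
    exact bb_Fm_ne O.root h2 r c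
  have e : (x : M3) * f3 = f3 * (x : M3) := by rw [← Units.val_mul, ← Units.val_mul, hF]
  refine ⟨(x : M3) 0 0, ?_⟩
  conv_lhs => rw [hd]
  rw [← diagonal_one, ← diagonal_smul]
  refine congrArg diagonal (funext fun r => ?_)
  have := congrFun (congrFun e r) 0
  rw [hd, diagonal_mul, mul_diagonal, mul_comm] at this
  rw [Pi.smul_apply, smul_eq_mul, mul_one]
  exact mul_left_cancel₀ (hne r 0) this

include hm

/-- A scalar of the image has order dividing seven, and is trivial when its determinant is one. -/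
theorem image_scalar {x : G3} (hx : x ∈ (pB h2 H).range) (hs : IsScal (x : M3)) :
    x ^ 7 = 1 ∧ ((x : M3).det = 1 → x = 1) := by
  obtain ⟨g, rfl⟩ := hx
  obtain ⟨c, hc, hg⟩ := scalar_of_pB O h2 (hm := hm) (g := g) hs
  have hv : ((pB h2 H g : G3) : M3) = c • 1 := by
    rw [pB_val]
    rcases hg with hg | hg <;> rw [hg, bb, Matrix.mul_smul, Matrix.smul_mul]
    · rw [Matrix.mul_one, Lb_Eb h2]
    · rw [Matrix.mul_assoc, Jm_Eb, Lb_Eb h2]
  refine ⟨Units.ext (by rw [Units.val_pow_eq_pow_val, hv, smul_pow, one_pow, hc, one_smul, Units.val_one]), fun hd => ?_⟩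
  rw [hv, det_smul, det_one, mul_one, Fintype.card_fin] at hd
  have : c = 1 := by
    rw [show c ^ 7 = (c ^ 3) ^ 2 * c from (by ring), hd, one_pow, one_mul] at hc
    exact hc
  exact Units.ext (by rw [hv, this, one_smul, Units.val_one])

/-- A normal abelian subgroup of odd order with trivial determinant is trivial. -/
theorem abelian_trivial (A : Subgroup ↥(pB h2 H).range) [A.Normal] (hab : ∀ a ∈ A, ∀ b ∈ A, a * b = b * a)
    (hodd : Odd (Nat.card ↥A)) (hdet : ∀ a ∈ A, (((a : ↥(pB h2 H).range) : G3) : M3).det = 1) : A = ⊥ := by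
  classical
  set ρ := (pB h2 H).rangeRestrict
  set N := Nat.card ↥A
  obtain ⟨p, hpc⟩ := CharP.exists F
  haveI : Fact p.Prime := ⟨CharP.char_is_prime F p⟩
  have D := cover O h2 hm
  have hJN : O.Jc ^ N = O.Jc := by
    obtain ⟨k, hk⟩ := hodd
    rw [hk, pow_add, pow_mul, pow_two, O.Jc_sq, one_pow, one_mul, pow_one]
  have hρJ : ρ O.Jc = 1 := Subtype.ext (O.pB_Jc h2)
  have hA'comm : ∀ x y : ↥(cenJ H), ρ x ∈ A → ρ y ∈ A → y ^ N = 1 → Commute x y := by
    intro x y hx hy hyN
    have e : pB h2 H (y * x) = pB h2 H (x * y) := congrArg Subtype.val (by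
      rw [map_mul, map_mul, hab _ hy _ hx] : ρ (y * x) = ρ (x * y))
    rcases D.lift_eq e with h | h
    · exact h
    · exfalso
      have h' : x * y * x⁻¹ = y * O.Jc := by
        rw [h, mul_assoc (y * x), (O.Jc_central x⁻¹).eq, ← mul_assoc, mul_inv_cancel_right]
      have := congrArg (· ^ N) h'
      simp only [conj_pow, (O.Jc_central y).symm.mul_pow, hyN, hJN, mul_one, mul_inv_cancel, one_mul] at this
      exact O.Jc_ne h2 this.symm
  let A' : Subgroup ↥(cenJ H) :=
    { carrier := {x | ρ x ∈ A ∧ x ^ N = 1}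
      one_mem' := ⟨by rw [map_one]; exact one_mem A, one_pow N⟩
      mul_mem' := fun {a b} ha hb => ⟨by rw [map_mul]; exact mul_mem ha.1 hb.1,
        by rw [(hA'comm a b ha.1 hb.1 hb.2).mul_pow, ha.2, hb.2, one_mul]⟩
      inv_mem' := fun {a} ha => ⟨by rw [map_inv]; exact inv_mem ha.1, by rw [inv_pow, ha.2, inv_one]⟩ }
  have hA'n : ∀ g, ∀ x ∈ A', g * x * g⁻¹ ∈ A' := by
    rintro g x ⟨hx, hxN⟩
    exact ⟨by rw [map_mul, map_mul, map_inv]; exact (inferInstance : A.Normal).conj_mem _ hx _,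
      by rw [conj_pow, hxN, mul_one, mul_inv_cancel]⟩
  have hA'ab : ∀ a ∈ A', ∀ b ∈ A', a * b = b * a := fun a ha b hb => hA'comm a b ha.1 hb.1 hb.2
  -- no part of the characteristic
  have hpA : ¬ p ∣ Nat.card ↥A' := by
    intro hd
    obtain ⟨x, hx⟩ := exists_prime_orderOf_dvd_card' p hd
    let Q : Subgroup ↥(cenJ H) :=
      { carrier := {x | x ∈ A' ∧ ∃ k : ℕ, x ^ p ^ k = 1}
        one_mem' := ⟨one_mem A', 0, one_pow _⟩
        mul_mem' := fun {a b} ha hb => by
          obtain ⟨ha, k, hk⟩ := ha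
          obtain ⟨hb, l, hl⟩ := hb
          refine ⟨mul_mem ha hb, k + l, ?_⟩
          rw [(show Commute a b from hA'ab a ha b hb).mul_pow, pow_add p k l, pow_mul a, hk, one_pow, one_mul,
            mul_comm (p ^ k), pow_mul, hl, one_pow]
        inv_mem' := fun {a} ha => by
          obtain ⟨ha, k, hk⟩ := ha
          exact ⟨inv_mem ha, k, by rw [inv_pow, hk, inv_one]⟩ }
    have hQ : IsPGroup p ↥Q := fun ⟨a, _, k, hk⟩ => ⟨k, Subtype.ext hk⟩
    have := fixed_trivial O hm (p := p) (pB h2 H) wb wb_inj (O.pB_W h2) (fun r c => by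
        rw [pB_val, O.cF_val]; exact bb_Fm_ne O.root h2 r c) Q hQ
      (fun g a ha => ⟨hA'n g a ha.1, by obtain ⟨-, k, hk⟩ := ha; exact ⟨k, by rw [conj_pow, hk, mul_one, mul_inv_cancel]⟩⟩)
      x ⟨x.2, 1, by rw [pow_one, ← hx]; exact congrArg Subtype.val (pow_orderOf_eq_one x)⟩
    rcases D.ker _ this with e | e
    · rw [show x = 1 from Subtype.ext e, orderOf_one] at hx
      exact (Fact.out : p.Prime).ne_one hx.symm
    · have hxN := x.2.2
      rw [e, hJN] at hxN
      exact O.Jc_ne h2 hxN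
  have hW := commute_of_coprime O (p := p) (A := A') hA'ab hpA (hA'n _)
  obtain ⟨n, hn, hnc⟩ := exists_commuting_lift O (MonoidHom.id ↥(cenJ H)) hW (n0 := O.cF) rfl (hA'n _)
  obtain rfl : n = O.cF := hn
  rw [eq_bot_iff]
  intro a ha
  obtain ⟨x, rfl⟩ := (pB h2 H).rangeRestrict_surjective a
  have hxA : ∃ y ∈ A', ρ y = ρ x := by
    have hxN : pB h2 H (x ^ N) = 1 := congrArg Subtype.val (by
      rw [map_pow]; exact congrArg Subtype.val (pow_card_eq_one' (x := (⟨ρ x, ha⟩ : ↥A))) : ρ (x ^ N) = 1)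
    rcases D.ker _ hxN with e | e
    · exact ⟨x, ⟨ha, e⟩, rfl⟩
    · refine ⟨x * O.Jc, ⟨by rw [map_mul, hρJ, mul_one]; exact ha, ?_⟩, by rw [map_mul, hρJ, mul_one]⟩
      rw [(O.Jc_central x).symm.mul_pow, e, hJN, O.Jc_sq]
  obtain ⟨y, hy, e⟩ := hxA
  have hy1 : pB h2 H y = 1 := by
    refine (image_scalar O h2 hm ⟨y, rfl⟩ (scalar_of_commute O h2 ?_ ?_)).2 ?_
    · rw [← map_mul, ← map_mul, (hW y hy).eq]
    · rw [← map_mul, ← map_mul, (hnc y hy).eq]
    · exact hdet _ hy.1
  rw [Subgroup.mem_bot]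
  exact e ▸ Subtype.ext hy1

/-- The data of the perfect residue. -/
theorem exists_residue {t : ↥(cenJ H)} (ht : t * t = 1) (ht1 : t ≠ 1) (htJ : t ≠ O.Jc)
    {S : Sylow 2 ↥(pB h2 H).range} {m : ℕ} (hm2 : 2 ≤ m)
    (eS : Nonempty (↥(S : Subgroup ↥(pB h2 H).range) ≃* DihedralGroup m)) :
    ∃ Dd : Subgroup ↥(pB h2 H).range, Dd.Normal ∧ Group.IsPerfect ↥Dd ∧ GW.GWDihedral ↥Dd ∧
      (pB h2 H).rangeRestrict O.cW ∈ Dd ∧ (pB h2 H).rangeRestrict O.cF ∈ Dd ∧
      (pB h2 H).rangeRestrict t ∉ Dd ∧ Cfsg.oddCore ↥Dd = ⊥ ∧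
      ∀ a ∈ Dd, (((a : ↥(pB h2 H).range) : G3) : M3).det = 1 := by
  classical
  haveI : Fact (Nat.Prime 2) := ⟨Nat.prime_two⟩
  haveI : Finite ↥(pB h2 H).range := Finite.of_surjective _ (pB h2 H).rangeRestrict_surjective
  set ρ := (pB h2 H).rangeRestrict
  have D := cover O h2 hm
  have hρJ : ρ O.Jc = 1 := Subtype.ext (O.pB_Jc h2)
  obtain ⟨n, hperf⟩ := GW.exists_perfect_derived ↥(pB h2 H).range
  set Dd := derivedSeries ↥(pB h2 H).range n
  have hDn : ∀ k, (derivedSeries ↥(pB h2 H).range k).Normal := fun k => derivedSeries_normal _ k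
  have hmem : ∀ k, ρ O.cW ∈ derivedSeries ↥(pB h2 H).range k ∧ ρ O.cF ∈ derivedSeries ↥(pB h2 H).range k := by
    intro k
    induction k with
    | zero => simp
    | succ k ih =>
      haveI := hDn k
      haveI := hDn (k + 1)
      set q := QuotientGroup.mk' (derivedSeries ↥(pB h2 H).range (k + 1))
      set a := q (ρ O.cW)
      set b := q (ρ O.cF)
      have hab : Commute a b := by
        show q _ * q _ = q _ * q _
        rw [← commutatorElement_eq_one_iff_mul_comm, ← map_commutatorElement]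
        exact (QuotientGroup.eq_one_iff _).2 (by rw [derivedSeries_succ]; exact Subgroup.commutator_mem_commutator ih.1 ih.2)
      have ha7 : a ^ 7 = 1 := by rw [← map_pow, ← map_pow, O.cW_pow, map_one, map_one]
      have hb2 : b * b = 1 := by rw [← map_mul, ← map_mul, O.cF_sq, hρJ, map_one]
      have hrel : (b * a ^ 4) ^ 3 = 1 := by
        rw [← map_pow, ← map_mul, ← map_pow, ← map_pow, ← map_mul, ← map_pow,
          show ρ ((O.cF * O.cW ^ 4) ^ 3) = 1 from Subtype.ext (pB_rel O h2), map_one]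
      have hba : b * a ^ 5 = 1 := by
        rw [(hab.symm.pow_right 4).mul_pow, pow_succ b 2, pow_two, hb2, one_mul, ← pow_mul,
          show 4 * 3 = 7 + 5 from rfl, pow_add, ha7, one_mul] at hrel
        exact hrel
      have hb : b = (a ^ 5)⁻¹ := eq_inv_of_mul_eq_one_left hba
      have ha10 : a ^ 10 = 1 := by
        have h := hb2
        rw [hb, ← _root_.mul_inv_rev, inv_eq_one, ← pow_add] at h
        exact h
      have ha : a = 1 := (pow_one a).symm.trans ((pow_gcd_eq_one (a := a)).2 ⟨ha7, ha10⟩)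
      rw [ha, one_pow, inv_one] at hb
      exact ⟨(QuotientGroup.eq_one_iff _).1 ha, (QuotientGroup.eq_one_iff _).1 hb⟩
  haveI := hDn n
  haveI : Group.IsPerfect ↥Dd := hperf
  obtain ⟨hWD, hFD⟩ := hmem n
  have hGD : ρ O.cG ∈ Dd := by
    rw [Over.cG, map_mul, map_mul, map_inv]
    exact (inferInstance : Dd.Normal).conj_mem _ hFD _
  have hdet : ∀ a ∈ Dd, (((a : ↥(pB h2 H).range) : G3) : M3).det = 1 := by
    intro a ha
    let φ : ↥Dd →* Fˣ := GeneralLinearGroup.det.comp ((pB h2 H).range.subtype.comp Dd.subtype)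
    have : (⟨a, ha⟩ : ↥Dd) ∈ φ.ker := Abelianization.commutator_subset_ker φ (by
      rw [Group.IsPerfect.commutator_eq_top]; exact Subgroup.mem_top _)
    exact congrArg Units.val (MonoidHom.mem_ker.1 this)
  -- dihedral Sylow subgroups
  obtain ⟨S1, hfS, hgS, -⟩ := D.exists_sylow_frame O.cF_sq O.cG_sq O.cF_cG
  have hGW : GW.GWDihedral ↥Dd := by
    have hP : IsPGroup 2 ↥((S1 : Subgroup ↥(pB h2 H).range).subgroupOf Dd) :=
      S1.2.comap_of_injective _ Dd.subtype_injective
    obtain ⟨S', hS'⟩ := hP.exists_le_sylow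
    obtain ⟨S2, hS2⟩ := (S'.2.map Dd.subtype).exists_le_sylow
    obtain ⟨e⟩ := eS
    haveI : NeZero m := ⟨by omega⟩
    set j : ↥(S' : Subgroup ↥Dd) →* DihedralGroup m :=
      (((S2.equiv S).trans e).toMonoidHom).comp (MonoidHom.codRestrict (Dd.subtype.comp (S' : Subgroup ↥Dd).subtype) _
        fun x => hS2 (Subgroup.mem_map_of_mem _ x.2))
    have hj : Function.Injective j := ((S2.equiv S).trans e).injective.comp
      (fun a b h => Subtype.ext (Subtype.ext (congrArg (fun x : ↥(S2 : Subgroup ↥(pB h2 H).range) => (x : ↥(pB h2 H).range)) h)))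
    set u : ↥(S' : Subgroup ↥Dd) := ⟨⟨ρ O.cF, hFD⟩, hS' (Subgroup.mem_subgroupOf.2 hfS)⟩
    set v : ↥(S' : Subgroup ↥Dd) := ⟨⟨ρ O.cG, hGD⟩, hS' (Subgroup.mem_subgroupOf.2 hgS)⟩
    have hu1 : u ≠ 1 := fun h => D.rr_ne_of_sq O.cF_sq (congrArg (fun x : ↥(S' : Subgroup ↥Dd) => ((x : ↥Dd) : ↥(pB h2 H).range)) h)
    have hv1 : v ≠ 1 := fun h => D.rr_ne_of_sq O.cG_sq (congrArg (fun x : ↥(S' : Subgroup ↥Dd) => ((x : ↥Dd) : ↥(pB h2 H).range)) h)
    have huv : u ≠ v := fun h => D.frame_image_ne O.cF_cG (congrArg (fun x : ↥(S' : Subgroup ↥Dd) => ((x : ↥Dd) : ↥(pB h2 H).range)) h)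
    have hu2 : u ^ 2 = 1 := Subtype.ext (Subtype.ext (by
      show ρ O.cF ^ 2 = 1; rw [pow_two, ← map_mul, O.cF_sq, hρJ]))
    have hv2 : v ^ 2 = 1 := Subtype.ext (Subtype.ext (by
      show ρ O.cG ^ 2 = 1; rw [pow_two, ← map_mul, O.cG_sq, hρJ]))
    rcases DihedralShape.subgroup_shape j.range with hcyc | ⟨n', hn', ⟨e'⟩⟩
    · exfalso
      haveI : IsCyclic ↥(S' : Subgroup ↥Dd) := isCyclic_of_injective j.rangeRestrict
        fun a b h => hj (congrArg Subtype.val h)
      haveI := Fintype.ofFinite ↥(S' : Subgroup ↥Dd)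
      have hle := IsCyclic.card_pow_eq_one_le (α := ↥(S' : Subgroup ↥Dd)) (n := 2) (by norm_num)
      have h3 : ({1, u, v} : Finset ↥(S' : Subgroup ↥Dd)) ⊆ Finset.univ.filter fun a => a ^ 2 = 1 := by
        intro a ha
        simp only [Finset.mem_insert, Finset.mem_singleton] at ha
        rcases ha with rfl | rfl | rfl <;> simp [hu2, hv2]
      have hc3 : ({1, u, v} : Finset ↥(S' : Subgroup ↥Dd)).card = 3 := by
        rw [Finset.card_insert_of_notMem, Finset.card_insert_of_notMem, Finset.card_singleton]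
        · simpa using huv
        · simp only [Finset.mem_insert, Finset.mem_singleton, not_or]
          exact ⟨hu1.symm, hv1.symm⟩
      have := Finset.card_le_card h3
      omega
    · refine ⟨S', n', ?_, ⟨(MonoidHom.ofInjective hj).trans e'⟩⟩
      by_contra hlt
      haveI : NeZero n' := ⟨fun h0 => by
        rw [h0, zero_dvd_iff] at hn'
        omega⟩
      haveI := Fintype.ofFinite ↥(S' : Subgroup ↥Dd)
      have hcard : Nat.card ↥(S' : Subgroup ↥Dd) = 2 * n' := by
        rw [Nat.card_congr ((MonoidHom.ofInjective hj).trans e').toEquiv, DihedralGroup.nat_card]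
      have hc3 : ({1, u, v} : Finset ↥(S' : Subgroup ↥Dd)).card = 3 := by
        rw [Finset.card_insert_of_notMem, Finset.card_insert_of_notMem, Finset.card_singleton]
        · simpa using huv
        · simp only [Finset.mem_insert, Finset.mem_singleton, not_or]
          exact ⟨hu1.symm, hv1.symm⟩
      have := Finset.card_le_univ ({1, u, v} : Finset ↥(S' : Subgroup ↥Dd))
      rw [hc3, ← Nat.card_eq_fintype_card, hcard] at this
      omega
  refine ⟨Dd, inferInstance, inferInstance, hGW, hWD, hFD, fun htD => ?_, ?_, hdet⟩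
  · have ho : ∀ (a : ↥(cenJ H)) (ha : ρ a ∈ Dd), ρ a * ρ a = 1 → ρ a ≠ 1 → orderOf (⟨ρ a, ha⟩ : ↥Dd) = 2 :=
      fun a ha h h' => orderOf_eq_prime (Subtype.ext (by rw [Subgroup.coe_pow, pow_two]; exact h))
        fun e => h' (congrArg Subtype.val e)
    obtain ⟨c, hc⟩ := isConj_iff.1 (hGW.perfect_all_conj _ _
      (ho O.cF hFD (by rw [← map_mul, O.cF_sq, hρJ]) (D.rr_ne_of_sq O.cF_sq))
      (ho t htD (by rw [← map_mul, ht, map_one]) fun e => D.image_ne ht1 htJ (congrArg Subtype.val e)))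
    obtain ⟨k, hk⟩ := (pB h2 H).rangeRestrict_surjective (c : ↥(pB h2 H).range)
    have e : ρ (k * O.cF * k⁻¹) = ρ t := by
      rw [map_mul, map_mul, map_inv, hk]
      exact congrArg Subtype.val hc
    refine D.ne_of_sq ht (b := k * O.cF * k⁻¹) ?_ (congrArg Subtype.val e).symm
    rw [show k * O.cF * k⁻¹ * (k * O.cF * k⁻¹) = k * (O.cF * O.cF) * k⁻¹ by group, O.cF_sq, ← (O.Jc_central k).eq,
      mul_inv_cancel_right]
  · -- the core is trivial
    have hodd : Odd (Nat.card ↥(Cfsg.oddCore ↥Dd)) := CfsgLib.odd_card_oddCore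
    haveI := CfsgLib.OddOrder.feitThompson hodd
    haveI : (Cfsg.oddCore ↥Dd).Characteristic := CfsgLib.pPrimeCore_characteristic 2
    set N := (Cfsg.oddCore ↥Dd).map Dd.subtype
    haveI : N.Normal := inferInstance
    haveI : Group.IsSolvable ↥N := Group.isSolvable_of_surjective (MonoidHom.subgroupMap_surjective Dd.subtype _)
    have hNodd : Odd (Nat.card ↥N) := by rwa [Subgroup.card_map_of_injective Dd.subtype_injective]
    obtain ⟨r, hr⟩ := (Group.isSolvable_def ↥N).1 inferInstance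
    have hstep : ∀ k, derivedSeries ↥N (k + 1) = ⊥ → derivedSeries ↥N k = ⊥ := by
      intro k hk
      haveI : (derivedSeries ↥N k).Characteristic := derivedSeries_characteristic _ k
      have := abelian_trivial O h2 hm ((derivedSeries ↥N k).map N.subtype) (by
          rintro _ ⟨a, ha, rfl⟩ _ ⟨b, hb, rfl⟩
          rw [← map_mul, ← map_mul]
          refine congrArg _ (commutatorElement_eq_one_iff_mul_comm.1 ?_)
          rw [← Subgroup.mem_bot, ← hk, derivedSeries_succ]
          exact Subgroup.commutator_mem_commutator ha hb)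
        (by rw [Subgroup.card_map_of_injective N.subtype_injective]
            exact hNodd.of_dvd_nat (Subgroup.card_subgroup_dvd_card _))
        (by rintro _ ⟨a, -, rfl⟩; exact hdet _ (Subgroup.map_subtype_le _ a.2))
      exact (Subgroup.map_eq_bot_iff_of_injective _ N.subtype_injective).1 this
    have h0 : ∀ i, i ≤ r → derivedSeries ↥N (r - i) = ⊥ := by
      intro i
      induction i with
      | zero => intro _; simpa using hr
      | succ i ih =>
        intro hi
        refine hstep _ ?_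
        rw [show r - (i + 1) + 1 = r - i by omega]
        exact ih (by omega)
    have hN : N = ⊥ := by
      have := h0 r le_rfl
      rw [Nat.sub_self, derivedSeries_zero] at this
      rw [eq_bot_iff]
      intro x hx
      have : (⟨x, hx⟩ : ↥N) ∈ (⊥ : Subgroup ↥N) := this ▸ Subgroup.mem_top _
      rw [Subgroup.mem_bot] at this ⊢
      exact congrArg Subtype.val this
    exact (Subgroup.map_eq_bot_iff_of_injective _ Dd.subtype_injective).1 hN

end CfsgLib.MaxSub.HeisSeven
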