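/-
The central involution is isolated in odd characteristic.
-/
import Cfsg.Agent.Lib.MaxSub.HeisSeven.Recog
import Cfsg.Agent.Lib.PSL2.ClassProduct
import Cfsg.Agent.Lib.PSL2.Out
import Cfsg.Agent.S0483

set_option autoImplicit false
set_option linter.unusedSectionVars false
set_option linter.style.haveILetI false
set_option maxHeartbeats 1600000
set_option maxRecDepth 4000

namespace CfsgLib.MaxSub.HeisSeven

open Matrix

variable {F : Type*} [Field F] [Fintype F] {ω : F} {H : Subgroup (GL (Fin 7) F)}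
  (O : Over ω H) (h2 : (2 : F) ≠ 0) (hm : Mono ω H)

local notation "M3" => Matrix (Fin 3) (Fin 3) F
local notation "G3" => GL (Fin 3) F

include O h2 hm

/-- The diagonal element is not conjugate to its inverse. -/
theorem not_real (c : ↥(pB h2 H).range) :
    c * (pB h2 H).rangeRestrict O.cW * c⁻¹ ≠ ((pB h2 H).rangeRestrict O.cW)⁻¹ := by
  intro e
  obtain ⟨k, rfl⟩ := (pB h2 H).rangeRestrict_surjective c
  have h := O.root
  set K := ((pB h2 H k : G3) : M3)
  have e' : pB h2 H k * pB h2 H O.cW * (pB h2 H k)⁻¹ = pB h2 H (O.cW ^ 6) := by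
    rw [show pB h2 H (O.cW ^ 6) = (pB h2 H O.cW)⁻¹ from eq_inv_of_mul_eq_one_left (by
      rw [← map_mul, ← pow_succ, O.cW_pow, map_one])]
    exact congrArg Subtype.val e
  have ht : ((pB h2 H O.cW : G3) : M3).trace = ((pB h2 H (O.cW ^ 6) : G3) : M3).trace := by
    rw [← e', Units.val_mul, Units.val_mul, Matrix.trace_units_conj]
  rw [map_pow, Units.val_pow_eq_pow_val, O.pB_W h2, diagonal_pow, trace_diagonal, trace_diagonal,
    Fin.sum_univ_three, Fin.sum_univ_three] at ht
  simp only [Pi.pow_apply, wb, Matrix.cons_val_zero, Matrix.cons_val_one, Matrix.cons_val, ← pow_mul] at ht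
  refine h.gauss_ne ?_
  rw [h.pow_mod (1 * 6), h.pow_mod (4 * 6), h.pow_mod (2 * 6)] at ht
  norm_num at ht
  linear_combination ht

/-- Commuting with the diagonal element up to the involution means commuting. -/
theorem commute_W {k : ↥(cenJ H)} (e : pB h2 H k * pB h2 H O.cW = pB h2 H O.cW * pB h2 H k) : Commute O.cW k := by
  have D := cover O h2 hm
  rw [← map_mul, ← map_mul] at e
  rcases D.lift_eq e with h | h
  · exact h
  · exfalso
    have h' : k⁻¹ * O.cW * k = O.cW * O.Jc := by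
      rw [mul_assoc, h, mul_assoc k O.cW O.Jc, inv_mul_cancel_left]
    have h7 := congrArg (· ^ 7) h'
    have hc : (k⁻¹ * O.cW * k) ^ 7 = k⁻¹ * O.cW ^ 7 * k := by
      rw [show k⁻¹ * O.cW * k = k⁻¹ * O.cW * (k⁻¹)⁻¹ by rw [inv_inv], conj_pow, inv_inv]
    have hj7 : O.Jc ^ 7 = O.Jc := calc
      O.Jc ^ 7 = (O.Jc * O.Jc) ^ 3 * O.Jc := by rw [← pow_two, ← pow_mul, ← pow_succ]
      _ = O.Jc := by rw [O.Jc_sq, one_pow, one_mul]
    simp only [(O.Jc_central O.cW).symm.mul_pow, O.cW_pow, hc, hj7, mul_one, one_mul, inv_mul_cancel] at h7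
    exact O.Jc_ne h2 h7.symm

/-- An elementary group of determinant one containing the diagonal element is small. -/
theorem elementary_card {ι : Type*} [Finite ι] (E : ι → ↥(pB h2 H).range) (hinj : Function.Injective E)
    (h7 : ∀ i, E i ^ 7 = 1) (hdet : ∀ i, ((E i : G3) : M3).det = 1)
    (hc : ∀ i, E i * (pB h2 H).rangeRestrict O.cW = (pB h2 H).rangeRestrict O.cW * E i) : Nat.card ι ≤ 49 := by
  classical
  have h := O.root
  have hd : ∀ i, ((E i : G3) : M3) = diagonal fun r => ((E i : G3) : M3) r r := by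
    intro i
    obtain ⟨k, hk⟩ := (pB h2 H).rangeRestrict_surjective (E i)
    have hk' : pB h2 H k = (E i : G3) := congrArg Subtype.val hk
    refine diag_of_weights h wb wb_inj ?_
    rw [← O.pB_W h2, ← hk', ← Units.val_mul, ← Units.val_mul, ← map_mul, ← map_mul,
      (commute_W O h2 hm (congrArg Subtype.val (by
        rw [hk]; exact hc i : (pB h2 H).rangeRestrict k * (pB h2 H).rangeRestrict O.cW =
          (pB h2 H).rangeRestrict O.cW * (pB h2 H).rangeRestrict k))).eq]
  have hroot : ∀ i r, ∃ a : Fin 7, ((E i : G3) : M3) r r = ω ^ (a : ℕ) := by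
    intro i r
    have e : ((E i : G3) : M3) ^ 7 = 1 := by
      rw [← Units.val_pow_eq_pow_val, ← SubmonoidClass.coe_pow, h7 i]
      rfl
    rw [hd i, diagonal_pow] at e
    have := congrFun (congrFun e r) r
    rw [diagonal_apply_eq, Pi.pow_apply, one_apply_eq] at this
    obtain ⟨a, ha, e'⟩ := h.prim.eq_pow_of_pow_eq_one this
    exact ⟨⟨a, ha⟩, e'.symm⟩
  choose a ha using hroot
  have hf : Function.Injective fun i => (a i 0, a i 1) := by
    intro i j e
    simp only [Prod.mk.injEq] at e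
    have hp : ∀ i, ((E i : G3) : M3) 0 0 * ((E i : G3) : M3) 1 1 * ((E i : G3) : M3) 2 2 = 1 := by
      intro i
      have := hdet i
      rw [hd i, det_diagonal, Fin.prod_univ_three] at this
      exact this
    have e0 : ((E i : G3) : M3) 0 0 = ((E j : G3) : M3) 0 0 := by rw [ha, ha, e.1]
    have e1 : ((E i : G3) : M3) 1 1 = ((E j : G3) : M3) 1 1 := by rw [ha, ha, e.2]
    have e2 : ((E i : G3) : M3) 2 2 = ((E j : G3) : M3) 2 2 := by
      have := (hp i).trans (hp j).symm
      rw [e0, e1] at this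
      refine mul_left_cancel₀ (fun z => ?_) this
      have := hp j
      rw [z, zero_mul] at this
      exact zero_ne_one this
    refine hinj (Subtype.ext (Units.ext ?_))
    rw [hd i, hd j]
    refine congrArg diagonal (funext fun r => ?_)
    fin_cases r
    · exact e0
    · exact e1
    · exact e2
  refine (Nat.card_le_card_of_injective _ hf).trans ?_
  simp

/-- The residue is not a projective linear group. -/
theorem not_psl {t : ↥(cenJ H)} (ht : t * t = 1) (Dd : Subgroup ↥(pB h2 H).range) [Dd.Normal]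
    (hW : (pB h2 H).rangeRestrict O.cW ∈ Dd) (hF : (pB h2 H).rangeRestrict O.cF ∈ Dd)
    (htD : (pB h2 H).rangeRestrict t ∉ Dd)
    (hdet : ∀ a ∈ Dd, (((a : ↥(pB h2 H).range) : G3) : M3).det = 1)
    {K : Type} [Field K] [Fintype K] (hodd : Odd (Fintype.card K))
    (ε : ↥Dd ≃* Matrix.ProjectiveSpecialLinearGroup (Fin 2) K) : False := by
  classical
  have hw1 : (⟨_, hW⟩ : ↥Dd) ≠ 1 := fun e => not_real O h2 hm 1 (by
    rw [show (pB h2 H).rangeRestrict O.cW = 1 from congrArg Subtype.val e]; simp)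
  set w : ↥Dd := ⟨_, hW⟩
  have hw7 : w ^ 7 = 1 := Subtype.ext (by
    show (pB h2 H).rangeRestrict O.cW ^ 7 = 1
    rw [← map_pow, O.cW_pow, map_one])
  -- conjugates of the diagonal element are not real
  have hnr : ∀ x : ↥Dd, IsConj w x → ∀ y : ↥(pB h2 H).range, y * (x : ↥(pB h2 H).range) * y⁻¹ ≠ (x : ↥(pB h2 H).range)⁻¹ := by
    intro x hx y e
    obtain ⟨d, rfl⟩ := isConj_iff.1 hx
    refine not_real O h2 hm ((d : ↥(pB h2 H).range)⁻¹ * y * d) ?_
    simp only [Subgroup.coe_mul, Subgroup.coe_inv, show (w : ↥(pB h2 H).range) = (pB h2 H).rangeRestrict O.cW from rfl] at e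
    calc (d : ↥(pB h2 H).range)⁻¹ * y * d * (pB h2 H).rangeRestrict O.cW * ((d : ↥(pB h2 H).range)⁻¹ * y * d)⁻¹
        = (d : ↥(pB h2 H).range)⁻¹ * (y * ((d : ↥(pB h2 H).range) * (pB h2 H).rangeRestrict O.cW *
            (d : ↥(pB h2 H).range)⁻¹) * y⁻¹) * d := by group
      _ = (d : ↥(pB h2 H).range)⁻¹ * ((d : ↥(pB h2 H).range) * (pB h2 H).rangeRestrict O.cW *
            (d : ↥(pB h2 H).range)⁻¹)⁻¹ * d := by rw [e]
      _ = _ := by group
  obtain ⟨g, hg⟩ := QuotientGroup.mk'_surjective _ (ε w)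
  by_cases htr : g.1.trace ^ 2 = 4
  swap
  · -- semisimple elements are real
    have e : (g⁻¹).1.trace = g.1.trace := by
      rw [show (g⁻¹).1 = g.1.adjugate from Matrix.SpecialLinearGroup.coe_inv g, Matrix.adjugate_fin_two, Matrix.trace_fin_two, Matrix.trace_fin_two]
      simp [add_comm]
    obtain ⟨c, hc⟩ := isConj_iff.1 (CfsgLib.PSL2Product.isConj_of_trace htr e)
    have hc' : QuotientGroup.mk' _ c * ε w * (QuotientGroup.mk' _ c)⁻¹ = (ε w)⁻¹ := by
      rw [← hg, ← map_inv, ← map_mul, ← map_mul, hc, map_inv]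
    refine hnr w (IsConj.refl w) ((ε.symm (QuotientGroup.mk' _ c) : ↥Dd) : ↥(pB h2 H).range) ?_
    have := congrArg (fun x => ((ε.symm x : ↥Dd) : ↥(pB h2 H).range)) hc'
    simpa using this
  -- unipotent elements
  obtain ⟨r, hr⟩ := CharP.exists K
  haveI : Fact r.Prime := ⟨CharP.char_is_prime K r⟩
  obtain ⟨n, -, hcard⟩ := FiniteField.card K r
  have hr2 : r ≠ 2 := fun e => by
    rw [hcard, e] at hodd
    exact (Nat.not_even_iff_odd.2 hodd) (Nat.even_pow.2 ⟨even_two, n.ne_zero⟩)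
  have h2K : (2 : K) ≠ 0 := Ring.two_ne_zero (by rw [ringChar.eq K r]; exact hr2)
  have hrw : (ε w) ^ r = 1 := by
    set s : K := g.1.trace / 2
    have hs : s * s = 1 := by
      simp only [s]
      field_simp
      linear_combination htr
    set N : Matrix (Fin 2) (Fin 2) K := g.1 - s • 1
    have hN : N * N = 0 := by
      have hd := g.2
      rw [Matrix.det_fin_two] at hd
      have ht2 : g.1.trace = 2 * s := by simp only [s]; field_simp
      rw [Matrix.trace_fin_two] at ht2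
      ext i j
      simp only [N, Matrix.mul_apply, Fin.sum_univ_two, Matrix.sub_apply, Matrix.smul_apply, Matrix.one_apply,
        smul_eq_mul, Matrix.zero_apply]
      fin_cases i <;> fin_cases j <;> simp <;> grind
    have hr3 : N ^ r = 0 := by
      obtain ⟨k, hk⟩ := Nat.exists_eq_add_of_le (Fact.out : r.Prime).two_le
      rw [hk, pow_add, pow_two, hN, Matrix.zero_mul]
    have hgr : (g ^ r).1 = (s ^ r) • (1 : Matrix (Fin 2) (Fin 2) K) := by
      rw [show (g ^ r).1 = g.1 ^ r from Matrix.SpecialLinearGroup.coe_pow g r, show g.1 = s • 1 + N by simp [N],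
        add_pow_char_of_commute r (by exact (Commute.one_left N).smul_left s), hr3, add_zero, smul_pow, one_pow]
    rw [← hg, ← map_pow, ← map_one (QuotientGroup.mk' (Subgroup.center (Matrix.SpecialLinearGroup (Fin 2) K))),
      PSL2.mk_eq_mk]
    have hsr : s ^ r = 1 ∨ s ^ r = -1 := by
      rcases mul_self_eq_one_iff.1 hs with e | e <;> rw [e]
      · exact Or.inl (one_pow r)
      · exact neg_one_pow_eq_or K r
    rcases hsr with e | e
    · exact Or.inl (by rw [hgr, e, one_smul]; rfl)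
    · exact Or.inr (by rw [hgr, e, neg_one_smul, neg_neg]; rfl)
  have hr7 : r = 7 := by
    have h7 : orderOf (ε w) = 7 := by
      haveI : Fact (Nat.Prime 7) := ⟨Nat.prime_seven⟩
      exact orderOf_eq_prime (by rw [← map_pow, hw7, map_one]) fun e => hw1 (ε.injective (by rw [e, map_one]))
    have := orderOf_dvd_of_pow_eq_one hrw
    rw [h7, Nat.prime_dvd_prime_iff_eq Nat.prime_seven Fact.out] at this
    exact this.symm
  subst hr7
  have hZ : IsPGroup 7 (Subgroup.zpowers (ε w)) := by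
    obtain ⟨j, -, hj⟩ := (Nat.dvd_prime_pow (Fact.out : Nat.Prime 7)).1
      (orderOf_dvd_of_pow_eq_one (n := 7 ^ 1) (by rw [pow_one]; exact hrw))
    exact IsPGroup.of_card (n := j) (by rw [Nat.card_zpowers, hj])
  obtain ⟨P, hP⟩ := hZ.exists_le_sylow
  obtain ⟨h, hh⟩ := MulAction.exists_smul_eq (Matrix.ProjectiveSpecialLinearGroup (Fin 2) K) P (PSL2.uSylow (F := K) 7)
  have hmem : h * ε w * h⁻¹ ∈ (PSL2.uHom : Multiplicative K →* _).range := by
    show h * ε w * h⁻¹ ∈ ((PSL2.uSylow (F := K) 7 : Sylow 7 _) : Subgroup _)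
    rw [← hh, Sylow.coe_subgroup_smul]
    exact ⟨_, hP (Subgroup.mem_zpowers _), rfl⟩
  obtain ⟨t0, ht0⟩ := hmem
  obtain ⟨s, rfl⟩ := Multiplicative.ofAdd.surjective t0
  set x : ↥Dd := ε.symm h * w * (ε.symm h)⁻¹
  have hx : IsConj w x := isConj_iff.2 ⟨_, rfl⟩
  have hεx : ε x = PSL2.uu s := by simp only [x, map_mul, map_inv, MulEquiv.apply_symm_apply]; exact ht0.symm
  have hs0 : s ≠ 0 := fun e => hw1 (ε.injective (by
    have hh' : h * ε w * h⁻¹ = 1 := by rw [← ht0, e, ofAdd_zero, map_one]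
    rw [map_one]
    simpa using hh'))
  have hxinv : ε x⁻¹ = PSL2.uu (-s) := by rw [map_inv, hεx, PSL2.uu, PSL2.uu, ← map_inv, ← ofAdd_neg]
  -- a square root of minus one
  by_cases hsq : IsSquare (-1 : K)
  · obtain ⟨a, ha⟩ := hsq
    have ha0 : a ≠ 0 := fun e => by rw [e, mul_zero] at ha; exact one_ne_zero (neg_eq_zero.1 ha)
    have e := PSL2.mk_diag_conj_u a ha0 s
    rw [show a ^ 2 * s = -s by rw [pow_two, ← ha, neg_one_mul], ← hεx, ← hxinv] at e
    refine hnr x hx ((ε.symm (PSL2.mk (PSL2.dSL a ha0)) : ↥Dd) : ↥(pB h2 H).range) ?_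
    have := congrArg (fun z => ((ε.symm z : ↥Dd) : ↥(pB h2 H).range)) e
    simpa using this
  have hmod : Fintype.card K % 4 = 3 := by
    by_contra h'
    exact hsq (FiniteField.isSquare_neg_one_iff.2 h')
  -- the field is prime
  have hn1 : (n : ℕ) = 1 := by
    by_contra hn1
    have hn3 : 3 ≤ (n : ℕ) := by
      by_contra hlt
      have : (n : ℕ) = 2 := by have := n.pos; omega
      rw [hcard, this] at hmod
      norm_num at hmod
    have hle := elementary_card O h2 hm
      (fun z : K => ((ε.symm (h⁻¹ * PSL2.uu z * h) : ↥Dd) : ↥(pB h2 H).range))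
      (fun z z' e => PSL2.uu_injective (by
        have e' := ε.symm.injective (Subtype.ext e : (_ : ↥Dd) = _)
        simpa using e'))
      (fun z => by
        have e : (h⁻¹ * PSL2.uu z * h) ^ 7 = 1 := by
          have := conj_pow (a := h⁻¹) (b := PSL2.uu z) (i := 7)
          rw [inv_inv] at this
          rw [this, PSL2.uu, ← map_pow, ← ofAdd_nsmul, nsmul_eq_mul, CharP.cast_eq_zero K 7, zero_mul,
            ofAdd_zero, map_one, mul_one, inv_mul_cancel]
        rw [← SubmonoidClass.coe_pow, ← map_pow, e, map_one]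
        rfl)
      (fun z => hdet _ (ε.symm _).2)
      (fun z => by
        have hwv : ε w = h⁻¹ * PSL2.uu s * h := by rw [← hεx]; simp only [x, map_mul, map_inv, MulEquiv.apply_symm_apply]; group
        have e : (h⁻¹ * PSL2.uu z * h) * ε w = ε w * (h⁻¹ * PSL2.uu z * h) := by
          rw [hwv, show h⁻¹ * PSL2.uu z * h * (h⁻¹ * PSL2.uu s * h) = h⁻¹ * (PSL2.uu z * PSL2.uu s) * h by group,
            show h⁻¹ * PSL2.uu s * h * (h⁻¹ * PSL2.uu z * h) = h⁻¹ * (PSL2.uu s * PSL2.uu z) * h by group,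
            PSL2.uu, PSL2.uu, ← map_mul PSL2.uHom, ← map_mul PSL2.uHom, mul_comm (Multiplicative.ofAdd z)]
        have := congrArg (fun z => ((ε.symm z : ↥Dd) : ↥(pB h2 H).range)) e
        simpa using this)
    rw [Nat.card_eq_fintype_card, hcard] at hle
    have : 7 ^ 3 ≤ 7 ^ (n : ℕ) := Nat.pow_le_pow_right (by norm_num) hn3
    omega
  have hK7 : Fintype.card K = 7 := by rw [hcard, hn1, pow_one]
  -- the outer involution
  set τ := (pB h2 H).rangeRestrict t
  set φ : MulAut (Matrix.ProjectiveSpecialLinearGroup (Fin 2) K) :=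
    (ε.symm.trans (MulAut.conjNormal τ)).trans ε with hφdef
  obtain ⟨gg, e, hφ⟩ := PSL2.exists_diag_field 7 φ
  have he : e = RingEquiv.refl K := by
    have hb : Function.Bijective (ZMod.castHom (dvd_refl 7) K) := by
      rw [Fintype.bijective_iff_injective_and_card]
      exact ⟨ZMod.castHom_injective K, by rw [ZMod.card, hK7]⟩
    ext z
    obtain ⟨m, rfl⟩ := hb.2 z
    exact RingHom.congr_fun (RingHom.ext_zmod (e.toRingHom.comp (ZMod.castHom (dvd_refl 7) K)) (ZMod.castHom (dvd_refl 7) K)) m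
  rw [he, PSL2.fieldAut_refl, mul_one] at hφ
  obtain ⟨c, A, hcA⟩ := PSL2.exists_dil_mul gg
  rw [hcA, map_mul, PSL2.diagAut_toGL] at hφ
  have hconjD : ∀ d : ↥Dd, ((ε.symm (φ (ε d)) : ↥Dd) : ↥(pB h2 H).range) = τ * (d : ↥(pB h2 H).range) * τ⁻¹ := by
    intro d
    simp [φ]
  by_cases hc : IsSquare (c : K)
  · -- an inner automorphism
    obtain ⟨a, ha⟩ := hc
    have ha0 : a ≠ 0 := fun e' => c.ne_zero (by rw [ha, e', mul_zero])
    obtain ⟨p1, hp1⟩ := (PSL2.dil_inner_iff c).2 ⟨Units.mk0 a ha0, Units.ext (by simp [ha, pow_two])⟩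
    rw [hp1, ← map_mul] at hφ
    set p0 : ↥Dd := ε.symm (p1 * PSL2.mk A)
    set y : ↥(pB h2 H).range := (p0 : ↥(pB h2 H).range)⁻¹ * τ with hy
    have hyc : ∀ d : ↥Dd, y * (d : ↥(pB h2 H).range) = (d : ↥(pB h2 H).range) * y := by
      intro d
      have e1 := hconjD d
      rw [hφ, MulAut.conj_apply, map_mul, map_mul, map_inv, MulEquiv.symm_apply_apply] at e1
      simp only [Subgroup.coe_mul, Subgroup.coe_inv] at e1
      change (p0 : ↥(pB h2 H).range) * (d : ↥(pB h2 H).range) * (p0 : ↥(pB h2 H).range)⁻¹ = _ at e1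
      calc y * (d : ↥(pB h2 H).range) = (p0 : ↥(pB h2 H).range)⁻¹ * (τ * d * τ⁻¹) * τ := by rw [hy]; group
        _ = (p0 : ↥(pB h2 H).range)⁻¹ * ((p0 : ↥(pB h2 H).range) * d * (p0 : ↥(pB h2 H).range)⁻¹) * τ := by rw [e1]
        _ = _ := by rw [hy]; group
    have hsc : IsScal ((y : G3) : M3) :=
      scalar_of_commute O h2 (congrArg Subtype.val (hyc ⟨_, hW⟩)) (congrArg Subtype.val (hyc ⟨_, hF⟩))
    have hy7 : y ^ 7 = 1 := Subtype.ext (image_scalar O h2 hm y.2 hsc).1
    have hpy : Commute (p0 : ↥(pB h2 H).range) y := (hyc p0).symm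
    have hτ : τ = (p0 : ↥(pB h2 H).range) * y := by rw [hy, mul_inv_cancel_left]
    have hτ2 : τ * τ = 1 := by rw [← map_mul, ht, map_one]
    refine htD ?_
    change τ ∈ Dd
    rw [show τ = τ ^ 7 by rw [pow_succ, show (6 : ℕ) = 2 * 3 from rfl, pow_mul, pow_two, hτ2, one_pow, one_mul],
      hτ, hpy.mul_pow, hy7, mul_one]
    exact pow_mem p0.2 7
  -- an outer automorphism inverts up to conjugacy
  have hr2' : ringChar K ≠ 2 := by rw [ringChar.eq K 7]; norm_num
  obtain ⟨a, ha⟩ : IsSquare (-(c : K)) := by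
    rw [← quadraticChar_one_iff_isSquare (neg_ne_zero.2 c.ne_zero), ← neg_one_mul, map_mul,
      quadraticChar_neg_one_iff_not_isSquare.2 hsq, quadraticChar_neg_one_iff_not_isSquare.2 hc]
    norm_num
  have ha0 : a ≠ 0 := fun e' => c.ne_zero (by rw [e', mul_zero] at ha; exact neg_eq_zero.1 ha)
  set x2 : ↥Dd := ε.symm ((PSL2.mk A)⁻¹ * PSL2.uu s * PSL2.mk A)
  have e1 : φ (ε x2) = PSL2.mk (PSL2.dSL a ha0) * ε x⁻¹ * (PSL2.mk (PSL2.dSL a ha0))⁻¹ := by
    rw [hxinv, PSL2.mk_diag_conj_u, hφ, MulAut.mul_apply, MulAut.conj_apply, MulEquiv.apply_symm_apply,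
      show PSL2.mk A * ((PSL2.mk A)⁻¹ * PSL2.uu s * PSL2.mk A) * (PSL2.mk A)⁻¹ = PSL2.uu s by group,
      PSL2.diagAut_dil_uu]
    congr 1
    linear_combination (-s) * ha
  have e2 := congrArg (fun z => ((ε.symm z : ↥Dd) : ↥(pB h2 H).range)) e1

  rw [hconjD] at e2
  simp only [map_mul, map_inv, MulEquiv.symm_apply_apply, Subgroup.coe_mul, Subgroup.coe_inv] at e2
  have e3 : (x2 : ↥(pB h2 H).range) = ((ε.symm (PSL2.mk A) : ↥Dd) : ↥(pB h2 H).range)⁻¹ * x *
      ((ε.symm (PSL2.mk A) : ↥Dd) : ↥(pB h2 H).range) := by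
    rw [← Subgroup.coe_inv, ← Subgroup.coe_mul, ← Subgroup.coe_mul]
    congr 1
    simp only [x2, ← hεx, map_mul, map_inv, MulEquiv.symm_apply_apply]
  set b : ↥(pB h2 H).range := ((ε.symm (PSL2.mk A) : ↥Dd) : ↥(pB h2 H).range)
  set d : ↥(pB h2 H).range := ((ε.symm (PSL2.mk (PSL2.dSL a ha0)) : ↥Dd) : ↥(pB h2 H).range)
  refine hnr x hx (d⁻¹ * τ * b⁻¹) ?_
  calc d⁻¹ * τ * b⁻¹ * (x : ↥(pB h2 H).range) * (d⁻¹ * τ * b⁻¹)⁻¹
      = d⁻¹ * (τ * (b⁻¹ * x * b) * τ⁻¹) * d := by group
    _ = d⁻¹ * (d * (x : ↥(pB h2 H).range)⁻¹ * d⁻¹) * d := by rw [← e3, e2]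
    _ = _ := by group

/-- The residue is not the alternating group of degree seven. -/
theorem not_alt (Dd : Subgroup ↥(pB h2 H).range)
    (hdet : ∀ a ∈ Dd, (((a : ↥(pB h2 H).range) : G3) : M3).det = 1)
    (ε : ↥Dd ≃* alternatingGroup (Fin 7)) : False := by
  set a0 : alternatingGroup (Fin 7) := ⟨Equiv.swap 0 1 * Equiv.swap 2 3, Equiv.Perm.mem_alternatingGroup.2 (by decide)⟩
  set s0 : alternatingGroup (Fin 7) := ⟨Equiv.swap 0 1 * Equiv.swap 1 2, Equiv.Perm.mem_alternatingGroup.2 (by decide)⟩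
  set y0 : alternatingGroup (Fin 7) := ⟨Equiv.swap 4 5 * Equiv.swap 5 6, Equiv.Perm.mem_alternatingGroup.2 (by decide)⟩
  set b0 := s0 * a0 * s0⁻¹
  let j : alternatingGroup (Fin 7) →* G3 :=
    ((pB h2 H).range.subtype.comp Dd.subtype).comp ε.symm.toMonoidHom
  have hj : Function.Injective j :=
    ((pB h2 H).range.subtype_injective.comp Dd.subtype_injective).comp ε.symm.injective
  have hjm : ∀ q, j q ∈ (pB h2 H).range := fun q => ((ε.symm q : ↥Dd) : ↥(pB h2 H).range).2
  have hne : ∀ q r : alternatingGroup (Fin 7), q ≠ r → j q ≠ j r := fun q r h e => h (hj e)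
  have hsc : IsScal ((j y0 : G3) : M3) := four_cycle h2 (cover O h2 hm).neg (hjm a0) (hjm b0)
    (by rw [← map_mul, show a0 * a0 = 1 by decide, map_one]) (by rw [← map_mul, show b0 * b0 = 1 by decide, map_one])
    (by rw [← map_mul, ← map_mul, show a0 * b0 = b0 * a0 by decide])
    (by rw [← map_one j]; exact hne _ _ (by decide)) (by rw [← map_one j]; exact hne _ _ (by decide))
    (hne _ _ (by decide)) (s := j s0)
    (by rw [← map_mul, ← map_mul, show s0 * a0 = b0 * s0 by decide])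
    (by rw [← map_mul, ← map_mul, ← map_mul, show s0 * b0 = a0 * b0 * s0 by decide])
    (by rw [← map_mul, ← map_mul, show y0 * a0 = a0 * y0 by decide])
    (by rw [← map_mul, ← map_mul, show y0 * b0 = b0 * y0 by decide])
    (by rw [← map_mul, ← map_mul, show y0 * s0 = s0 * y0 by decide])
  have h1 : j y0 = 1 := (image_scalar O h2 hm (hjm y0) hsc).2 (hdet _ (ε.symm y0).2)
  exact (by decide : y0 ≠ 1) (hj (by rw [h1, map_one]))

/-- The central involution is isolated. -/
theorem isolated : ∀ g ∈ H, Jg * (g * Jg * g⁻¹) = g * Jg * g⁻¹ * Jg → g * Jg * g⁻¹ = Jg := by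
  intro g hg hc
  by_contra hne
  classical
  haveI : Fact (Nat.Prime 2) := ⟨Nat.prime_two⟩
  haveI : Finite ↥(pB h2 H).range := Finite.of_surjective _ (pB h2 H).rangeRestrict_surjective
  obtain ⟨t, S, m, ht, ht1, htJ, hm2, eS⟩ := exists_bad O h2 hm hg hc hne
  obtain ⟨Dd, hn, hperf, ⟨S', n, hn2, eS'⟩, hW, hF, htD, hcore, hdet⟩ := exists_residue O h2 hm ht ht1 htJ hm2 eS
  haveI := hn
  haveI := hperf
  rcases Cfsg.Agent.S0483.result S' n hn2 eS' with ⟨K, _, _, hodd, -, ⟨e⟩⟩ | e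
  · exact not_psl O h2 hm ht Dd hW hF htD hdet hodd
      (((QuotientGroup.quotientBot).symm.trans (QuotientGroup.quotientMulEquivOfEq hcore.symm)).trans e)
  · obtain ⟨e⟩ := e
    exact not_alt O h2 hm Dd hdet
      (((QuotientGroup.quotientBot).symm.trans (QuotientGroup.quotientMulEquivOfEq hcore.symm)).trans e)

end CfsgLib.MaxSub.HeisSeven
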