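/-
The centraliser of the central involution in characteristic two: coordinates for the kernel.
-/
import Cfsg.Agent.Lib.MaxSub.HeisSeven.Blocks

set_option autoImplicit false
set_option linter.unusedSectionVars false
set_option maxHeartbeats 1600000

namespace CfsgLib.MaxSub.HeisSeven

open Matrix

variable {F : Type*} [Field F]

local notation "M7" => Matrix (Fin 7) (Fin 7) F
local notation "M3" => Matrix (Fin 3) (Fin 3) F
local notation "𝐁" => (Eb : Matrix (Fin 7) (Fin 3) F)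
local notation "𝐉" => (Jm : Matrix (Fin 7) (Fin 7) F)

/-- The fixed coordinate. -/
def E0 : Matrix (Fin 7) (Fin 1) F := Matrix.of fun i _ => if i = 0 then 1 else 0

/-- The selection of a representative of each plane. -/
def sel : Matrix (Fin 3) (Fin 7) F := Matrix.of fun r i => if i = pl r 0 then 1 else 0

/-- The action on the image of `J - 1`. -/
def a2 (g : Matrix (Fin 7) (Fin 7) F) : Matrix (Fin 3) (Fin 3) F :=
  (sel : Matrix (Fin 3) (Fin 7) F) * g * (Eb : Matrix (Fin 7) (Fin 3) F)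

/-- A unipotent element of the kernel by its coordinates. -/
def qm (u : Matrix (Fin 3) (Fin 1) F) (v : Matrix (Fin 1) (Fin 3) F) (S : Matrix (Fin 3) (Fin 3) F) :
    Matrix (Fin 7) (Fin 7) F :=
  1 + (Eb : Matrix (Fin 7) (Fin 3) F) * u * (E0 : Matrix (Fin 7) (Fin 1) F).transpose +
    (E0 : Matrix (Fin 7) (Fin 1) F) * v * (Eb : Matrix (Fin 7) (Fin 3) F).transpose +
    (Eb : Matrix (Fin 7) (Fin 3) F) * S * (Eb : Matrix (Fin 7) (Fin 3) F).transpose

local notation "𝐄" => (E0 : Matrix (Fin 7) (Fin 1) F)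
local notation "𝐬" => (sel : Matrix (Fin 3) (Fin 7) F)

theorem idx_cases : ∀ i : Fin 7, i = 0 ∨ ∃ r e, i = pl r e := by decide

theorem pl_ne_zero : ∀ r e, pl r e ≠ 0 := by decide

theorem pl_one : ∀ r, pl r 1 = -pl r 0 := by decide

theorem pl_zero : ∀ r, pl r 0 = -pl r 1 := by decide

theorem sel_E0 : (𝐬 * 𝐄 : Matrix (Fin 3) (Fin 1) F) = 0 := by
  ext r c
  rw [Matrix.mul_apply]
  refine Finset.sum_eq_zero fun i _ => ?_
  by_cases e : i = 0
  · subst e; simp [sel, (pl_ne_zero r 0).symm]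
  · simp [E0, e]

theorem E0_E0 : (𝐄.transpose * 𝐄 : Matrix (Fin 1) (Fin 1) F) = 1 := by
  ext r c
  simp [Matrix.mul_apply, E0, Matrix.one_apply, Subsingleton.elim r c]

theorem E0_Eb : (𝐄.transpose * 𝐁 : Matrix (Fin 1) (Fin 3) F) = 0 := by
  ext r c
  simp [Matrix.mul_apply, E0, Eb]
  fin_cases c <;> rfl

theorem E0_apply (j : Fin 7) (c : Fin 1) : (𝐄 : Matrix (Fin 7) (Fin 1) F) j c = if j = 0 then 1 else 0 := rfl

theorem sel_mul_apply {n : Type*} (M : Matrix (Fin 7) n F) (r : Fin 3) (c : n) : (𝐬 * M) r c = M (pl r 0) c := by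
  rw [Matrix.mul_apply, Finset.sum_eq_single (pl r 0)]
  · simp [sel]
  · intro b _ hb; simp [sel, hb]
  · simp

theorem mul_E0_apply {m : Type*} (M : Matrix m (Fin 7) F) (r : m) (c : Fin 1) : (M * 𝐄) r c = M r 0 := by
  rw [Matrix.mul_apply, Finset.sum_eq_single 0] <;> simp +contextual [E0]

section Two

variable [CharP F 2]

theorem Eb_apply_pl (r c : Fin 3) (e : Fin 2) : 𝐁 (pl r e) c = if r = c then 1 else 0 := by
  fin_cases r <;> fin_cases e <;> fin_cases c <;> simp [Eb, pl, CharTwo.neg_eq]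

theorem Eb_zero_apply (c : Fin 3) : 𝐁 0 c = 0 := by fin_cases c <;> rfl

theorem sel_Eb : (𝐬 * 𝐁 : M3) = 1 := by
  ext r c
  rw [sel_mul_apply, Eb_apply_pl, one_apply]

theorem Eb_Eb : (𝐁.transpose * 𝐁 : M3) = 0 := by
  ext r c
  fin_cases r <;> fin_cases c <;>
    simp [Matrix.mul_apply, Fin.sum_univ_seven, Eb, CharTwo.neg_eq, CharTwo.add_self_eq_zero]

theorem Eb_E0 : (𝐁.transpose * 𝐄 : Matrix (Fin 3) (Fin 1) F) = 0 := by
  have := congrArg Matrix.transpose (E0_Eb (F := F))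
  rwa [transpose_mul, transpose_transpose, transpose_zero] at this

theorem mul_Eb_pair (M : M7) (i : Fin 7) (c : Fin 3) : (M * 𝐁) i c = M i (pl c 0) + M i (pl c 1) := by
  rw [mul_Eb_apply, CharTwo.sub_eq_add]

theorem comm_apply {g : M7} (e : 𝐉 * g = g * 𝐉) (i j : Fin 7) : g (-i) j = g i (-j) := Jm_comm_apply e i j

theorem mul_Eb_a2 {g : M7} (e : 𝐉 * g = g * 𝐉) : g * 𝐁 = 𝐁 * a2 g := by
  ext i c
  have hrhs : ∀ r, (a2 g) r c = g (pl r 0) (pl c 0) + g (pl r 0) (pl c 1) := fun r => by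
    rw [a2, Matrix.mul_assoc, sel_mul_apply, mul_Eb_pair]
  rw [mul_Eb_pair, Matrix.mul_apply]
  rcases idx_cases i with rfl | ⟨r, s, rfl⟩
  · simp only [Eb_zero_apply, zero_mul, Finset.sum_const_zero]
    have := comm_apply e 0 (pl c 0)
    rw [neg_zero, ← pl_one] at this
    rw [← this, CharTwo.add_self_eq_zero]
  · rw [Finset.sum_eq_single r]
    · rw [Eb_apply_pl, if_pos rfl, one_mul, hrhs]
      have hs : s = 0 ∨ s = 1 := by revert s; decide
      rcases hs with rfl | rfl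
      · rfl
      · rw [pl_one r, comm_apply e, comm_apply e, ← pl_one c, ← pl_zero c, add_comm]
    · intro b _ hb; rw [Eb_apply_pl, if_neg hb.symm, zero_mul]
    · simp

theorem Eb_transpose_mul {g : M7} (e : 𝐉 * g = g * 𝐉) : 𝐁.transpose * g = a2 g * 𝐁.transpose := by
  have hJ : (𝐉).transpose = 𝐉 := by
    ext i j
    simp only [transpose_apply, Jm, of_apply]
    congr 1
    simp only [eq_iff_iff]
    exact ⟨fun h => by rw [h, neg_neg], fun h => by rw [h, neg_neg]⟩
  have e' : 𝐉 * g.transpose = g.transpose * 𝐉 := by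
    have := congrArg Matrix.transpose e
    rw [transpose_mul, transpose_mul, hJ] at this
    exact this.symm
  have ha : a2 g.transpose = (a2 g).transpose := by
    ext r c
    rw [transpose_apply, a2, a2, Matrix.mul_assoc, sel_mul_apply, mul_Eb_pair, Matrix.mul_assoc, sel_mul_apply,
      mul_Eb_pair, transpose_apply, transpose_apply]
    rw [pl_one c, comm_apply e, ← pl_one r]
  have := congrArg Matrix.transpose (mul_Eb_a2 e')
  rwa [transpose_mul, transpose_mul, transpose_transpose, ha, transpose_transpose] at this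

theorem a2_mul {g h : M7} (e : 𝐉 * h = h * 𝐉) : a2 (g * h) = a2 g * a2 h := by
  show 𝐬 * (g * h) * 𝐁 = 𝐬 * g * 𝐁 * a2 h
  rw [Matrix.mul_assoc (𝐬 * g), ← mul_Eb_a2 e]
  simp only [Matrix.mul_assoc]

theorem a2_one : a2 (1 : M7) = 1 := by rw [a2, Matrix.mul_one, sel_Eb]

theorem qm_zero : qm (0 : Matrix (Fin 3) (Fin 1) F) 0 0 = 1 := by simp [qm]

theorem qm_mul (u u' : Matrix (Fin 3) (Fin 1) F) (v v' : Matrix (Fin 1) (Fin 3) F) (S S' : M3) :
    qm u v S * qm u' v' S' = qm (u + u') (v + v') (S + S' + u * v') := by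
  have a1 : ∀ {n : Type} [Fintype n] (M : Matrix (Fin 3) n F), 𝐁.transpose * (𝐁 * M) = 0 := fun M => by
    rw [← Matrix.mul_assoc, Eb_Eb, Matrix.zero_mul]
  have a2' : ∀ {n : Type} [Fintype n] (M : Matrix (Fin 3) n F), 𝐄.transpose * (𝐁 * M) = 0 := fun M => by
    rw [← Matrix.mul_assoc, E0_Eb, Matrix.zero_mul]
  have a3 : ∀ {n : Type} [Fintype n] (M : Matrix (Fin 1) n F), 𝐁.transpose * (𝐄 * M) = 0 := fun M => by
    rw [← Matrix.mul_assoc, Eb_E0, Matrix.zero_mul]
  have a4 : ∀ {n : Type} [Fintype n] (M : Matrix (Fin 1) n F), 𝐄.transpose * (𝐄 * M) = M := fun M => by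
    rw [← Matrix.mul_assoc, E0_E0, Matrix.one_mul]
  simp only [qm, Matrix.add_mul, Matrix.mul_add, Matrix.one_mul, Matrix.mul_one, Matrix.mul_assoc, a1, a2', a3, a4,
    Matrix.mul_zero]
  abel

theorem qm_sq (u : Matrix (Fin 3) (Fin 1) F) (v : Matrix (Fin 1) (Fin 3) F) (S : M3) :
    qm u v S * qm u v S = qm 0 0 (u * v) := by
  rw [qm_mul]
  congr 1
  · ext i j; simp [CharTwo.add_self_eq_zero]
  · ext i j; simp [CharTwo.add_self_eq_zero]
  · ext i j; simp [CharTwo.add_self_eq_zero]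

theorem det_qm (u : Matrix (Fin 3) (Fin 1) F) (v : Matrix (Fin 1) (Fin 3) F) (S : M3) : (qm u v S).det = 1 := by
  have e : (qm u v S).det ^ 4 = 1 := by
    rw [show (4 : ℕ) = 2 * 2 from rfl, pow_mul, pow_two, pow_two, ← det_mul, ← det_mul, qm_sq, qm_mul]
    simp [CharTwo.add_self_eq_zero, show (u * v + u * v : M3) = 0 from by ext i j; simp [CharTwo.add_self_eq_zero],
      qm_zero]
  have h2 : (2 : F) = 0 := CharTwo.two_eq_zero
  have h : ((qm u v S).det - 1) ^ 4 = 0 := by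
    linear_combination e - ((qm u v S).det * (2 * (qm u v S).det ^ 2 - 3 * (qm u v S).det + 2) - 1) * h2
  exact sub_eq_zero.1 (pow_eq_zero_iff (by norm_num) |>.1 h)

theorem sel_qm_sel (u : Matrix (Fin 3) (Fin 1) F) (v : Matrix (Fin 1) (Fin 3) F) (S : M3) :
    𝐬 * (qm u v S - 1) * 𝐬.transpose = S ∧ 𝐬 * (qm u v S - 1) * 𝐄 = u ∧
      𝐄.transpose * (qm u v S - 1) * 𝐬.transpose = v := by
  have b1 : ∀ {n : Type} [Fintype n] (M : Matrix (Fin 3) n F), 𝐬 * (𝐁 * M) = M := fun M => by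
    rw [← Matrix.mul_assoc, sel_Eb, Matrix.one_mul]
  have b2 : ∀ {n : Type} [Fintype n] (M : Matrix (Fin 1) n F), 𝐬 * (𝐄 * M) = 0 := fun M => by
    rw [← Matrix.mul_assoc, sel_E0, Matrix.zero_mul]
  have b3 : ∀ {n : Type} [Fintype n] (M : Matrix (Fin 3) n F), 𝐄.transpose * (𝐁 * M) = 0 := fun M => by
    rw [← Matrix.mul_assoc, E0_Eb, Matrix.zero_mul]
  have b4 : ∀ {n : Type} [Fintype n] (M : Matrix (Fin 1) n F), 𝐄.transpose * (𝐄 * M) = M := fun M => by
    rw [← Matrix.mul_assoc, E0_E0, Matrix.one_mul]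
  have c1 : (𝐁.transpose * 𝐬.transpose : M3) = 1 := by rw [← transpose_mul, sel_Eb, transpose_one]
  have c2 : (𝐄.transpose * 𝐬.transpose : Matrix (Fin 1) (Fin 3) F) = 0 := by
    rw [← transpose_mul, sel_E0, transpose_zero]
  simp only [qm, add_assoc, add_sub_cancel_left]
  simp only [Matrix.add_mul, Matrix.mul_add, Matrix.mul_assoc, b1, b2, b3, b4, c1, c2, E0_E0, Eb_E0, Matrix.mul_zero,
    Matrix.mul_one, add_zero, zero_add]
  exact ⟨trivial, trivial, trivial⟩

theorem qm_inj {u u' : Matrix (Fin 3) (Fin 1) F} {v v' : Matrix (Fin 1) (Fin 3) F} {S S' : M3}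
    (e : qm u v S = qm u' v' S') : u = u' ∧ v = v' ∧ S = S' := by
  obtain ⟨a, b, c⟩ := sel_qm_sel u v S
  obtain ⟨a', b', c'⟩ := sel_qm_sel u' v' S'
  rw [e] at a b c
  exact ⟨b.symm.trans b', c.symm.trans c', a.symm.trans a'⟩

/-- Conjugation of coordinates by an element fixing the special coordinate. -/
theorem qm_conj {g g' : M7} (hg : 𝐉 * g = g * 𝐉) (hg' : 𝐉 * g' = g' * 𝐉) (h1 : g * g' = 1) (he : g * 𝐄 = 𝐄)
    (he' : 𝐄.transpose * g' = 𝐄.transpose) (u : Matrix (Fin 3) (Fin 1) F) (v : Matrix (Fin 1) (Fin 3) F) (S : M3) :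
    g * qm u v S * g' = qm (a2 g * u) (v * a2 g') (a2 g * S * a2 g') := by
  have t1 : g * (𝐁 * u * 𝐄.transpose) * g' = 𝐁 * (a2 g * u) * 𝐄.transpose := by
    rw [← Matrix.mul_assoc g, ← Matrix.mul_assoc g, mul_Eb_a2 hg, Matrix.mul_assoc _ 𝐄.transpose g', he']
    simp only [Matrix.mul_assoc]
  have t2 : g * (𝐄 * v * 𝐁.transpose) * g' = 𝐄 * (v * a2 g') * 𝐁.transpose := by
    rw [← Matrix.mul_assoc g, ← Matrix.mul_assoc g, he, Matrix.mul_assoc _ 𝐁.transpose g', Eb_transpose_mul hg']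
    simp only [Matrix.mul_assoc]
  have t3 : g * (𝐁 * S * 𝐁.transpose) * g' = 𝐁 * (a2 g * S * a2 g') * 𝐁.transpose := by
    rw [← Matrix.mul_assoc g, ← Matrix.mul_assoc g, mul_Eb_a2 hg, Matrix.mul_assoc _ 𝐁.transpose g',
      Eb_transpose_mul hg']
    simp only [Matrix.mul_assoc]
  rw [qm, qm, Matrix.mul_add, Matrix.mul_add, Matrix.mul_add, Matrix.mul_one, Matrix.add_mul, Matrix.add_mul,
    Matrix.add_mul, h1, t1, t2, t3]

/-- Conjugation of coordinates without row part. -/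
theorem qm_conj_col {g g' : M7} (hg : 𝐉 * g = g * 𝐉) (hg' : 𝐉 * g' = g' * 𝐉) (h1 : g * g' = 1)
    {c : Matrix (Fin 1) (Fin 1) F} {ρ : Matrix (Fin 1) (Fin 3) F}
    (he' : 𝐄.transpose * g' = c * 𝐄.transpose + ρ * 𝐁.transpose)
    (u : Matrix (Fin 3) (Fin 1) F) (S : M3) :
    g * qm u 0 S * g' = qm (a2 g * u * c) 0 (a2 g * S * a2 g' + a2 g * u * ρ) := by
  have t1 : g * (𝐁 * u * 𝐄.transpose) * g' =
      𝐁 * (a2 g * u * c) * 𝐄.transpose + 𝐁 * (a2 g * u * ρ) * 𝐁.transpose := by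
    rw [← Matrix.mul_assoc g, ← Matrix.mul_assoc g, mul_Eb_a2 hg, Matrix.mul_assoc _ 𝐄.transpose g', he',
      Matrix.mul_add]
    simp only [Matrix.mul_assoc]
  have t3 : g * (𝐁 * S * 𝐁.transpose) * g' = 𝐁 * (a2 g * S * a2 g') * 𝐁.transpose := by
    rw [← Matrix.mul_assoc g, ← Matrix.mul_assoc g, mul_Eb_a2 hg, Matrix.mul_assoc _ 𝐁.transpose g',
      Eb_transpose_mul hg']
    simp only [Matrix.mul_assoc]
  simp only [qm, Matrix.mul_zero, Matrix.zero_mul, add_zero]
  rw [Matrix.mul_add, Matrix.mul_add, Matrix.mul_one, Matrix.add_mul, Matrix.add_mul, h1, t1, t3, Matrix.mul_add 𝐁,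
    Matrix.add_mul]
  abel

/-- An element of determinant one acting trivially on the image of `J - 1` has coordinates. -/
theorem exists_qm {n : M7} (hn : 𝐉 * n = n * 𝐉) (ha : a2 n = 1) (hd : n.det = 1) :
    ∃ u v S, n = qm u v S := by
  have hB : n * 𝐁 = 𝐁 := by rw [mul_Eb_a2 hn, ha, Matrix.mul_one]
  have hpair : ∀ i c, n i (pl c 1) = n i (pl c 0) + 𝐁 i c := fun i c => by
    have e := congrFun (congrFun hB i) c
    rw [mul_Eb_pair] at e
    rw [← e, ← add_assoc, CharTwo.add_self_eq_zero, zero_add]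
  set c := n 0 0
  let u : Matrix (Fin 3) (Fin 1) F := Matrix.of fun r _ => n (pl r 0) 0
  let v : Matrix (Fin 1) (Fin 3) F := Matrix.of fun _ k => n 0 (pl k 0)
  let S : M3 := Matrix.of fun r k => n (pl r 0) (pl k 0) + (1 : M3) r k
  let D : M7 := Matrix.single 0 0 (c - 1)
  have hrow : ∀ r e j, n (pl r e) j = if e = 0 then n (pl r 0) j else n (pl r 0) (-j) := by
    intro r e j
    have : e = 0 ∨ e = 1 := by revert e; decide
    rcases this with rfl | rfl
    · simp
    · rw [if_neg (by decide), pl_one, comm_apply hn]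
  have eEb : ∀ (M : M3) r e k f, (𝐁 * M * 𝐁.transpose) (pl r e) (pl k f) = M r k := by
    intro M r e k f
    simp [Matrix.mul_apply, Eb_apply_pl, transpose_apply]
  have key : n = qm u v S + D := by
    ext i j
    simp only [qm, D, Matrix.add_apply]
    rcases idx_cases i with rfl | ⟨r, e, rfl⟩ <;> rcases idx_cases j with rfl | ⟨k, f, rfl⟩
    · simp [Matrix.mul_apply, E0_apply, Eb_zero_apply, transpose_apply, c]
    · have hv : n 0 (pl k f) = n 0 (pl k 0) := by
        have : f = 0 ∨ f = 1 := by revert f; decide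
        rcases this with rfl | rfl
        · rfl
        · rw [hpair, Eb_zero_apply, add_zero]
      rw [hv]
      simp [Matrix.mul_apply, E0_apply, Eb_zero_apply, Eb_apply_pl, transpose_apply, v, pl_ne_zero,
        (pl_ne_zero k f).symm, Matrix.single]
    · have hu : n (pl r e) 0 = n (pl r 0) 0 := by rw [hrow]; split_ifs <;> simp
      rw [hu]
      simp [Matrix.mul_apply, E0_apply, Eb_zero_apply, Eb_apply_pl, transpose_apply, u, pl_ne_zero,
        (pl_ne_zero r e).symm, Matrix.single]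
    · have hs : Matrix.single (0 : Fin 7) (0 : Fin 7) (c - 1) (pl r e) (pl k f) = 0 := by
        simp [Matrix.single, (pl_ne_zero r e).symm]
      rw [eEb, hs]
      simp only [Matrix.mul_apply, E0_apply, transpose_apply, pl_ne_zero, if_false, zero_mul, mul_zero,
        Finset.sum_const_zero, add_zero, S,
        of_apply]
      have inj : ∀ r e k f, pl r e = pl k f ↔ r = k ∧ e = f := by decide
      have he : e = 0 ∨ e = 1 := (by decide : ∀ e : Fin 2, e = 0 ∨ e = 1) e
      have hf : f = 0 ∨ f = 1 := (by decide : ∀ e : Fin 2, e = 0 ∨ e = 1) f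
      rw [hrow]
      rcases he with rfl | rfl <;> rcases hf with rfl | rfl
      · simp [one_apply, inj]; grind
      · rw [if_pos rfl, hpair, Eb_apply_pl]; simp [one_apply, inj]
      · rw [if_neg (by decide), ← pl_one, hpair, Eb_apply_pl]; simp [one_apply, inj]
      · rw [if_neg (by decide), ← pl_zero]; simp [one_apply, inj]; grind
  have hc : c ≠ 0 := by
    intro h0
    have e : n * (𝐄 + 𝐁 * u) = 0 := by
      rw [Matrix.mul_add, ← Matrix.mul_assoc, hB]
      ext i j
      rw [Matrix.add_apply, mul_E0_apply, Matrix.mul_apply, Matrix.zero_apply]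
      rcases idx_cases i with rfl | ⟨r, s, rfl⟩
      · simp [Eb_zero_apply, show n 0 0 = 0 from h0]
      · have hu : n (pl r s) 0 = n (pl r 0) 0 := by rw [hrow]; split_ifs <;> simp
        simp [Eb_apply_pl, u, hu, CharTwo.add_self_eq_zero]
    have hinv : IsUnit n := (Matrix.isUnit_iff_isUnit_det n).2 (by rw [hd]; exact isUnit_one)
    obtain ⟨w, hw⟩ := hinv
    have := congrArg (fun M => ((w⁻¹ : GL (Fin 7) F) : M7) * M) e
    simp only [← hw, Matrix.mul_zero, ← Matrix.mul_assoc, Units.inv_mul, Matrix.one_mul] at this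
    have := congrFun (congrFun this 0) 0
    simp [Matrix.add_apply, E0_apply, Matrix.mul_apply, Eb_zero_apply] at this
  have key2 : n = qm (c⁻¹ • u) v S * (1 + D) := by
    rw [key, Matrix.mul_add, Matrix.mul_one]
    have t : qm (c⁻¹ • u) v S * D = D + ((c - 1) * c⁻¹) • (𝐁 * u * 𝐄.transpose) := by
      have hD : D = (c - 1) • (𝐄 * 𝐄.transpose) := by
        ext i j
        simp [D, Matrix.single, Matrix.mul_apply, E0_apply, transpose_apply]
        grind
      rw [hD, qm]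
      simp only [Matrix.add_mul, Matrix.one_mul, Matrix.mul_smul, Matrix.smul_mul, Matrix.mul_assoc]
      simp only [← Matrix.mul_assoc 𝐄.transpose 𝐄, E0_E0, Matrix.one_mul, ← Matrix.mul_assoc 𝐁.transpose 𝐄,
        Eb_E0, Matrix.zero_mul, Matrix.mul_zero, smul_zero, add_zero, smul_smul, smul_add]
    rw [t]
    simp only [qm, Matrix.mul_smul, Matrix.smul_mul]
    match_scalars <;> field_simp <;> ring
  have hD1 : (1 + D).det = c := by
    have : (1 + D : M7) = diagonal fun i => if i = 0 then c else 1 := by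
      ext i j
      simp [D, Matrix.single, one_apply, diagonal_apply]
      grind
    rw [this, det_diagonal, Fin.prod_univ_seven]
    simp
  have hc1 : c = 1 := by
    have := congrArg Matrix.det key2
    rw [det_mul, det_qm, hD1, hd, one_mul] at this
    exact this.symm
  refine ⟨u, v, S, key.trans ?_⟩
  simp [D, hc1]

end Two

end CfsgLib.MaxSub.HeisSeven
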