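/-
A rational involution of the kernel gives the whole special linear group in characteristic two.
-/
import Cfsg.Agent.Lib.MaxSub.HeisSeven.Top

set_option autoImplicit false
set_option linter.unusedSectionVars false
set_option maxHeartbeats 1600000
set_option maxRecDepth 8000
set_option synthInstance.maxSize 2000

namespace CfsgLib.MaxSub.HeisSeven

open Matrix

local notation "R7" => Matrix (Fin 7) (Fin 7) (ZMod 2)

/-- A rational transvection by the supports of its centre and axis. -/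
def rtv (u φ : Finset (Fin 7)) : Matrix (Fin 7) (Fin 7) (ZMod 2) :=
  1 + Matrix.of fun i j => if i ∈ u ∧ j ∈ φ then 1 else 0

/-- The rational involution of the kernel. -/
def ratQ : Matrix (Fin 7) (Fin 7) (ZMod 2) :=
  !![1, 0, 0, 0, 0, 0, 0; 1, 1, 1, 0, 0, 1, 0; 1, 0, 1, 1, 1, 0, 0; 1, 1, 0, 1, 0, 0, 1; 1, 1, 0, 0, 1, 0, 1;
    1, 0, 0, 1, 1, 1, 0; 1, 0, 1, 0, 0, 1, 1]

/-- The first commutator. -/
def ratC : Matrix (Fin 7) (Fin 7) (ZMod 2) :=
  1 + !![1, 1, 0, 1, 1, 1, 0; 1, 1, 0, 0, 0, 0, 1; 0, 0, 1, 0, 0, 0, 1; 1, 1, 0, 0, 0, 0, 1; 0, 0, 0, 1, 1, 1, 1;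
    1, 1, 0, 1, 1, 1, 0; 0, 0, 1, 1, 1, 1, 0]

/-- The second commutator. -/
def ratE : Matrix (Fin 7) (Fin 7) (ZMod 2) :=
  1 + !![0, 0, 0, 1, 1, 1, 1; 0, 0, 1, 0, 0, 0, 1; 0, 0, 0, 1, 1, 1, 1; 0, 0, 1, 0, 0, 0, 1; 0, 0, 1, 1, 1, 1, 0;
    0, 0, 0, 1, 1, 1, 1; 0, 0, 1, 0, 0, 0, 1]

variable {F : Type*} [Field F] [CharP F 2]

local notation "M7" => Matrix (Fin 7) (Fin 7) F

/-- Base change from the prime field. -/
def ofRat (M : Matrix (Fin 7) (Fin 7) (ZMod 2)) : Matrix (Fin 7) (Fin 7) F :=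
  M.map (ZMod.castHom (dvd_refl 2) F)

variable (H : Subgroup (GL (Fin 7) F))

/-- The group contains a rational matrix. -/
def RMem (M : Matrix (Fin 7) (Fin 7) (ZMod 2)) : Prop := Mem H (ofRat M : Matrix (Fin 7) (Fin 7) F)

variable {H}

theorem rmem_mul {A B C : R7} (hA : RMem H A) (hB : RMem H B) (e : C = A * B) : RMem H C := by
  subst e
  unfold RMem ofRat
  rw [Matrix.map_mul]
  exact mem_mul hA hB

theorem rmem_comm {A B C : R7} (hA : RMem H A) (hB : RMem H B) (e : A * B = C * (B * A)) : RMem H C := by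
  refine mem_of_comm hA hB ?_
  unfold ofRat
  rw [← Matrix.map_mul, e, Matrix.map_mul, Matrix.map_mul]

variable {ω : F} (O : Over ω H)
include O

theorem rmem_shift (k : Fin 7) {A B : R7} (hA : RMem H A) (e : B = A.submatrix (fun i => i - k) fun j => j - k) : RMem H B :=
  mem_shifts O k hA fun i j => by subst e; rfl

theorem rmem_rot {A B : R7} (hA : RMem H A) (e : B = A.submatrix (fun i => 4 * i) fun j => 4 * j) : RMem H B :=
  mem_rot O hA fun i j => by subst e; rfl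

theorem rmem_flip {A B : R7} (hA : RMem H A) (e : B = A.submatrix (fun i => -i) fun j => -j) : RMem H B :=
  mem_flip O hA fun i j => by subst e; rfl

/-- The rational involution produces a transvection with a single coordinate as axis. -/
theorem rmem_pair (hq : RMem H ratQ) : RMem H (rtv {0, 1} {4}) := by
  have q1 : RMem H (Matrix.of fun i j => ratQ (i - 1) (j - 1)) := rmem_shift O 1 hq rfl
  have q4 : RMem H (Matrix.of fun i j => ratQ (i - 4) (j - 4)) := rmem_shift O 4 hq rfl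
  have hc : RMem H ratC := rmem_comm hq q1 (by decide)
  have he : RMem H ratE := rmem_comm hc hq (by decide)
  have t0 : RMem H (rtv {0, 2, 4, 5} {0, 1, 4}) := rmem_comm he q4 (by decide)
  have r0 : RMem H (rtv {0, 1, 3, 4} {0, 1, 2}) := rmem_rot O t0 (by decide)
  have r1 : RMem H (rtv {0, 1, 2, 6} {0, 2, 4}) := rmem_rot O r0 (by decide)
  have t1 : RMem H (rtv {2, 3, 4, 5} {0, 3, 5}) := rmem_shift O 3 r1 (by decide)
  have t2 : RMem H (rtv {0, 2, 4, 5} {0, 3, 5}) := rmem_comm t0 t1 (by decide)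
  have r2 : RMem H (rtv {0, 1, 3, 4} {0, 3, 6}) := rmem_rot O t2 (by decide)
  have t3 : RMem H (rtv {1, 2, 4, 5} {0, 1, 4}) := rmem_shift O 1 r2 (by decide)
  have t4 : RMem H (rtv {0, 1} {0, 1, 4}) := rmem_mul t0 t3 (by decide)
  have f0 : RMem H (rtv {0, 2, 3, 5} {0, 3, 6}) := rmem_flip O t0 (by decide)
  have t5 : RMem H (rtv {0, 2, 4, 5} {1, 2, 5}) := rmem_shift O 2 f0 (by decide)
  have t6 : RMem H (rtv {0, 2, 4, 5} {0, 2, 4, 5}) := rmem_mul t0 t5 (by decide)
  have t7 : RMem H (rtv {0, 1, 3, 4} {0, 1, 3, 4}) := rmem_rot O t6 (by decide)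
  have t8 : RMem H (rtv {0, 2, 4, 5} {0, 1, 3, 4}) := rmem_comm t0 t7 (by decide)
  have t9 : RMem H (rtv {0, 2, 4, 5} {3}) := rmem_mul t0 t8 (by decide)
  have t10 : RMem H (rtv {0, 2, 3, 5} {4}) := rmem_flip O t9 (by decide)
  exact rmem_comm t4 t10 (by decide)

omit [CharP F 2] in
theorem mem_tv_scaled {a b : F} (hm : Mem H ((1 : M7) + Matrix.single 0 4 a + Matrix.single 1 4 b)) (n : ℕ) :
    Mem H ((1 : M7) + Matrix.single 0 4 (ω ^ (3 * n) * a) + Matrix.single 1 4 (ω ^ (4 * n) * b)) := by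
  induction n with
  | zero => simpa using hm
  | succ n ih =>
    obtain ⟨x, hx, ex⟩ := O.hX
    refine mem_conj_of hx ih ?_
    rw [ex, Xm]
    ext i j
    rw [diagonal_mul, mul_diagonal]
    have h4 : ω ^ (3 * (n + 1)) = ω ^ (3 * n) * ω ^ 3 := by rw [← pow_add]; ring_nf
    have h5 : ω ^ (4 * (n + 1)) = ω ^ (4 * n) * ω ^ 4 := by rw [← pow_add]; ring_nf
    have h7 := O.root.pow_seven
    rw [h4, h5]
    fin_cases i <;> fin_cases j <;> simp (config := { decide := true }) [Matrix.single, one_apply] <;> grind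

omit O in
theorem rtv_ofRat : (ofRat (rtv {0, 1} {4}) : M7) = 1 + Matrix.single 0 4 1 + Matrix.single 1 4 1 := by
  ext i j
  fin_cases i <;> fin_cases j <;>
    simp (config := { decide := true }) [ofRat, rtv, Matrix.single, one_apply]

omit O [CharP F 2] in
theorem tv_add (a b a' b' : F) :
    ((1 : M7) + Matrix.single 0 4 a + Matrix.single 1 4 b) * ((1 : M7) + Matrix.single 0 4 a' + Matrix.single 1 4 b') =
      1 + Matrix.single 0 4 (a + a') + Matrix.single 1 4 (b + b') := by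
  simp only [Matrix.add_mul, Matrix.mul_add, Matrix.one_mul, Matrix.mul_one, Matrix.single_add]
  rw [Matrix.single_mul_single_of_ne _ _ _ _ (by decide) _, Matrix.single_mul_single_of_ne _ _ _ _ (by decide) _,
    Matrix.single_mul_single_of_ne _ _ _ _ (by decide) _, Matrix.single_mul_single_of_ne _ _ _ _ (by decide) _]
  abel

/-- The minimal polynomials of a seventh root of unity in characteristic two. -/
theorem root_cubic : ω ^ 3 + ω + 1 = 0 ∨ ω ^ 3 + ω ^ 2 + 1 = 0 := by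
  refine mul_eq_zero.1 ?_
  have h2 : (2 : F) = 0 := CharTwo.two_eq_zero
  linear_combination O.root.eq + ω ^ 3 * h2

/-- A rational involution of the kernel forces the whole special linear group. -/
theorem top_of_ratQ (hspan : Spans ω) (hq : RMem H ratQ) (s : Matrix.SpecialLinearGroup (Fin 7) F) :
    Matrix.SpecialLinearGroup.toGL s ∈ H := by
  have h := O.root
  have h2 : (2 : F) = 0 := CharTwo.two_eq_zero
  have h0 : Mem H ((1 : M7) + Matrix.single 0 4 1 + Matrix.single 1 4 1) := by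
    rw [← rtv_ofRat]; exact rmem_pair O hq
  have hn := fun n => mem_tv_scaled O h0 n
  have key : ∀ n m : ℕ, ω ^ (4 * n) + ω ^ (4 * m) + 1 = 0 → ω ^ (3 * n) + ω ^ (3 * m) + 1 ≠ 0 →
      Matrix.SpecialLinearGroup.toGL s ∈ H := by
    intro n m e4 e3
    have hp := mem_mul (mem_mul (hn n) (hn m)) h0
    rw [tv_add, tv_add] at hp
    simp only [mul_one, e4, Matrix.single_zero, add_zero] at hp
    refine top_of_elem O hspan (i₀ := 0) (j₀ := 4) (by decide) e3 ?_ s
    exact hp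
  have hsum : ∀ a b : ℕ, ω ^ a + ω ^ b + 1 = 0 → ω ^ (4 * a) + ω ^ (4 * b) + 1 = 0 := by
    intro a b e
    rw [mul_comm 4 a, mul_comm 4 b, pow_mul, pow_mul]
    linear_combination (ω ^ a + ω ^ b + 1) ^ 3 * e - (2 * ((ω ^ a) ^ 3 * ω ^ b + (ω ^ a) ^ 3) +
      3 * ((ω ^ a) ^ 2 * (ω ^ b + 1) ^ 2) + 2 * (ω ^ a * (ω ^ b + 1) ^ 3) +
      (2 * (ω ^ b) ^ 3 + 3 * (ω ^ b) ^ 2 + 2 * ω ^ b)) * h2
  have h7 := h.pow_seven
  rcases root_cubic O with e | e
  · refine key 1 3 (hsum 1 3 (by linear_combination e)) fun e3 => h.ne_one ?_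
    grind
  · refine key 2 3 (hsum 2 3 (by linear_combination e)) fun e3 => h.ne_one ?_
    grind

end CfsgLib.MaxSub.HeisSeven
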