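/-
The kernel of the action on the image of `J - 1` in characteristic two.
-/
import Cfsg.Agent.Lib.MaxSub.HeisSeven.TwoBlocks
import Cfsg.Agent.Lib.MaxSub.HeisSeven.TwoTop
import Cfsg.Agent.Lib.MaxSub.HeisSeven.Kernel

set_option autoImplicit false
set_option linter.unusedSectionVars false
set_option maxHeartbeats 1600000
set_option maxRecDepth 4000

namespace CfsgLib.MaxSub.HeisSeven

open Matrix

variable {F : Type*} [Field F] [CharP F 2]

local notation "M7" => Matrix (Fin 7) (Fin 7) F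
local notation "M3" => Matrix (Fin 3) (Fin 3) F
local notation "G7" => GL (Fin 7) F
local notation "U3" => Matrix (Fin 3) (Fin 1) F
local notation "V3" => Matrix (Fin 1) (Fin 3) F
local notation "𝐁" => (Eb : Matrix (Fin 7) (Fin 3) F)
local notation "𝐉" => (Jm : Matrix (Fin 7) (Fin 7) F)
local notation "𝐄" => (E0 : Matrix (Fin 7) (Fin 1) F)

/-- The Fourier element on the image of `J - 1`. -/
def fr (ω : F) : Matrix (Fin 3) (Fin 3) F :=
  Matrix.of fun r c => ω ^ ((pl r 0 : ℕ) * (pl c 0 : ℕ)) + ω ^ ((pl r 0 : ℕ) * (pl c 1 : ℕ))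

/-- The row of ones. -/
def rho (F : Type*) [Field F] : Matrix (Fin 1) (Fin 3) F := Matrix.of fun _ _ => 1

/-- The twisted column. -/
def twu (ω : F) (j : ℕ) (u : Matrix (Fin 3) (Fin 1) F) : Matrix (Fin 3) (Fin 1) F :=
  Matrix.of fun r c => ω ^ (wb r * j) * u r c

/-- The twisted row. -/
def twv (ω : F) (j : ℕ) (v : Matrix (Fin 1) (Fin 3) F) : Matrix (Fin 1) (Fin 3) F :=
  Matrix.of fun r c => ω ^ (6 * wb c * j) * v r c

/-- The twisted square block. -/
def twS (ω : F) (j : ℕ) (S : Matrix (Fin 3) (Fin 3) F) : Matrix (Fin 3) (Fin 3) F :=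
  Matrix.of fun r c => ω ^ ((wb r + 6 * wb c) * j) * S r c

/-- The class of a coordinate. -/
def cl : Fin 7 → Fin 4 := ![0, 1, 2, 3, 3, 2, 1]

theorem qm_apply (u : U3) (v : V3) (S : M3) (i j : Fin 7) :
    qm u v S i j = (if i = j then 1 else 0) +
      (!![0, v 0 0, v 0 1, v 0 2; u 0 0, S 0 0, S 0 1, S 0 2; u 1 0, S 1 0, S 1 1, S 1 2;
        u 2 0, S 2 0, S 2 1, S 2 2] : Matrix (Fin 4) (Fin 4) F) (cl i) (cl j) := by
  have hcl0 : cl 0 = 0 := rfl
  have hcl : ∀ r e, cl (pl r e) = r.succ := by decide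
  simp only [qm, Matrix.add_apply, one_apply, add_assoc]
  congr 1
  rcases idx_cases i with rfl | ⟨r, e, rfl⟩ <;> rcases idx_cases j with rfl | ⟨k, f, rfl⟩ <;>
    simp [Matrix.mul_apply, E0_apply, Eb_zero_apply, Eb_apply_pl, transpose_apply, pl_ne_zero, hcl0, hcl]
  · fin_cases k <;> simp
  · fin_cases r <;> simp
  · fin_cases r <;> fin_cases k <;> simp

section Values

variable {ω : F} (h : Root ω)
include h

theorem fcoef_two : fcoef ω = 1 := by
  have h2 : (2 : F) = 0 := CharTwo.two_eq_zero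
  have hg : ω + ω ^ 2 + ω ^ 4 - ω ^ 3 - ω ^ 5 - ω ^ 6 = 1 := by
    linear_combination h.eq - (ω ^ 3 + ω ^ 5 + ω ^ 6 + 1) * h2
  have hd : (Fz ω : M7).det = 1 := by
    rcases mul_self_eq_one_iff.1 (Fz_det_sq h) with e | e
    · exact e
    · rw [e, CharTwo.neg_eq]
  rw [fcoef, hd, hg, inv_one, mul_one]

theorem Fm_two : (Fm ω : M7) = Matrix.of fun i j : Fin 7 => ω ^ ((i : ℕ) * (j : ℕ)) := by
  rw [Fm_eq, fcoef_two h, one_smul]

theorem a2_Fm : a2 (Fm ω : M7) = fr ω := by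
  ext r c
  rw [a2, Matrix.mul_assoc, sel_mul_apply, mul_Eb_pair, Fm_two h]
  rfl

omit h in
theorem a2_Jm : a2 (𝐉 : M7) = 1 := by rw [a2, Matrix.mul_assoc, Jm_Eb, sel_Eb]

theorem fr_sq : fr ω * fr ω = 1 := by rw [← a2_Fm h, ← a2_mul (Fm_comm h), Fm_sq h, a2_Jm]

theorem a2_FJ : a2 (Fm ω * 𝐉 : M7) = fr ω := by rw [a2_mul rfl, a2_Jm, mul_one, a2_Fm h]

theorem E0_FJ : 𝐄.transpose * (Fm ω * 𝐉 : M7) = (1 : Matrix (Fin 1) (Fin 1) F) * 𝐄.transpose + rho F * 𝐁.transpose := by
  ext i j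
  rw [Matrix.one_mul, Matrix.add_apply, transpose_apply, Matrix.mul_apply, Finset.sum_eq_single 0]
  · rw [mul_Jm, Fm_two h, of_apply, transpose_apply, E0_apply, E0_apply, Matrix.mul_apply]
    simp only [Fin.val_zero, zero_mul, pow_zero, if_true, one_mul, rho, of_apply, transpose_apply]
    rcases idx_cases j with rfl | ⟨r, e, rfl⟩
    · simp [Eb_zero_apply, CharTwo.neg_eq]
    · simp [Eb_apply_pl, pl_ne_zero, CharTwo.neg_eq]
  · intro b _ hb; simp [E0_apply, hb, transpose_apply]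
  · simp

theorem a2_Wm_pow (j : ℕ) : a2 ((Wm ω : M7) ^ j) = diagonal fun r => ω ^ (wb r * j) := by
  ext r c
  rw [a2, Matrix.mul_assoc, sel_mul_apply, mul_Eb_pair, Wm, diagonal_pow]
  have h4 : ∀ n, ω ^ n = ω ^ (n % 7) := h.pow_mod
  simp only [diagonal_apply, Pi.pow_apply, ← pow_mul]
  have e1 : ∀ r c, pl r 0 = pl c 0 ↔ r = c := by decide
  have e2 : ∀ r c, pl r 0 ≠ pl c 1 := by decide
  have e3 : ∀ r, (pl r 0 : ℕ) ^ 2 % 7 = wb r % 7 := by decide
  rw [if_neg (e2 r c), add_zero]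
  by_cases e : r = c
  · subst e
    rw [if_pos rfl, if_pos rfl, h.pow_mod, Nat.mul_mod, e3, ← Nat.mul_mod, ← h.pow_mod]
  · rw [if_neg (fun x => e ((e1 r c).1 x)), if_neg e]

omit h in
theorem Wm_E0 (j : ℕ) : (Wm ω : M7) ^ j * 𝐄 = 𝐄 ∧ 𝐄.transpose * (Wm ω : M7) ^ j = 𝐄.transpose := by
  rw [Wm, diagonal_pow]
  constructor
  · ext i c
    rw [diagonal_mul, E0_apply]
    split_ifs with e
    · subst e; simp
    · simp
  · ext i c
    rw [mul_diagonal, transpose_apply, E0_apply]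
    split_ifs with e
    · subst e; simp
    · simp

theorem sv_ne (a b : ℕ) (hab : (a + b) % 7 = 0) (ha : a % 7 ≠ 0) :
    (ω ^ a + ω ^ b) * (ω ^ a + ω ^ b) ≠ 0 ∧ (ω ^ a + ω ^ b) * (ω ^ a + ω ^ b) ≠ 1 := by
  have h2 : (2 : F) = 0 := CharTwo.two_eq_zero
  have e1 : ω ^ a * ω ^ b = 1 := by rw [← pow_add, h.pow_mod, hab, pow_zero]
  refine ⟨fun e => ?_, fun e => ?_⟩
  · have e' := mul_self_eq_zero.1 e
    have : ω ^ a = ω ^ b := by rw [← CharTwo.neg_eq (ω ^ b)]; exact eq_neg_of_add_eq_zero_left e'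
    have := h.pow_inj this
    omega
  · have e' : ω ^ a + ω ^ b = 1 := by
      rcases mul_self_eq_one_iff.1 e with x | x
      · exact x
      · rw [x, CharTwo.neg_eq]
    have : ω ^ (a * 3) = 1 := by
      rw [pow_mul]
      linear_combination (ω ^ a + 1) * (ω ^ a * e' - e1) - h2
    have := h.pow_eq_one this
    omega

theorem fourier {ι : Type*} [Fintype ι] (e : ι → ℕ) (c : ι → F) {d : Fin 7 → F}
    (hd : ∀ j : Fin 7, ∑ x, c x * ω ^ (e x * (j : ℕ)) = d j) (m : ℕ) :
    ∑ j : Fin 7, ω ^ (m * (j : ℕ)) * d j = ∑ x, if 7 ∣ e x + m then c x else 0 := by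
  simp only [← hd, Finset.mul_sum]
  rw [Finset.sum_comm]
  refine Finset.sum_congr rfl fun x _ => ?_
  rw [show (∑ j : Fin 7, ω ^ (m * (j : ℕ)) * (c x * ω ^ (e x * (j : ℕ)))) = c x * ∑ j : Fin 7, ω ^ ((e x + m) * (j : ℕ)) by
    rw [Finset.mul_sum]; exact Finset.sum_congr rfl fun j _ => by rw [add_mul, pow_add]; ring, h.sum_pow]
  have h7 : (7 : F) = 1 := by
    have h2 : (2 : F) = 0 := CharTwo.two_eq_zero
    linear_combination 3 * h2
  split_ifs <;> simp [h7]

omit h in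
theorem fr_colsum (r : Fin 3) (hω : Root ω) : ∑ k, fr ω k r = 1 := by
  have h4 : ∀ n, ω ^ n = ω ^ (n % 7) := hω.pow_mod
  have h2 : (2 : F) = 0 := CharTwo.two_eq_zero
  rw [Fin.sum_univ_three]
  fin_cases r <;> simp [fr, pl, h4 8, h4 10, h4 12, h4 16, h4 20, h4 24] <;>
    linear_combination hω.eq - h2

end Values

variable {ω : F} {H : Subgroup (GL (Fin 7) F)} (O : Over ω H)
include O

omit [CharP F 2] in
theorem mem_W_pow (j : ℕ) : Mem H ((Wm ω : M7) ^ j) := by
  obtain ⟨w, hw, ew⟩ := O.hW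
  exact ⟨w ^ j, pow_mem hw j, by rw [Units.val_pow_eq_pow_val, ew]⟩

theorem mem_twist {u : U3} {v : V3} {S : M3} (hn : Mem H (qm u v S)) (j : ℕ) :
    Mem H (qm (twu ω j u) (twv ω j v) (twS ω j S)) := by
  have h := O.root
  have h1 : (Wm ω : M7) ^ j * Wm ω ^ (6 * j) = 1 := by
    rw [← pow_add, show j + 6 * j = 7 * j by ring, pow_mul, Wm_pow_seven h, one_pow]
  have hm := mem_mul (mem_mul (mem_W_pow O j) hn) (mem_W_pow O (6 * j))
  rw [qm_conj ((show Commute 𝐉 (Wm ω) from Jm_Wm h).pow_right j).eq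
    ((show Commute 𝐉 (Wm ω) from Jm_Wm h).pow_right (6 * j)).eq h1 (Wm_E0 j).1 (Wm_E0 (6 * j)).2,
    a2_Wm_pow h, a2_Wm_pow h] at hm
  convert hm using 2
  · ext r c; rw [diagonal_mul]; rfl
  · ext r c; rw [mul_diagonal, twv, of_apply, show wb c * (6 * j) = 6 * wb c * j by ring, mul_comm]
  · ext r c; rw [mul_diagonal, diagonal_mul, twS, of_apply, add_mul, pow_add, show wb c * (6 * j) = 6 * wb c * j by ring]
    ring

theorem mem_fourier {u : U3} {S : M3} (hn : Mem H (qm u 0 S)) :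
    Mem H (qm (fr ω * u) 0 (fr ω * S * fr ω + fr ω * u * rho F)) := by
  have h := O.root
  obtain ⟨f, hf, ef⟩ := O.hF
  have hFJ : Mem H (Fm ω * 𝐉) := ⟨f * Jg, mul_mem hf O.Jg_mem, by rw [Units.val_mul, ef, Jg_val]⟩
  have h1 : Fm ω * (Fm ω * 𝐉) = (1 : M7) := by rw [← Matrix.mul_assoc, Fm_sq h, Jm_sq]
  have hm := mem_mul (mem_mul ⟨f, hf, ef⟩ hn) hFJ
  rwa [qm_conj_col (Fm_comm h) (by rw [← Matrix.mul_assoc, Fm_comm h, Matrix.mul_assoc]) h1 (E0_FJ h),
    a2_Fm h, a2_FJ h, Matrix.mul_one] at hm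

/-- The product of the conjugates under `W` is the diagonal part. -/
theorem mem_diag {u : U3} {S : M3} (hn : Mem H (qm u 0 S)) : Mem H (qm 0 0 (diagonal fun r => S r r)) := by
  have h := O.root
  have key : ∀ k, Mem H (qm (∑ j ∈ Finset.range k, twu ω j u) 0 (∑ j ∈ Finset.range k, twS ω j S)) := by
    intro k
    induction k with
    | zero => exact ⟨1, one_mem H, by rw [Finset.range_zero, Finset.sum_empty, Finset.sum_empty, qm_zero, Units.val_one]⟩
    | succ k ih =>
      have := mem_mul ih (mem_twist O hn k)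
      rw [show twv ω k (0 : V3) = 0 by ext; simp [twv], qm_mul, add_zero, Matrix.mul_zero, add_zero] at this
      rwa [Finset.sum_range_succ, Finset.sum_range_succ]
  have hs : ∀ m : ℕ, ∑ j ∈ Finset.range 7, ω ^ (m * j) = if 7 ∣ m then 1 else 0 := by
    intro m
    rw [← Fin.sum_univ_eq_sum_range (fun j => ω ^ (m * j)) 7, h.sum_pow]
    have h2 : (2 : F) = 0 := CharTwo.two_eq_zero
    have h7 : (7 : F) = 1 := by linear_combination 3 * h2
    split_ifs <;> simp [h7]
  have hw : ∀ r : Fin 3, ¬ 7 ∣ wb r := by decide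
  have hw2 : ∀ r c : Fin 3, 7 ∣ wb r + 6 * wb c ↔ r = c := by decide
  convert key 7 using 2
  · ext r c
    simp only [Matrix.sum_apply, twu, of_apply, ← Finset.sum_mul, hs, if_neg (hw r), zero_mul, Matrix.zero_apply]
  · ext r c
    simp only [Matrix.sum_apply, twS, of_apply, ← Finset.sum_mul, hs, hw2, diagonal_apply]
    split_ifs with e
    · subst e; rw [one_mul]
    · rw [zero_mul]

theorem mem_J_mul {u : U3} {v : V3} {S : M3} (hn : Mem H (qm u v S)) : Mem H (qm u v (1 + S)) := by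
  have hJ : qm (0 : U3) 0 1 = (𝐉 : M7) := by
    ext i j
    fin_cases i <;> fin_cases j <;>
      simp (config := { decide := true }) [qm_apply, cl, Jm, one_apply, CharTwo.neg_eq, CharTwo.add_self_eq_zero]
  have := mem_mul ⟨Jg, O.Jg_mem, Jg_val⟩ hn
  rw [← hJ, qm_mul, zero_add, zero_add, Matrix.zero_mul, add_zero] at this
  exact this

section Q0

variable (hm : Mono ω H)
include hm

theorem diag_zero_one {d : Fin 3 → F} (hn : Mem H (qm 0 0 (diagonal d))) (k : Fin 3) : d k = 0 ∨ d k = 1 := by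
  obtain ⟨n, hnH, en⟩ := hn
  have hW : Wm ω * qm 0 0 (diagonal d) = qm 0 0 (diagonal d) * (Wm ω : M7) := by
    ext i j
    rw [Wm, diagonal_mul, mul_diagonal]
    fin_cases i <;> fin_cases j <;>
      simp (config := { decide := true }) [qm_apply, cl, diagonal_apply] <;>
      (try simp [O.root.pow_mod 36, O.root.pow_mod 25, O.root.pow_mod 16, O.root.pow_mod 9]) <;> ring
  have hJ : 𝐉 * qm 0 0 (diagonal d) = qm 0 0 (diagonal d) * 𝐉 := by
    ext i j
    rw [Jm_mul, mul_Jm]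
    fin_cases i <;> fin_cases j <;>
      simp (config := { decide := true }) [qm_apply, cl, diagonal_apply]
  have := hm n hnH (by rw [en]; exact hW) (by rw [en]; exact hJ) k
  rw [en, blk_apply, blk_apply] at this
  have e : (1 + d k) * d k = 0 := by
    refine Eq.trans ?_ this
    fin_cases k <;>
      simp (config := { decide := true }) [qm_apply, cl, diagonal_apply, pl, CharTwo.neg_eq]
  rcases mul_eq_zero.1 e with e | e
  · right; rw [← CharTwo.neg_eq (d k)]; exact (eq_neg_of_add_eq_zero_left e).symm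
  · exact Or.inl e

theorem diag_const {d : Fin 3 → F} (hn : Mem H (qm 0 0 (diagonal d))) :
    diagonal d = (0 : M3) ∨ diagonal d = (1 : M3) := by
  have h := O.root
  have hsingle : ∀ k : Fin 3, ∀ {e : Fin 3 → F}, e = Pi.single k 1 → ¬ Mem H (qm 0 0 (diagonal e)) := by
    intro k e he hn
    have h1 := mem_diag O (mem_fourier O hn)
    have := diag_zero_one O hm h1 0
    have e2 : (fr ω * diagonal e * fr ω + fr ω * (0 : U3) * rho F) 0 0 = fr ω 0 k * fr ω k 0 := by
      rw [Matrix.mul_zero, Matrix.zero_mul, add_zero, Matrix.mul_apply, Finset.sum_eq_single k]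
      · rw [mul_diagonal, he, Pi.single_eq_same, mul_one]
      · intro b _ hb; rw [mul_diagonal, he, Pi.single_eq_of_ne hb, mul_zero, zero_mul]
      · simp
    rw [e2] at this
    have hsym : fr ω k 0 = fr ω 0 k := by
      have h4 : ∀ n, ω ^ n = ω ^ (n % 7) := h.pow_mod
      fin_cases k <;> simp [fr, pl, h4 12, h4 24, add_comm, mul_comm]
    rw [hsym] at this
    have hab : ∀ k : Fin 3, ((pl 0 0 : ℕ) * (pl k 0 : ℕ) + (pl 0 0 : ℕ) * (pl k 1 : ℕ)) % 7 = 0 ∧
        (pl 0 0 : ℕ) * (pl k 0 : ℕ) % 7 ≠ 0 := by decide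
    have := sv_ne h _ _ (hab k).1 (hab k).2
    simp only [fr, of_apply] at *
    tauto
  have hJd : Mem H (qm 0 0 (diagonal fun r => 1 + d r)) := by
    have := mem_J_mul O hn
    rwa [← diagonal_one, diagonal_add] at this
  have h2 : (1 : F) + 1 = 0 := CharTwo.add_self_eq_zero 1
  rcases diag_zero_one O hm hn 0 with a | a <;> rcases diag_zero_one O hm hn 1 with b | b <;>
    rcases diag_zero_one O hm hn 2 with c | c
  · left; rw [← diagonal_zero]; congr 1; funext r; fin_cases r <;> assumption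
  · exact absurd hn (hsingle 2 (by funext r; fin_cases r <;> simp [a, b, c]))
  · exact absurd hn (hsingle 1 (by funext r; fin_cases r <;> simp [a, b, c]))
  · exact absurd hJd (hsingle 0 (by funext r; fin_cases r <;> simp [a, b, c, h2]))
  · exact absurd hn (hsingle 0 (by funext r; fin_cases r <;> simp [a, b, c]))
  · exact absurd hJd (hsingle 1 (by funext r; fin_cases r <;> simp [a, b, c, h2]))
  · exact absurd hJd (hsingle 2 (by funext r; fin_cases r <;> simp [a, b, c, h2]))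
  · right; rw [← diagonal_one]; congr 1; funext r; fin_cases r <;> assumption

/-- The kernel elements with only a square block are `1` and `J`. -/
theorem square_block {S : M3} (hn : Mem H (qm 0 0 S)) : S = 0 ∨ S = 1 := by
  have h := O.root
  have hd := diag_const O hm (mem_diag O hn)
  obtain ⟨ε, hε⟩ : ∃ ε : F, ∀ r, S r r = ε := by
    rcases hd with e | e
    · exact ⟨0, fun r => by have := congrFun (congrFun e r) r; simpa using this⟩
    · exact ⟨1, fun r => by have := congrFun (congrFun e r) r; simpa using this⟩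
  have h3 : (3 : F) = 1 := by linear_combination (CharTwo.two_eq_zero : (2 : F) = 0)
  have hrow : ∀ r, ∀ j : Fin 7, ∑ x : Fin 3 × Fin 3,
      fr ω r x.1 * S x.1 x.2 * fr ω x.2 r * ω ^ ((wb x.1 + 6 * wb x.2) * (j : ℕ)) = ε := by
    intro r j
    have h1 := mem_twist O hn (j : ℕ)
    rw [show twu ω (j : ℕ) (0 : U3) = 0 by ext; simp [twu], show twv ω (j : ℕ) (0 : V3) = 0 by ext; simp [twv]] at h1
    have h4 := mem_fourier O h1
    rw [Matrix.mul_zero, Matrix.zero_mul, add_zero] at h4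
    set X := fr ω * twS ω j S * fr ω with hX
    obtain ⟨δ, hδ⟩ : ∃ δ : F, ∀ r, X r r = δ := by
      rcases diag_const O hm (mem_diag O h4) with e | e
      · exact ⟨0, fun r => by have := congrFun (congrFun e r) r; simpa using this⟩
      · exact ⟨1, fun r => by have := congrFun (congrFun e r) r; simpa using this⟩
    have ht : X.trace = (twS ω (j : ℕ) S).trace := by
      rw [hX, Matrix.trace_mul_cycle, fr_sq h, Matrix.one_mul]
    have h7 : ∀ k, twS ω (j : ℕ) S k k = ε := fun k => by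
      rw [twS, of_apply, hε, show (wb k + 6 * wb k) * (j : ℕ) = 7 * (wb k * j) by ring, pow_mul, h.pow_seven, one_pow,
        one_mul]
    rw [Matrix.trace_fin_three, Matrix.trace_fin_three, hδ, hδ, hδ, h7, h7, h7,
      show δ + δ + δ = 3 * δ by ring, show ε + ε + ε = 3 * ε by ring, h3, one_mul, one_mul] at ht
    rw [← ht, ← hδ r, hX, Matrix.mul_apply, Fintype.sum_prod_type, Finset.sum_comm]
    refine Finset.sum_congr rfl fun l _ => ?_
    rw [Matrix.mul_apply, Finset.sum_mul]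
    refine Finset.sum_congr rfl fun k _ => ?_
    rw [twS, of_apply]
    ring
  have hoff : ∀ k l, k ≠ l → S k l = 0 := by
    intro k l hkl
    have hu : ∀ k l k' l' : Fin 3, k ≠ l → (7 ∣ wb k' + 6 * wb l' + (wb l + 6 * wb k) ↔ (k' = k ∧ l' = l)) := by decide
    have hnm : ¬ 7 ∣ wb l + 6 * wb k := fun hd =>
      hkl ((by decide : ∀ a b : Fin 3, 7 ∣ wb b + 6 * wb a → a = b) k l hd)
    have hF := fourier h (fun x : Fin 3 × Fin 3 => wb x.1 + 6 * wb x.2)
      (fun x => fr ω k x.1 * S x.1 x.2 * fr ω x.2 k) (d := fun _ => ε) (hrow k) (wb l + 6 * wb k)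
    rw [← Finset.sum_mul, h.sum_pow, if_neg hnm, zero_mul, Finset.sum_eq_single (k, l)] at hF
    · rw [if_pos ((hu k l k l hkl).2 ⟨rfl, rfl⟩)] at hF
      have hne : ∀ r c, fr ω r c ≠ 0 := fun r c e => by
        have hab : ∀ r c : Fin 3, ((pl r 0 : ℕ) * (pl c 0 : ℕ) + (pl r 0 : ℕ) * (pl c 1 : ℕ)) % 7 = 0 ∧
            (pl r 0 : ℕ) * (pl c 0 : ℕ) % 7 ≠ 0 := by decide
        refine (sv_ne h _ _ (hab r c).1 (hab r c).2).1 ?_
        rw [fr, of_apply] at e
        rw [e, mul_zero]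
      simpa [hne] using hF.symm
    · intro b _ hb
      rw [if_neg fun hd => hb (Prod.ext ((hu k l b.1 b.2 hkl).1 hd).1 ((hu k l b.1 b.2 hkl).1 hd).2)]
    · simp
  have hS : S = diagonal fun r => S r r := by
    ext r c
    by_cases e : r = c
    · subst e; simp
    · rw [diagonal_apply_ne _ e]; exact hoff r c e
  rwa [hS]

end Q0

section Column

variable [Fintype F] (hcard : Fintype.card F = 8) (hspan : Spans ω)
  (hQ0 : ∀ S, Mem H (qm (0 : Matrix (Fin 3) (Fin 1) F) 0 S) → S = 0 ∨ S = 1)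
include hcard hspan hQ0

/-- A kernel element with nontrivial column part gives everything. -/
theorem top_of_column {u : U3} {S : M3} (hn : Mem H (qm u 0 S)) (hu : u ≠ 0)
    (s : Matrix.SpecialLinearGroup (Fin 7) F) : Matrix.SpecialLinearGroup.toGL s ∈ H := by
  have h := O.root
  have h2 : (2 : F) = 0 := CharTwo.two_eq_zero
  -- trivial diagonal
  obtain ⟨S0, hn0, hd0⟩ : ∃ S0, Mem H (qm u 0 S0) ∧ ∀ r, S0 r r = 0 := by
    rcases hQ0 _ (mem_diag O hn) with e | e
    · exact ⟨S, hn, fun r => by have := congrFun (congrFun e r) r; simpa using this⟩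
    · refine ⟨1 + S, mem_J_mul O hn, fun r => ?_⟩
      have := congrFun (congrFun e r) r
      simp at this
      simp [this, CharTwo.add_self_eq_zero]
  have conds : ∀ {u : U3} {S : M3}, Mem H (qm u 0 S) → (∀ r, S r r = 0) →
      (∀ j : Fin 7, (∑ k, u k 0 * ω ^ (wb k * (j : ℕ))) * (∑ k, u k 0 * ω ^ (wb k * (j : ℕ))) =
        ∑ k, u k 0 * ω ^ (wb k * (j : ℕ))) ∧
      ∀ r, ∀ j : Fin 7, (∑ x : Fin 3 × Fin 3, fr ω r x.1 * S x.1 x.2 * fr ω x.2 r *
        ω ^ ((wb x.1 + 6 * wb x.2) * (j : ℕ))) + (∑ k, fr ω r k * u k 0 * ω ^ (wb k * (j : ℕ))) =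
          ∑ k, u k 0 * ω ^ (wb k * (j : ℕ)) := by
    intro u S hn hd
    have key : ∀ j : Fin 7, ∃ δ : F, δ * δ = δ ∧ δ = ∑ k, u k 0 * ω ^ (wb k * (j : ℕ)) ∧
        ∀ r, (fr ω * twS ω j S * fr ω + fr ω * twu ω j u * rho F) r r = δ := by
      intro j
      have h1 := mem_twist O hn (j : ℕ)
      rw [show twv ω (j : ℕ) (0 : V3) = 0 by ext; simp [twv]] at h1
      have hX := hQ0 _ (mem_diag O (mem_fourier O h1))
      set X := fr ω * twS ω j S * fr ω + fr ω * twu ω j u * rho F with hXdef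
      obtain ⟨δ, hδ2, hδ⟩ : ∃ δ : F, δ * δ = δ ∧ ∀ r, X r r = δ := by
        rcases hX with e | e
        · exact ⟨0, mul_zero 0, fun r => by have := congrFun (congrFun e r) r; simpa using this⟩
        · exact ⟨1, mul_one 1, fun r => by have := congrFun (congrFun e r) r; simpa using this⟩
      refine ⟨δ, hδ2, ?_, hδ⟩
      have ht : X.trace = ∑ k, u k 0 * ω ^ (wb k * (j : ℕ)) := by
        rw [hXdef, trace_add, Matrix.trace_mul_cycle, fr_sq h, Matrix.one_mul, Matrix.trace_fin_three]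
        simp only [twS, of_apply, hd, mul_zero, add_zero, zero_add]
        rw [Matrix.trace_mul_comm, ← Matrix.mul_assoc, Matrix.trace, Fin.sum_univ_one, diag_apply, Matrix.mul_apply]
        refine Finset.sum_congr rfl fun k _ => ?_
        rw [Matrix.mul_apply, show ∑ l, rho F 0 l * fr ω l k = ∑ l, fr ω l k from
          Finset.sum_congr rfl fun l _ => by rw [rho, of_apply, one_mul], fr_colsum k h, one_mul, twu, of_apply, mul_comm]
      rw [Matrix.trace_fin_three, hδ, hδ, hδ] at ht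
      rw [← ht]
      linear_combination -δ * h2
    refine ⟨fun j => ?_, fun r j => ?_⟩
    · obtain ⟨δ, hδ2, hδ, -⟩ := key j
      rw [← hδ]; exact hδ2
    · obtain ⟨δ, -, hδ, hX⟩ := key j
      rw [← hδ, ← hX r, Matrix.add_apply]
      congr 1
      · rw [Matrix.mul_apply, Fintype.sum_prod_type, Finset.sum_comm]
        refine Finset.sum_congr rfl fun l _ => ?_
        rw [Matrix.mul_apply, Finset.sum_mul]
        refine Finset.sum_congr rfl fun k _ => ?_
        rw [twS, of_apply]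
        ring
      · rw [Matrix.mul_apply, Fin.sum_univ_one, rho, of_apply, mul_one, Matrix.mul_apply]
        refine Finset.sum_congr rfl fun k _ => ?_
        rw [twu, of_apply]
        ring
  -- the column is rational
  have hrat : ∀ {u : U3}, (∀ j : Fin 7, (∑ k, u k 0 * ω ^ (wb k * (j : ℕ))) * (∑ k, u k 0 * ω ^ (wb k * (j : ℕ))) =
      ∑ k, u k 0 * ω ^ (wb k * (j : ℕ))) → u 0 0 = u 1 0 * u 1 0 ∧ u 2 0 = u 0 0 * u 0 0 ∧ u 1 0 = u 2 0 * u 2 0 := by
    intro u hu
    have e1 : ∀ j : Fin 7, ∑ k, (u k 0 * u k 0) * ω ^ (2 * wb k * (j : ℕ)) =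
        ∑ k, u k 0 * ω ^ (wb k * (j : ℕ)) := by
      intro j
      rw [← hu j, CharTwo.sum_mul_self]
      exact Finset.sum_congr rfl fun k _ => by rw [show 2 * wb k * (j : ℕ) = wb k * j + wb k * j by ring, pow_add]; ring
    have hA := fun m => (fourier h (fun k => 2 * wb k) (fun k => u k 0 * u k 0) (fun j => e1 j) m).symm.trans
      (fourier h wb (fun k => u k 0) (fun _ => rfl) m)
    have a := hA 6
    have b := hA 5
    have c := hA 3
    simp (config := { decide := true }) [Fin.sum_univ_three, wb] at a b c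
    exact ⟨a.symm, b.symm, c.symm⟩
  obtain ⟨p1, p2, p3⟩ := hrat (conds hn0 hd0).1
  have hu0 : u 0 0 ≠ 0 := fun e => hu (by
    ext r c
    obtain rfl : c = 0 := Subsingleton.elim _ _
    fin_cases r
    · exact e
    · show u 1 0 = 0
      rw [p3, p2, e]; ring
    · show u 2 0 = 0
      rw [p2, e]; ring)
  obtain ⟨n, hn7, hn'⟩ := h.prim.eq_pow_of_pow_eq_one (show (u 0 0) ^ 7 = 1 by
    have := FiniteField.pow_card_sub_one_eq_one (u 0 0) hu0
    rwa [hcard] at this)
  -- normalise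
  have hn1 := mem_twist O hn0 (7 - n)
  rw [show twv ω (7 - n) (0 : V3) = 0 by ext; simp [twv]] at hn1
  set u1 := twu ω (7 - n) u
  set S1 := twS ω (7 - n) S0
  have hd1 : ∀ r, S1 r r = 0 := fun r => by simp [S1, twS, hd0]
  obtain ⟨hsq, hrow⟩ := conds hn1 hd1
  obtain ⟨q1, q2, q3⟩ := hrat hsq
  have v0 : u1 0 0 = 1 := by
    show ω ^ (wb 0 * (7 - n)) * u 0 0 = 1
    rw [← hn', ← pow_add, show wb 0 * (7 - n) + n = 7 by simp [wb]; omega, h.pow_seven]
  have v2 : u1 2 0 = 1 := by rw [q2, v0, mul_one]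
  have v1 : u1 1 0 = 1 := by rw [q3, v2, mul_one]
  have hC : ∀ r m, (∑ x : Fin 3 × Fin 3, if 7 ∣ wb x.1 + 6 * wb x.2 + m then fr ω r x.1 * S1 x.1 x.2 * fr ω x.2 r else 0) +
      (∑ k, if 7 ∣ wb k + m then fr ω r k * u1 k 0 else 0) = ∑ k, if 7 ∣ wb k + m then u1 k 0 else 0 := by
    intro r m
    rw [← fourier h (fun x : Fin 3 × Fin 3 => wb x.1 + 6 * wb x.2)
        (fun x => fr ω r x.1 * S1 x.1 x.2 * fr ω x.2 r) (fun _ => rfl) m,
      ← fourier h wb (fun k => fr ω r k * u1 k 0) (fun _ => rfl) m,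
      ← fourier h wb (fun k => u1 k 0) (fun _ => rfl) m, ← Finset.sum_add_distrib]
    exact Finset.sum_congr rfl fun j _ => by rw [← mul_add, hrow r j]
  have hab : ∀ r c : Fin 3, ((pl r 0 : ℕ) * (pl c 0 : ℕ) + (pl r 0 : ℕ) * (pl c 1 : ℕ)) % 7 = 0 ∧
      (pl r 0 : ℕ) * (pl c 0 : ℕ) % 7 ≠ 0 := by decide
  have hne : ∀ r c, fr ω r c ≠ 0 := fun r c e => (sv_ne h _ _ (hab r c).1 (hab r c).2).1 (by
    rw [fr, of_apply] at e
    rw [e, mul_zero])
  have z02 := hC 0 1
  have z21 := hC 0 2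
  have z10 := hC 0 4
  have o20 := hC 0 6
  have o12 := hC 1 5
  have o01 := hC 2 3
  simp (config := { decide := true }) [Fintype.sum_prod_type, Fin.sum_univ_three, wb, v0, v1, v2, hne]
    at z02 z21 z10 o20 o12 o01
  have h4 : ∀ n, ω ^ n = ω ^ (n % 7) := h.pow_mod
  have key : (ω ^ 4 + ω ^ 3) * (ω + ω ^ 6) = 1 + (ω + ω ^ 6) := by
    linear_combination h.eq + (ω ^ 3 + ω ^ 2) * h.pow_seven - (1 + ω + ω ^ 6) * h2
  have nz : (1 + (ω + ω ^ 6)) ≠ 0 := fun e => by
    rw [← key] at e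
    have a := hne 0 0
    have b := hne 0 2
    simp [fr, pl] at a b
    rcases mul_eq_zero.1 e with e | e
    · exact b e
    · exact a e
  have w20 : S1 2 0 = 1 := by
    simp [fr, pl] at o20
    refine mul_left_cancel₀ nz ?_
    linear_combination o20 - S1 2 0 * key - (ω + ω ^ 6) * h2
  have w12 : S1 1 2 = 1 := by
    simp [fr, pl, h4 8, h4 10, h4 12, h4 16, h4 20, h4 24] at o12
    refine mul_left_cancel₀ nz ?_
    linear_combination o12 - S1 1 2 * key - (ω + ω ^ 6) * h2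
  have w01 : S1 0 1 = 1 := by
    simp [fr, pl, h4 8, h4 10, h4 12, h4 16, h4 20, h4 24] at o01
    refine mul_left_cancel₀ nz ?_
    linear_combination o01 - S1 0 1 * key - (ω + ω ^ 6) * h2
  refine top_of_ratQ O hspan ?_ s
  unfold RMem
  convert hn1 using 1
  ext i j
  fin_cases i <;> fin_cases j <;>
    simp (config := { decide := true }) [ofRat, ratQ, qm_apply, cl, v0, v1, v2, hd1, w20, w12, w01, z02, z21, z10,
      CharTwo.add_self_eq_zero]

end Column

end CfsgLib.MaxSub.HeisSeven
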