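/-
The kernel in characteristic two consists of the identity and the involution.
-/
import Cfsg.Agent.Lib.MaxSub.HeisSeven.TwoKernel

set_option autoImplicit false
set_option linter.unusedSectionVars false
set_option maxHeartbeats 1600000
set_option maxRecDepth 4000

namespace CfsgLib.MaxSub.HeisSeven

open Matrix

variable {F : Type*} [Field F]

local notation "M7" => Matrix (Fin 7) (Fin 7) F
local notation "M3" => Matrix (Fin 3) (Fin 3) F
local notation "G7" => GL (Fin 7) F
local notation "𝐉" => (Jm : Matrix (Fin 7) (Fin 7) F)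
local notation "𝐘" => (Ym : Matrix (Fin 7) (Fin 7) F)
local notation "𝐌" => (Mm : Matrix (Fin 7) (Fin 7) F)

/-- The transpose inverse. -/
def tinv : GL (Fin 7) F →* GL (Fin 7) F where
  toFun g := ⟨((g⁻¹ : GL (Fin 7) F) : Matrix (Fin 7) (Fin 7) F).transpose,
    (g : Matrix (Fin 7) (Fin 7) F).transpose,
    by rw [← transpose_mul, Units.mul_inv, transpose_one], by rw [← transpose_mul, Units.inv_mul, transpose_one]⟩
  map_one' := Units.ext (by simp)
  map_mul' g h := Units.ext (by
    show ((g * h)⁻¹ : GL (Fin 7) F).1.transpose = ((g⁻¹ : GL (Fin 7) F).1.transpose * (h⁻¹ : GL (Fin 7) F).1.transpose)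
    rw [_root_.mul_inv_rev, Units.val_mul, transpose_mul])

theorem tinv_val (g : G7) : ((tinv g : G7) : M7) = ((g⁻¹ : G7) : M7).transpose := rfl

theorem tinv_of_orth {g : G7} (e : (g : M7).transpose * (g : M7) = 1) : tinv g = g := by
  refine Units.ext ?_
  rw [tinv_val]
  have : ((g⁻¹ : G7) : M7) = (g : M7).transpose := by
    calc ((g⁻¹ : G7) : M7) = ((g : M7).transpose * (g : M7)) * ((g⁻¹ : G7) : M7) := by rw [e, Matrix.one_mul]
      _ = _ := by rw [Matrix.mul_assoc, Units.mul_inv, Matrix.mul_one]
  rw [this, transpose_transpose]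

theorem tinv_of_symm {g : G7} (e : (g : M7).transpose = (g : M7)) : tinv g = g⁻¹ := by
  refine Units.ext ?_
  rw [tinv_val]
  have h := Units.inv_mul g
  have h' := congrArg Matrix.transpose (Units.mul_inv g)
  rw [transpose_mul, transpose_one, e] at h'
  calc ((g⁻¹ : G7) : M7).transpose = ((g⁻¹ : G7) : M7).transpose * ((g : M7) * ((g⁻¹ : G7) : M7)) := by
        rw [Units.mul_inv, Matrix.mul_one]
    _ = _ := by rw [← Matrix.mul_assoc, h', Matrix.one_mul]

variable {ω : F} {H : Subgroup (GL (Fin 7) F)}

theorem over_tinv (O : Over ω H) : Over ω (H.comap tinv) := by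
  have sx : ∀ {M : M7}, M.transpose = M → Mem H M → Mem (H.comap tinv) M := by
    rintro M e ⟨g, hg, rfl⟩
    refine ⟨g, ?_, rfl⟩
    rw [Subgroup.mem_comap, tinv_of_symm e]
    exact inv_mem hg
  have so : ∀ {M : M7}, M.transpose * M = 1 → Mem H M → Mem (H.comap tinv) M := by
    rintro M e ⟨g, hg, rfl⟩
    exact ⟨g, by rw [Subgroup.mem_comap, tinv_of_orth e]; exact hg, rfl⟩
  refine ⟨O.root, fun g hg => ?_, sx ?_ O.hX, so ?_ O.hY, sx ?_ O.hW, sx ?_ O.hF, so ?_ O.hM⟩
  · have h := O.det _ hg
    rw [tinv_val, det_transpose] at h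
    have e := congrArg Matrix.det (Units.mul_inv g)
    rwa [det_mul, h, mul_one, det_one] at e
  · rw [Xm, diagonal_transpose]
  · ext i j
    rw [mul_Ym, transpose_apply, one_apply]
    simp only [Ym, of_apply]
    simp
    split_ifs <;> simp_all
  · rw [Wm, diagonal_transpose]
  · rw [Fm_eq, transpose_smul]
    congr 1
    ext i j
    simp [mul_comm]
  · ext i j
    rw [mul_Mm, transpose_apply, one_apply]
    simp only [Mm, of_apply]
    have e : ∀ i j : Fin 7, 2 * j = 2 * i ↔ i = j := by decide
    simp [e]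

section Two

variable [CharP F 2]

theorem qm_transpose (u : Matrix (Fin 3) (Fin 1) F) (v : Matrix (Fin 1) (Fin 3) F) (S : M3) :
    (qm u v S).transpose = qm v.transpose u.transpose S.transpose := by
  simp only [qm, transpose_add, transpose_one, transpose_mul, transpose_transpose, ← Matrix.mul_assoc]
  abel

theorem mem_tinv_row {v : Matrix (Fin 1) (Fin 3) F} {S : M3} (hn : Mem H (qm 0 v S)) :
    Mem (H.comap tinv) (qm v.transpose 0 S.transpose) := by
  obtain ⟨n, hn, en⟩ := hn
  have hinv : (n : M7) * (n : M7) = 1 := by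
    rw [en, qm_sq, Matrix.zero_mul, qm_zero]
  refine ⟨tinv n, ?_, ?_⟩
  · rw [Subgroup.mem_comap]
    have : tinv (tinv n) = n := by
      refine Units.ext ?_
      rw [tinv_val, ← map_inv, tinv_val, transpose_transpose, inv_inv]
    rwa [this]
  · rw [tinv_val, show ((n⁻¹ : G7) : M7) = qm 0 v S from ?_, qm_transpose, transpose_zero]
    rw [← en]
    exact (Units.inv_eq_of_mul_eq_one_right hinv)

variable [Fintype F]

/-- The kernel is generated by the involution. -/
theorem kernel_two (O : Over ω H) (hm : Mono ω H) (hcard : Fintype.card F = 8) (hspan : Spans ω)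
    (hnt : ¬ ∀ s : Matrix.SpecialLinearGroup (Fin 7) F, Matrix.SpecialLinearGroup.toGL s ∈ H)
    {g : G7} (hg : g ∈ H) (hJ : 𝐉 * (g : M7) = (g : M7) * 𝐉) (ha : a2 (g : M7) = 1) : g = 1 ∨ g = Jg := by
  have h := O.root
  obtain ⟨u, v, S, en⟩ := exists_qm hJ ha (O.det g hg)
  have hn : Mem H (qm u v S) := ⟨g, hg, en⟩
  have hQ0 : ∀ S, Mem H (qm (0 : Matrix (Fin 3) (Fin 1) F) 0 S) → S = 0 ∨ S = 1 := fun S => square_block O hm
  -- no mixed coordinates
  have hprod : ∀ r c, u r 0 * v 0 c = 0 := by
    have h1 := mem_twist O hn 1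
    have hD : Mem H (qm 0 0 (u * twv ω 1 v + twu ω 1 u * v)) := by
      refine mem_of_comm hn h1 ?_
      rw [qm_mul, qm_mul, qm_mul]
      congr 1
      · rw [zero_add, add_comm]
      · rw [zero_add, add_comm]
      · rw [Matrix.zero_mul, add_zero]
        ext i j
        simp only [Matrix.add_apply]
        have h2 : (2 : F) = 0 := CharTwo.two_eq_zero
        linear_combination -((twu ω 1 u * v) i j) * h2
    have hD0 : u * twv ω 1 v + twu ω 1 u * v = 0 := by
      refine (hQ0 _ hD).resolve_right fun e => one_ne_zero (α := F) ?_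
      have := congrArg Matrix.det e
      rw [det_one, det_fin_three] at this
      simp only [Matrix.add_apply, Matrix.mul_apply, Fin.sum_univ_one] at this
      rw [← this]
      ring
    intro r c
    by_contra hne
    have e := congrFun (congrFun hD0 r) c
    simp only [Matrix.add_apply, Matrix.mul_apply, Fin.sum_univ_one, twu, twv, of_apply, mul_one, Matrix.zero_apply] at e
    have e' : (u r 0 * v 0 c) * (ω ^ (6 * wb c) + ω ^ wb r) = 0 := by linear_combination e
    have e'' := (mul_eq_zero.1 e').resolve_left hne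
    have e3 : ω ^ (6 * wb c) = ω ^ wb r := by rw [eq_neg_of_add_eq_zero_left e'', CharTwo.neg_eq]
    exact (by decide : ∀ r c : Fin 3, 6 * wb c % 7 ≠ wb r % 7) r c (h.pow_inj e3)
  have hu : u = 0 := by
    by_contra hu
    have hv : v = 0 := by
      obtain ⟨r, hr⟩ : ∃ r, u r 0 ≠ 0 := by
        by_contra hc
        push Not at hc
        exact hu (by ext r c; obtain rfl : c = 0 := Subsingleton.elim _ _; exact hc r)
      ext i c
      obtain rfl : i = 0 := Subsingleton.elim _ _
      exact (mul_eq_zero.1 (hprod r c)).resolve_left hr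
    exact hnt (top_of_column O hcard hspan hQ0 (hv ▸ hn) hu)
  have hv : v = 0 := by
    by_contra hv
    refine hnt fun s => ?_
    have hQ0' : ∀ S, Mem (H.comap tinv) (qm (0 : Matrix (Fin 3) (Fin 1) F) 0 S) → S = 0 ∨ S = 1 := by
      rintro S ⟨n, hn', en'⟩
      have hi : (n : M7) * (n : M7) = 1 := by rw [en', qm_sq, Matrix.zero_mul, qm_zero]
      have hS : Mem H (qm 0 0 S.transpose) := ⟨tinv n, hn', by
        rw [tinv_val, Units.inv_eq_of_mul_eq_one_right hi, en', qm_transpose, transpose_zero, transpose_zero]⟩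
      rcases hQ0 _ hS with e | e
      · exact Or.inl (by rw [← transpose_transpose S, e, transpose_zero])
      · exact Or.inr (by rw [← transpose_transpose S, e, transpose_one])
    have hv' : v.transpose ≠ 0 := fun e => hv (by rw [← transpose_transpose v, e, transpose_zero])
    let s' : Matrix.SpecialLinearGroup (Fin 7) F :=
      ⟨((tinv (Matrix.SpecialLinearGroup.toGL s) : G7) : M7), by
        rw [tinv_val, det_transpose, ← map_inv]
        exact (s⁻¹).2⟩
    have := top_of_column (over_tinv O) hcard hspan hQ0' (mem_tinv_row (hu ▸ hn)) hv' s'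
    rw [Subgroup.mem_comap, show Matrix.SpecialLinearGroup.toGL s' = tinv (Matrix.SpecialLinearGroup.toGL s) from
      Units.ext rfl] at this
    have e : tinv (tinv (Matrix.SpecialLinearGroup.toGL s)) = Matrix.SpecialLinearGroup.toGL s := by
      refine Units.ext ?_
      rw [tinv_val, ← map_inv, tinv_val, transpose_transpose, inv_inv]
    rwa [e] at this
  rw [hu, hv] at hn en
  rcases hQ0 S hn with e | e <;> rw [e] at en
  · exact Or.inl (Units.ext (by rw [en, qm_zero, Units.val_one]))
  · refine Or.inr (Units.ext ?_)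
    rw [en, Jg_val]
    ext i j
    fin_cases i <;> fin_cases j <;>
      simp (config := { decide := true }) [qm_apply, cl, Jm, one_apply, CharTwo.neg_eq, CharTwo.add_self_eq_zero]

end Two

end CfsgLib.MaxSub.HeisSeven
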