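/-
The group of three by three matrices over the field with two elements, by generators.
-/
import Mathlib

set_option autoImplicit false
set_option maxHeartbeats 1600000
set_option maxRecDepth 100000

namespace CfsgLib.MaxSub.HeisSeven

open Matrix

local notation "Z3" => Matrix (Fin 3) (Fin 3) (ZMod 2)

/-- The product of a word in two matrices. -/
def wordM (C R : Matrix (Fin 3) (Fin 3) (ZMod 2)) (w : List Bool) : Matrix (Fin 3) (Fin 3) (ZMod 2) :=
  (w.map fun b => if b then R else C).prod

/-- The matrix with given entries. -/
def nine (a b c d e f g h i : ZMod 2) : Matrix (Fin 3) (Fin 3) (ZMod 2) := !![a, b, c; d, e, f; g, h, i]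

theorem nine_eta (y : Z3) :
    nine (y 0 0) (y 0 1) (y 0 2) (y 1 0) (y 1 1) (y 1 2) (y 2 0) (y 2 1) (y 2 2) = y := by
  ext i j
  fin_cases i <;> fin_cases j <;> rfl

/-- Words conjugating the second generator to all involutions. -/
def involWords : List (List Bool) :=
  [[], [false], [false, false], [true, false], [false, false, false], [false, true, false], [true, false, false],
    [false, false, false, false], [false, false, true, false], [false, true, false, false],
    [true, false, false, false], [false, false, false, false, false], [false, false, false, true, false],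
    [false, false, true, false, false], [false, true, false, false, false],
    [false, false, false, false, false, false], [false, false, false, false, true, false],
    [false, false, false, true, false, false], [true, false, false, false, false, false],
    [true, false, false, true, false, false], [false, true, false, false, true, false, false]]

/-- Two matrices generating the whole group, the second an involution. -/
structure GenTwo (C R : Matrix (Fin 3) (Fin 3) (ZMod 2)) : Prop where
  invol : ∀ a b c d e f g h i : ZMod 2, nine a b c d e f g h i * nine a b c d e f g h i = 1 ∧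
    nine a b c d e f g h i ≠ 1 → involWords.any (fun w =>
      decide (nine a b c d e f g h i * wordM C R w = wordM C R w * R)) = true
  tv : ∀ i j : Fin 3, i ≠ j → ∃ w, Matrix.transvection i j (1 : ZMod 2) = wordM C R w

namespace GenTwo

variable {C R : Matrix (Fin 3) (Fin 3) (ZMod 2)} (D : GenTwo C R)
include D

theorem exists_conj {y : Z3} (hy : y * y = 1) (hy1 : y ≠ 1) : ∃ w, y * wordM C R w = wordM C R w * R := by
  have h := D.invol (y 0 0) (y 0 1) (y 0 2) (y 1 0) (y 1 1) (y 1 2) (y 2 0) (y 2 1) (y 2 2)
  rw [nine_eta] at h
  obtain ⟨w, -, hw⟩ := List.any_eq_true.1 (h ⟨hy, hy1⟩)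
  exact ⟨w, of_decide_eq_true hw⟩

theorem exists_word {y : Z3} (hy : y.det ≠ 0) : ∃ w, y = wordM C R w := by
  refine diagonal_transvection_induction_of_det_ne_zero (fun y => ∃ w, y = wordM C R w) y hy ?_ ?_ ?_
  · intro d hd
    refine ⟨[], ?_⟩
    have : ∀ x : ZMod 2, x ≠ 0 → x = 1 := by decide
    rw [det_diagonal, Finset.prod_ne_zero_iff] at hd
    simp [wordM, show d = fun _ => 1 from funext fun i => this _ (hd i (Finset.mem_univ i))]
  · rintro ⟨i, j, hij, c⟩
    have : ∀ x : ZMod 2, x = 0 ∨ x = 1 := by decide
    rcases this c with rfl | rfl
    · exact ⟨[], by simp [wordM, TransvectionStruct.toMatrix]⟩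
    · exact D.tv i j hij
  · rintro A B - - ⟨v, rfl⟩ ⟨w, rfl⟩
    exact ⟨v ++ w, by simp [wordM]⟩

end GenTwo

/-- The companion matrix of `x ^ 3 + x + 1`. -/
def compA : Matrix (Fin 3) (Fin 3) (ZMod 2) := !![0, 0, 1; 1, 0, 1; 0, 1, 0]

/-- The Fourier element beside the first companion matrix. -/
def fourA : Matrix (Fin 3) (Fin 3) (ZMod 2) := !![1, 0, 0; 0, 1, 0; 0, 1, 1]

/-- The companion matrix of `x ^ 3 + x ^ 2 + 1`. -/
def compB : Matrix (Fin 3) (Fin 3) (ZMod 2) := !![0, 0, 1; 1, 0, 0; 0, 1, 1]

/-- The Fourier element beside the second companion matrix. -/
def fourB : Matrix (Fin 3) (Fin 3) (ZMod 2) := !![1, 0, 1; 0, 1, 1; 0, 0, 1]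

theorem genTwo_A : GenTwo compA fourA where
  invol := by decide +kernel
  tv i j h := by
    fin_cases i <;> fin_cases j
    all_goals first
      | exact absurd rfl h
      | exact ⟨[false, true, false, true, false, false, false], by decide +kernel⟩
      | exact ⟨[false, true, false, true, false, true, false, false], by decide +kernel⟩
      | exact ⟨[false, false, true, false, true, false, true, false], by decide +kernel⟩
      | exact ⟨[false, false, true, false, true, false, false], by decide +kernel⟩
      | exact ⟨[false, false, false, true, false, true, false], by decide +kernel⟩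
      | exact ⟨[true], by decide +kernel⟩

theorem genTwo_B : GenTwo compB fourB where
  invol := by decide +kernel
  tv i j h := by
    fin_cases i <;> fin_cases j
    all_goals first
      | exact absurd rfl h
      | exact ⟨[false, false, true, false, false, false, false, false], by decide +kernel⟩
      | exact ⟨[false, false, false, true, false, true, false], by decide +kernel⟩
      | exact ⟨[false, false, false, false, true, false, true], by decide +kernel⟩
      | exact ⟨[false, false, false, true, false, true, false, true], by decide +kernel⟩
      | exact ⟨[true, false, false, true, false, false], by decide +kernel⟩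
      | exact ⟨[true, false, false, false, false, false, false, true, false, true], by decide +kernel⟩

end CfsgLib.MaxSub.HeisSeven
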