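/-
The central involution is isolated in characteristic two.
-/
import Cfsg.Agent.Lib.MaxSub.HeisSeven.TwoDual
import Cfsg.Agent.Lib.MaxSub.HeisSeven.TwoGroup
import Cfsg.Agent.Lib.MaxSub.SubfieldMaximalSL
import Cfsg.Agent.Lib.MaxSub.ElusiveSubfield

set_option autoImplicit false
set_option linter.unusedSectionVars false
set_option maxHeartbeats 1600000
set_option maxRecDepth 4000

namespace CfsgLib.MaxSub.HeisSeven

open Matrix

universe u

variable {F : Type u} [Field F] [CharP F 2]

local notation "M7" => Matrix (Fin 7) (Fin 7) F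
local notation "M3" => Matrix (Fin 3) (Fin 3) F
local notation "G7" => GL (Fin 7) F
local notation "G3" => GL (Fin 3) F
local notation "Z3" => Matrix (Fin 3) (Fin 3) (ZMod 2)
local notation "κ" => RingHom.mapMatrix (m := Fin 3) (ZMod.castHom (dvd_refl 2) F)

/-- The change to a basis in which the image is rational. -/
def ratBase (ω : F) : Matrix (Fin 3) (Fin 3) F := Matrix.vandermonde fun r => ω ^ wb r

theorem cast_injective : Function.Injective (ZMod.castHom (dvd_refl 2) F) := RingHom.injective _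

theorem kap_injective : Function.Injective (κ : Z3 → M3) := fun _ _ e => Matrix.map_injective cast_injective e

section Values

variable {ω : F}

theorem exists_data (h : Root ω) (hr : ω ^ 3 + ω + 1 = 0 ∨ ω ^ 3 + ω ^ 2 + 1 = 0) :
    ∃ C R : Z3, GenTwo C R ∧ diagonal (fun r => ω ^ wb r) * ratBase ω = ratBase ω * κ C ∧
      fr ω * ratBase ω = ratBase ω * κ R := by
  have h2 : (2 : F) = 0 := CharTwo.two_eq_zero
  rcases hr with e | e
  · refine ⟨compA, fourA, genTwo_A, ?_, ?_⟩
    · ext r c
      rw [diagonal_mul, Matrix.mul_apply, Fin.sum_univ_three]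
      fin_cases r <;> fin_cases c <;> simp [ratBase, compA, wb] <;> grind
    · ext r c
      rw [Matrix.mul_apply, Matrix.mul_apply, Fin.sum_univ_three, Fin.sum_univ_three]
      fin_cases r <;> fin_cases c <;> simp [ratBase, fourA, wb, fr, pl] <;> grind
  · refine ⟨compB, fourB, genTwo_B, ?_, ?_⟩
    · ext r c
      rw [diagonal_mul, Matrix.mul_apply, Fin.sum_univ_three]
      fin_cases r <;> fin_cases c <;> simp [ratBase, compB, wb] <;> grind
    · ext r c
      rw [Matrix.mul_apply, Matrix.mul_apply, Fin.sum_univ_three, Fin.sum_univ_three]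
      fin_cases r <;> fin_cases c <;> simp [ratBase, fourB, wb, fr, pl] <;> grind

theorem ratBase_det (h : Root ω) : (ratBase ω).det ≠ 0 :=
  Matrix.det_vandermonde_ne_zero_iff.2 fun a b e => (by decide : ∀ a b : Fin 3, wb a % 7 = wb b % 7 → a = b) a b
    (h.pow_inj e)

end Values

variable (H : Subgroup (GL (Fin 7) F))

/-- The action on the image of `J - 1` as a homomorphism. -/
def actTwo : ↥(cenJ H) →* Matrix (Fin 3) (Fin 3) F where
  toFun g := a2 ((g : GL (Fin 7) F) : Matrix (Fin 7) (Fin 7) F)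
  map_one' := a2_one
  map_mul' g h := a2_mul (cenJ_comm h)

variable {H}

variable [Fintype F] {ω : F}

/-- The central involution is isolated in characteristic two. -/
theorem isolated_two (O : Over ω H) (hm : Mono ω H) (hcard : Fintype.card F = 8) (hspan : Spans ω)
    (hnt : ¬ ∀ s : Matrix.SpecialLinearGroup (Fin 7) F, Matrix.SpecialLinearGroup.toGL s ∈ H) :
    ∀ g ∈ H, Jg * (g * Jg * g⁻¹) = g * Jg * g⁻¹ * Jg → g * Jg * g⁻¹ = Jg := by
  intro g hg hc
  by_contra hne
  classical
  have h := O.root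
  have h2 : (2 : F) = 0 := CharTwo.two_eq_zero
  obtain ⟨C, R, D, hC, hR⟩ := exists_data h (root_cubic O)
  set P : G3 := Matrix.GeneralLinearGroup.mkOfDetNeZero (ratBase ω) (ratBase_det h)
  have hP : (P : M3) = ratBase ω := rfl
  set π : ↥(cenJ H) →* G3 := (MulAut.conj P⁻¹).toMonoidHom.comp (actTwo H).toHomUnits with hπ
  have hval : ∀ a, ((π a : G3) : M3) = ((P⁻¹ : G3) : M3) * a2 ((a : G7) : M7) * (P : M3) := fun a => by
    simp [hπ, MulAut.conj_apply, actTwo]
  have hπF : ((π O.cF : G3) : M3) = κ R := by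
    rw [hval, O.cF_val, a2_Fm h, Matrix.mul_assoc, hP, hR, ← hP, ← Matrix.mul_assoc, Units.inv_mul, Matrix.one_mul]
  have hπW : ((π O.cW : G3) : M3) = κ C := by
    rw [hval, O.cW_val, ← pow_one (Wm ω), a2_Wm_pow h 1, Matrix.mul_assoc, hP]
    simp only [mul_one]
    rw [hC, ← hP, ← Matrix.mul_assoc, Units.inv_mul, Matrix.one_mul]
  have hJ1 : (Jg : G7) ≠ 1 := fun e => by
    have := congrArg (fun x : G7 => (x : M7) 1 6) e
    simp only [Jg_val, Units.val_one] at this
    simp [Jm, Matrix.one_apply, show (-6 : Fin 7) = 1 by decide] at this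
  have hker : ∀ a, π a = 1 → a = 1 ∨ a = O.Jc := by
    intro a ha
    have : (actTwo H).toHomUnits a = 1 := (MulAut.conj P⁻¹).injective (ha.trans (map_one _).symm)
    rcases kernel_two O hm hcard hspan hnt (mem_cenJ.1 a.2).1 (cenJ_comm a) (congrArg Units.val this) with e | e
    · exact Or.inl (Subtype.ext e)
    · exact Or.inr (Subtype.ext e)
  have hsq : ∀ a b, π a = π b → b * b = a * a := by
    intro a b e
    rcases hker (a⁻¹ * b) (by rw [map_mul, map_inv, e, inv_mul_cancel]) with r | r
    · rw [inv_mul_eq_one] at r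
      rw [r]
    · rw [inv_mul_eq_iff_eq_mul] at r
      rw [r, mul_assoc, ← mul_assoc O.Jc, (O.Jc_central a).eq, mul_assoc a O.Jc O.Jc, O.Jc_sq, mul_one]
  have hword : ∀ w, ∃ a, ((π a : G3) : M3) = κ (wordM C R w) := by
    intro w
    induction w with
    | nil => exact ⟨1, by rw [map_one]; simp [wordM]⟩
    | cons b w ih =>
      obtain ⟨a, ha⟩ := ih
      refine ⟨(if b then O.cF else O.cW) * a, ?_⟩
      rw [map_mul, Units.val_mul, ha, show wordM C R (b :: w) = (if b then R else C) * wordM C R w from rfl, map_mul]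
      congr 1
      cases b <;> simp [hπF, hπW]
  -- lifts of rational involutions square to the centre
  have hinv : ∀ (a : ↥(cenJ H)) (y : Z3), ((π a : G3) : M3) = κ y → y * y = 1 → y ≠ 1 → a * a = O.Jc := by
    intro a y ha hy hy1
    obtain ⟨w, hw⟩ := D.exists_conj hy hy1
    obtain ⟨k, hk⟩ := hword w
    have e : π (k * O.cF * k⁻¹) = π a := by
      rw [map_mul, map_mul, map_inv, mul_inv_eq_iff_eq_mul]
      refine Units.ext ?_
      rw [Units.val_mul, Units.val_mul, ha, hk, hπF, ← map_mul, ← map_mul, hw]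
    rw [hsq _ _ e, show k * O.cF * k⁻¹ * (k * O.cF * k⁻¹) = k * (O.cF * O.cF) * k⁻¹ by group, O.cF_sq,
      ← (O.Jc_central k).eq, mul_inv_cancel_right]
  -- the bad involution
  have hmem : g * Jg * g⁻¹ ∈ cenJ H := mem_cenJ.2 ⟨mul_mem (mul_mem hg O.Jg_mem) (inv_mem hg), by
    rw [← Jg_val, ← Units.val_mul, ← Units.val_mul, hc]⟩
  set t : ↥(cenJ H) := ⟨g * Jg * g⁻¹, hmem⟩
  have ht : t * t = 1 := Subtype.ext (by
    show g * Jg * g⁻¹ * (g * Jg * g⁻¹) = 1
    rw [show g * Jg * g⁻¹ * (g * Jg * g⁻¹) = g * (Jg * Jg) * g⁻¹ by group, Jg_mul_self, mul_one, mul_inv_cancel])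
  have hJc : O.Jc ≠ 1 := fun e => hJ1 (congrArg Subtype.val e)
  have hπt : π t ≠ 1 := fun e => by
    rcases hker t e with r | r
    · have e' : g * Jg * g⁻¹ = 1 := congrArg Subtype.val r
      rw [mul_inv_eq_one, mul_eq_left] at e'
      exact hJ1 e'
    · exact hne (congrArg Subtype.val r)
  -- maximality of the subfield subgroup
  set F₀ : Subfield F := (ZMod.castHom (dvd_refl 2) F).fieldRange
  have hF₀ : Fintype.card F = Nat.card F₀ ^ 3 := by
    rw [hcard, show Nat.card F₀ = Nat.card (Set.range (ZMod.castHom (dvd_refl 2) F)) from rfl,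
      Nat.card_range_of_injective cast_injective, Nat.card_zmod]
    norm_num
  have hmax := CfsgLib.MaxSub.SubfieldSL.sl_subfield_maximal (F₀ := F₀) (n := 3) le_rfl Nat.prime_three hF₀ (1 : G3)
  set SL := Cfsg.Geo.specialLinear (Fin 3) F
  have hSL : ∀ x : G3, x ∈ SL ↔ (x : M3).det = 1 := fun x => by
    rw [show x ∈ SL ↔ Matrix.GeneralLinearGroup.det x = 1 from MonoidHom.mem_ker, ← Units.val_inj]
    rfl
  have hrat : ∀ x : G3, x ∈ Cfsg.Geo.subfieldSubgroup F₀ 1 ⊓ SL → ∃ y : Z3, y.det ≠ 0 ∧ (x : M3) = κ y := by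
    intro x hx
    obtain ⟨c, y, hc0, hy, hxy⟩ := (CfsgLib.MaxSub.Elusive.mem_subfield_one_iff F₀ x).1 hx.1
    choose y₀ hy₀ using hy
    have hye : y = κ (Matrix.of y₀) := by
      ext i j
      exact (hy₀ i j).symm
    have hd := (hSL x).1 hx.2
    rw [hxy, hye, det_smul, ← RingHom.map_det, Fintype.card_fin] at hd
    have hd0 : (Matrix.of y₀).det ≠ 0 := fun e => by simp [e] at hd
    have hd1 : (Matrix.of y₀).det = 1 := (by decide : ∀ z : ZMod 2, z ≠ 0 → z = 1) _ hd0
    rw [hd1, map_one, mul_one] at hd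
    have h7 : c ^ 7 = 1 := by
      have := FiniteField.pow_card_sub_one_eq_one c hc0
      rwa [hcard] at this
    have hc1 : c = 1 := by
      calc c = c * (c ^ 3) ^ 2 := by rw [hd, one_pow, mul_one]
        _ = 1 := by rw [← h7]; ring
    exact ⟨Matrix.of y₀, hd0, by rw [hxy, hc1, one_smul, hye]⟩
  have hle : Cfsg.Geo.subfieldSubgroup F₀ (1 : G3) ⊓ SL ≤ π.range ⊓ SL := fun x hx => by
    refine ⟨?_, hx.2⟩
    obtain ⟨y, hy, hxy⟩ := hrat x hx
    obtain ⟨w, rfl⟩ := D.exists_word hy
    obtain ⟨a, ha⟩ := hword w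
    exact ⟨a, Units.ext (by rw [ha, hxy])⟩
  rcases hmax.2 _ hle inf_le_right with hM | hM
  · have hdet : π t ∈ SL := by
      rw [hSL]
      have e := congrArg Matrix.det (congrArg Units.val (congrArg π ht))
      rw [map_mul, map_one, Units.val_mul, det_mul, Units.val_one, det_one] at e
      have e1 : ((π t : G3) : M3).det + 1 = 0 := sq_eq_zero_iff.1 (by linear_combination e + (((π t : G3) : M3).det + 1) * h2)
      linear_combination e1 - h2
    obtain ⟨y, -, hty⟩ := hrat (π t) (hM ▸ ⟨⟨t, rfl⟩, hdet⟩)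
    have hy : y * y = 1 := kap_injective (by
      rw [RingHom.map_mul, RingHom.map_one, ← hty, ← Units.val_mul, ← map_mul, ht, map_one, Units.val_one])
    have hy1 : y ≠ 1 := fun e => hπt (Units.ext (by rw [hty, e, map_one, Units.val_one]))
    exact hJc (by rw [← hinv t y hty hy hy1, ht])
  · have hall : ∀ x : M3, x.det = 1 → ∃ a, ((π a : G3) : M3) = x := by
      intro x hx
      have hx' : Matrix.GeneralLinearGroup.mkOfDetNeZero x (by rw [hx]; exact one_ne_zero) ∈ π.range ⊓ SL := by
        rw [hM, hSL]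
        exact hx
      obtain ⟨a, ha⟩ := hx'.1
      exact ⟨a, by rw [ha]; rfl⟩
    have hroot : ∀ l : F, l ≠ 0 → ∀ a, ((π a : G3) : M3) = transvection 0 2 l → a * a = O.Jc := by
      intro l hl a ha
      have h8 : l ^ 8 = l := by
        have := FiniteField.pow_card l
        rwa [hcard] at this
      set e := l ^ 4 with he
      have he2 : e ^ 2 = l := by rw [he, ← pow_mul]; exact h8
      have he0 : e ≠ 0 := pow_ne_zero _ hl
      obtain ⟨d, hd⟩ := hall (diagonal ![e, 1, e⁻¹]) (by simp [det_diagonal, Fin.prod_univ_three, he0])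
      obtain ⟨b, hb⟩ := hall (transvection 0 2 1) (det_transvection_of_ne _ _ (by decide) _)
      have hb2 : b * b = O.Jc := by
        refine hinv b (transvection 0 2 1) ?_ (by decide) (by decide)
        rw [hb]
        ext i j
        fin_cases i <;> fin_cases j <;> simp [transvection, Matrix.single]
      have e1 : π (d * b * d⁻¹) = π a := by
        rw [map_mul, map_mul, map_inv, mul_inv_eq_iff_eq_mul]
        refine Units.ext ?_
        rw [Units.val_mul, Units.val_mul, ha, hd, hb]
        ext i j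
        fin_cases i <;> fin_cases j <;>
          simp [transvection, Matrix.single, Matrix.mul_apply, Fin.sum_univ_three] <;>
          (rw [← he2, pow_two, mul_assoc, mul_inv_cancel₀ he0, mul_one])
      rw [hsq _ _ e1, show d * b * d⁻¹ * (d * b * d⁻¹) = d * (b * b) * d⁻¹ by group, hb2,
        ← (O.Jc_central d).eq, mul_inv_cancel_right]
    obtain ⟨A, hA⟩ := hall (transvection 0 2 1) (det_transvection_of_ne _ _ (by decide) _)
    obtain ⟨B, hB⟩ := hall (transvection 0 2 ω) (det_transvection_of_ne _ _ (by decide) _)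
    obtain ⟨E, hE⟩ := hall (transvection 0 2 (ω ^ 2)) (det_transvection_of_ne _ _ (by decide) _)
    have htv : ∀ {x y : ↥(cenJ H)} {a b : F}, ((π x : G3) : M3) = transvection 0 2 a →
        ((π y : G3) : M3) = transvection 0 2 b → ((π (x * y) : G3) : M3) = transvection 0 2 (a + b) := by
      intro x y a b hx hy
      rw [map_mul, Units.val_mul, hx, hy, transvection_mul_transvection_same _ _ (by decide)]
    have anti : ∀ {x y : ↥(cenJ H)} {a b : F}, ((π x : G3) : M3) = transvection 0 2 a →
        ((π y : G3) : M3) = transvection 0 2 b → a ≠ 0 → b ≠ 0 → a + b ≠ 0 → x * y = y * x * O.Jc := by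
      intro x y a b hx hy ha hb hab
      have hxy := hroot _ hab _ (htv hx hy)
      have hx2 := hroot a ha x hx
      have hy2 := hroot b hb y hy
      have e1 : y * x * y = x := by
        refine mul_left_cancel (a := x) ?_
        calc x * (y * x * y) = x * y * (x * y) := by simp only [mul_assoc]
          _ = x * x := by rw [hxy, hx2]
      have e3 : y * x * O.Jc = x * y := by
        rw [← hy2, ← mul_assoc, e1]
      exact e3.symm
    have hω1 : ω ≠ 1 := h.ne_one
    have n1 : (1 : F) + ω ≠ 0 := fun e => hω1 (by linear_combination e - h2)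
    have n2 : (1 : F) + ω ^ 2 ≠ 0 := fun e => absurd (h.pow_eq_one (n := 2) (by linear_combination e - h2)) (by norm_num)
    have n3 : ω + ω ^ 2 ≠ 0 := fun e => by
      rw [show ω + ω ^ 2 = ω * (1 + ω) by ring] at e
      exact n1 ((mul_eq_zero.1 e).resolve_left h.ne_zero)
    have n4 : 1 + (ω + ω ^ 2) ≠ 0 := fun e => absurd (h.pow_eq_one (n := 3) (by linear_combination (ω - 1) * e))
      (by norm_num)
    have a1 := anti hA hB one_ne_zero h.ne_zero n1
    have a2' := anti hA hE one_ne_zero (pow_ne_zero _ h.ne_zero) n2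
    have a3 := anti hA (htv hB hE) one_ne_zero n3 n4
    refine hJc ?_
    have e4 : A * (B * E) = B * E * A := by
      calc A * (B * E) = B * A * O.Jc * E := by rw [← mul_assoc, a1]
        _ = B * (A * E) * O.Jc := by rw [mul_assoc (B * A), (O.Jc_central E).eq]; simp only [mul_assoc]
        _ = B * E * A * (O.Jc * O.Jc) := by rw [a2']; simp only [mul_assoc]
        _ = B * E * A := by rw [O.Jc_sq, mul_one]
    rw [a3] at e4
    exact mul_eq_left.1 e4

end CfsgLib.MaxSub.HeisSeven
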