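/-
Normalisers of groups of symplectic type of order 343 are maximal in SL(7, q), q minimal with seventh roots of unity.
-/
import Cfsg.Agent.Lib.MaxSub.HeisSeven.Std
import Cfsg.Agent.Lib.MaxSub.HeisSeven.Models
import Cfsg.Agent.Lib.MaxSub.HeisSeven.TwoIsolated

set_option autoImplicit false
set_option linter.unusedSectionVars false
set_option linter.style.haveILetI false
set_option maxHeartbeats 800000

namespace CfsgLib.MaxSub.HeisSeven

open Matrix

variable {F : Type*} [Field F] [Fintype F]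

/-- The field is the smallest one of its characteristic with seventh roots of unity. -/
def Good (F : Type*) [Field F] [Fintype F] (p : ℕ) : Prop :=
  (Fintype.card F = p ∧ p % 7 = 1) ∨ (Fintype.card F = p ^ 3 ∧ (p % 7 = 2 ∨ p % 7 = 4))

section Arith

variable {p : ℕ} [Fact p.Prime] [CharP F p] (hp : Good F p)
include hp

theorem good_mod : p % 7 = 1 ∨ p % 7 = 2 ∨ p % 7 = 4 := by
  rcases hp with ⟨-, h⟩ | ⟨-, h⟩
  · exact Or.inl h
  · exact Or.inr h

theorem good_seven_ne : (7 : F) ≠ 0 := by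
  intro e
  have h : ((7 : ℕ) : F) = 0 := by exact_mod_cast e
  have := (Nat.prime_dvd_prime_iff_eq Fact.out Nat.prime_seven).1 ((CharP.cast_eq_zero_iff F p 7).1 h)
  have := good_mod hp
  omega

theorem noSub_of_good : NoSub F := by
  have hpp : p.Prime := Fact.out
  intro Q m hQ hm e
  rcases hp with ⟨hc, -⟩ | ⟨hc, h7⟩ <;> rw [hc] at e
  · have h' := Nat.Prime.pow_eq_iff hpp |>.1 e
    omega
  · obtain ⟨j, -, rfl⟩ := (Nat.dvd_prime_pow hpp).1 (e ▸ dvd_pow_self Q (by omega) : Q ∣ p ^ 3)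
    rw [← pow_mul] at e
    have hj := Nat.pow_right_injective hpp.two_le e
    have hj1 : j = 1 := by
      rcases j with _ | _ | j
      · simp at hQ
      · rfl
      · nlinarith
    subst hj1
    rw [pow_one]
    intro hd
    have hd' := Nat.mod_eq_zero_of_dvd hd
    have h2 : (p ^ 2 - 1) % 7 = ((p % 7) ^ 2 - 1) % 7 := by
      have h1 : 1 ≤ p ^ 2 := Nat.one_le_pow _ _ hpp.pos
      have e2 : p ^ 2 % 7 = (p % 7) ^ 2 % 7 := Nat.pow_mod p 2 7
      rcases h7 with h | h <;> rw [h] at e2 ⊢ <;> norm_num at e2 ⊢ <;> omega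
    rw [Nat.mul_mod, h2] at hd'
    rcases h7 with h | h <;> rw [h] at hd' <;> norm_num at hd'

variable {ω : F} (h : Root ω)
include h

theorem spans_of_good : Spans ω := by
  classical
  have hpp : p.Prime := Fact.out
  intro A hA z
  set S := Subring.closure ({ω} : Set F)
  have hSA : ∀ x ∈ S, x ∈ A := by
    intro x hx
    suffices ∀ i : ℕ, x * ω ^ i ∈ A by simpa using this 0
    induction hx using Subring.closure_induction with
    | mem x hx =>
      obtain rfl : x = ω := hx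
      intro i
      rw [← pow_succ']
      exact hA _
    | zero => simp [A.zero_mem]
    | one => intro i; simpa using hA i
    | add a b _ _ ha hb => intro i; rw [add_mul]; exact A.add_mem (ha i) (hb i)
    | neg a _ ha => intro i; rw [neg_mul]; exact A.neg_mem (ha i)
    | mul a b ha' _ ha hb =>
      suffices ∀ c ∈ Subring.closure ({ω} : Set F), ∀ d, (∀ i : ℕ, d * ω ^ i ∈ A) → ∀ i : ℕ, c * d * ω ^ i ∈ A from
        this a ha' b hb
      intro c hc
      induction hc using Subring.closure_induction with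
      | mem x hx =>
        obtain rfl : x = ω := hx
        intro d hd i
        rw [show x * d * x ^ i = d * x ^ (i + 1) by ring]
        exact hd _
      | zero => simp [A.zero_mem]
      | one => simp
      | add a b _ _ ha hb => intro d hd i; rw [add_mul, add_mul]; exact A.add_mem (ha d hd i) (hb d hd i)
      | neg a _ ha => intro d hd i; rw [neg_mul, neg_mul]; exact A.neg_mem (ha d hd i)
      | mul a b _ _ ha hb =>
        intro d hd i
        rw [mul_assoc a]
        exact ha _ (hb d hd) i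
  refine hSA z ?_
  have hω : ω ∈ S := Subring.subset_closure rfl
  letI : Field S := Fintype.fieldOfDomain S
  have hu : (⟨ω, hω⟩ : S) ^ 7 = 1 := Subtype.ext h.pow_seven
  have hdvd : 7 ∣ Nat.card S - 1 := by
    rw [← Nat.card_units]
    let u : Sˣ := Units.ofPowEqOne _ 7 hu (by norm_num)
    have h7 : Fact (Nat.Prime 7) := ⟨Nat.prime_seven⟩
    rw [← orderOf_eq_prime (x := u) (p := 7) (Units.ext hu)
      (fun e => h.ne_one (congrArg (fun v : Sˣ => ((v : S) : F)) e))]
    exact orderOf_dvd_natCard u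
  have hcd : Nat.card S ∣ Fintype.card F := by
    rw [← Nat.card_eq_fintype_card]
    exact AddSubgroup.card_addSubgroup_dvd_card S.toAddSubgroup
  have hS1 : 1 < Nat.card S := Finite.one_lt_card
  have htop : Nat.card S = Fintype.card F := by
    rcases hp with ⟨hc, -⟩ | ⟨hc, h7⟩
    · rw [hc] at hcd ⊢
      exact ((Nat.dvd_prime hpp).1 hcd).resolve_left (by omega)
    · rw [hc] at hcd ⊢
      obtain ⟨k, hk, hk'⟩ := (Nat.dvd_prime_pow hpp).1 hcd
      rw [hk'] at hdvd hS1 ⊢
      have e2 : p ^ 2 % 7 = (p % 7) ^ 2 % 7 := Nat.pow_mod p 2 7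
      interval_cases k <;> first
        | rfl
        | (exfalso; simp at hS1; done)
        | (exfalso; try simp only [pow_one] at hdvd
           rcases h7 with h | h <;> rw [h] at e2 <;> norm_num at e2 <;> omega)
  have hT : S.toAddSubgroup = ⊤ :=
    AddSubgroup.eq_top_of_card_eq _ (htop.trans Nat.card_eq_fintype_card.symm)
  exact (AddSubgroup.eq_top_iff' S.toAddSubgroup).1 hT z

theorem nat_of_good {a b c : ℕ} (hperm : ∀ t : Fin 7, (t : ℕ) = 1 ∨ (t : ℕ) = 2 ∨ (t : ℕ) = 4 →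
    (a * (t : ℕ)) % 7 + 10 * ((b * (t : ℕ)) % 7) + 100 * ((c * (t : ℕ)) % 7) ∈
      [a + 10 * b + 100 * c, b + 10 * c + 100 * a, c + 10 * a + 100 * b])
    (ha : a < 7) (hb : b < 7) (hc : c < 7) : ∃ n : ℕ, (n : F) = ω ^ a + ω ^ b + ω ^ c := by
  have hfix : (ω ^ a + ω ^ b + ω ^ c) ^ p = ω ^ a + ω ^ b + ω ^ c := by
    have key := hperm ⟨p % 7, Nat.mod_lt _ (by norm_num)⟩ (good_mod hp)
    rw [add_pow_char, add_pow_char, ← pow_mul, ← pow_mul, ← pow_mul, h.pow_mod (a * p), h.pow_mod (b * p),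
      h.pow_mod (c * p), Nat.mul_mod a, Nat.mul_mod b, Nat.mul_mod c, Nat.mod_eq_of_lt ha, Nat.mod_eq_of_lt hb,
      Nat.mod_eq_of_lt hc]
    simp only [List.mem_cons, List.not_mem_nil, or_false] at key
    have := Nat.mod_lt (a * (p % 7)) (by norm_num : 7 > 0)
    have := Nat.mod_lt (b * (p % 7)) (by norm_num : 7 > 0)
    have := Nat.mod_lt (c * (p % 7)) (by norm_num : 7 > 0)
    rcases key with e | e | e
    · rw [show a * (p % 7) % 7 = a by omega, show b * (p % 7) % 7 = b by omega, show c * (p % 7) % 7 = c by omega]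
    · rw [show a * (p % 7) % 7 = b by omega, show b * (p % 7) % 7 = c by omega, show c * (p % 7) % 7 = a by omega]
      ring
    · rw [show a * (p % 7) % 7 = c by omega, show b * (p % 7) % 7 = a by omega, show c * (p % 7) % 7 = b by omega]
      ring
  have hmem := (Subfield.mem_bot_iff_pow_eq_self (F := F) (p := p)).2 hfix
  rw [← ZMod.fieldRange_castHom_eq_bot p, RingHom.mem_fieldRange] at hmem
  obtain ⟨n, hn⟩ := hmem
  exact ⟨n.val, by rw [← hn, ZMod.castHom_apply, ZMod.natCast_val]⟩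

/-- The central involution is isolated in a group not containing the special linear group. -/
theorem isolated_of_good {H : Subgroup (GL (Fin 7) F)} (O : Over ω H)
    (hnt : ¬ ∀ s : Matrix.SpecialLinearGroup (Fin 7) F, Matrix.SpecialLinearGroup.toGL s ∈ H) :
    ∀ g ∈ H, Jg * (g * Jg * g⁻¹) = g * Jg * g⁻¹ * Jg → g * Jg * g⁻¹ = Jg := by
  have hspan := spans_of_good hp h
  obtain ⟨n, hn⟩ := nat_of_good hp h (a := 1) (b := 2) (c := 4) (by decide) (by norm_num) (by norm_num) (by norm_num)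
  obtain ⟨n', hn'⟩ := nat_of_good hp h (a := 3) (b := 6) (c := 5) (by decide) (by norm_num) (by norm_num) (by norm_num)
  have hm : Mono ω H := fun g hg eW eJ k => monomial_of_not_top (p := p) O (noSub_of_good hp) hspan
    ⟨n, by rw [hn, pow_one]⟩ ⟨n', by rw [hn']; ring⟩ hnt hg eW eJ k
  by_cases h2 : (2 : F) = 0
  · have hp2 : p = 2 := by
      have : ((2 : ℕ) : F) = 0 := by exact_mod_cast h2
      exact (Nat.prime_dvd_prime_iff_eq Fact.out Nat.prime_two).1 ((CharP.cast_eq_zero_iff F p 2).1 this)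
    subst hp2
    have hcard : Fintype.card F = 8 := by
      rcases hp with ⟨-, h7⟩ | ⟨hc, -⟩
      · norm_num at h7
      · rw [hc]; norm_num
    exact isolated_two O hm hcard hspan hnt
  · exact isolated O h2 hm

end Arith

/-- Elements of the standard group commute with the diagonal generator up to a scalar. -/
theorem std_comm_X {ω : F} (h : Root ω) {x y : GL (Fin 7) F} (ex : (x : Matrix (Fin 7) (Fin 7) F) = Xm ω)
    (ey : (y : Matrix (Fin 7) (Fin 7) F) = Ym) {r : GL (Fin 7) F} (hr : r ∈ Subgroup.closure ({x, y} : Set _)) :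
    ∃ c : F, c ≠ 0 ∧ Xm ω * (r : Matrix (Fin 7) (Fin 7) F) = c • ((r : Matrix (Fin 7) (Fin 7) F) * Xm ω) := by
  induction hr using Subgroup.closure_induction with
  | mem r hr =>
    rcases hr with rfl | rfl
    · exact ⟨1, one_ne_zero, by rw [one_smul, ex]⟩
    · exact ⟨ω, h.ne_zero, by rw [ey]; exact Xm_Ym h⟩
  | one => exact ⟨1, one_ne_zero, by simp⟩
  | mul a b _ _ ha hb =>
    obtain ⟨c, hc, ea⟩ := ha
    obtain ⟨d, hd, eb⟩ := hb
    refine ⟨c * d, mul_ne_zero hc hd, ?_⟩
    rw [Units.val_mul, ← Matrix.mul_assoc, ea, Matrix.smul_mul, Matrix.mul_assoc, eb, Matrix.mul_smul, smul_smul,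
      Matrix.mul_assoc]
  | inv a _ ha =>
    obtain ⟨c, hc, ea⟩ := ha
    refine ⟨c⁻¹, inv_ne_zero hc, ?_⟩
    set ai : Matrix (Fin 7) (Fin 7) F := ((a⁻¹ : GL (Fin 7) F) : Matrix (Fin 7) (Fin 7) F)
    calc Xm ω * ai = c⁻¹ • (ai * (c • ((a : Matrix (Fin 7) (Fin 7) F) * Xm ω)) * ai) := by
          rw [Matrix.mul_smul, Matrix.smul_mul, smul_smul, inv_mul_cancel₀ hc, one_smul, ← Matrix.mul_assoc ai,
            Units.inv_mul, Matrix.one_mul]
      _ = c⁻¹ • (ai * Xm ω) := by
          rw [← ea, Matrix.mul_assoc, Matrix.mul_assoc, Units.mul_inv, Matrix.mul_one]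

/-- The standard normaliser is maximal. -/
theorem std_maximal {p : ℕ} [Fact p.Prime] [CharP F p] (hp : Good F p) {ω : F} (h : Root ω)
    {x y : GL (Fin 7) F} (ex : (x : Matrix (Fin 7) (Fin 7) F) = Xm ω) (ey : (y : Matrix (Fin 7) (Fin 7) F) = Ym) :
    Cfsg.Geo.IsMaximalIn (Cfsg.Geo.specialLinear (Fin 7) F)
      (Cfsg.Geo.subgroupNormalizer (Subgroup.closure {x, y}) ⊓ Cfsg.Geo.specialLinear (Fin 7) F) := by
  classical
  set R := Subgroup.closure ({x, y} : Set (GL (Fin 7) F)) with hR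
  have hxR : x ∈ R := Subgroup.subset_closure (Set.mem_insert _ _)
  have hyR : y ∈ R := Subgroup.subset_closure (Set.mem_insert_of_mem _ rfl)
  have hdet : ∀ g : GL (Fin 7) F,
      (g : Matrix (Fin 7) (Fin 7) F).det = 1 ↔ g ∈ Cfsg.Geo.specialLinear (Fin 7) F := fun g => by
    rw [Cfsg.Geo.specialLinear, MonoidHom.mem_ker, ← Matrix.GeneralLinearGroup.val_det_apply, Units.val_eq_one]
  have hnorm : ∀ g : GL (Fin 7) F, g * x * g⁻¹ ∈ R → g * y * g⁻¹ ∈ R → g ∈ Cfsg.Geo.subgroupNormalizer R := by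
    intro g hgx hgy
    have hle : R.map (MulAut.conj g).toMonoidHom ≤ R := by
      rw [Subgroup.map_le_iff_le_comap, hR, Subgroup.closure_le]
      rintro _ (rfl | rfl)
      · exact hgx
      · exact hgy
    have heq : R.map (MulAut.conj g).toMonoidHom = R := Subgroup.eq_of_le_of_card_ge hle
      (by rw [Subgroup.card_map_of_injective (MulAut.conj g).injective])
    show g ∈ Subgroup.normalizer (R : Set (GL (Fin 7) F))
    rw [Subgroup.mem_normalizer_iff]
    refine fun r => ⟨fun hr => heq ▸ ⟨r, hr, rfl⟩, fun hr => ?_⟩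
    rw [← heq] at hr
    obtain ⟨s, hs, hse⟩ := hr
    have : s = r := (MulAut.conj g).injective hse
    exact this ▸ hs
  have dx : (x : Matrix (Fin 7) (Fin 7) F).det = 1 := by rw [ex]; exact det_Xm h
  have dy : (y : Matrix (Fin 7) (Fin 7) F).det = 1 := by rw [ey]; exact det_Ym
  have hRN : ∀ r ∈ R, r ∈ Cfsg.Geo.subgroupNormalizer R := fun r hr =>
    hnorm r (mul_mem (mul_mem hr hxR) (inv_mem hr)) (mul_mem (mul_mem hr hyR) (inv_mem hr))
  have hxN : x ∈ Cfsg.Geo.subgroupNormalizer R ⊓ Cfsg.Geo.specialLinear (Fin 7) F := ⟨hRN x hxR, (hdet x).1 dx⟩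
  have hyN : y ∈ Cfsg.Geo.subgroupNormalizer R ⊓ Cfsg.Geo.specialLinear (Fin 7) F := ⟨hRN y hyR, (hdet y).1 dy⟩
  set z : GL (Fin 7) F := x * y * x⁻¹ * y⁻¹ with hz
  have hzR : z ∈ R := mul_mem (mul_mem (mul_mem hxR hyR) (inv_mem hxR)) (inv_mem hyR)
  have ez : (z : Matrix (Fin 7) (Fin 7) F) = ω • 1 := by
    rw [hz, Units.val_mul, Units.val_mul, Units.val_mul, ex, ey, Xm_Ym h, ← ex, ← ey, Matrix.smul_mul, Matrix.smul_mul,
      Matrix.mul_assoc (y : Matrix (Fin 7) (Fin 7) F), Units.mul_inv, Matrix.mul_one, Units.mul_inv]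
  obtain ⟨w, ew⟩ : ∃ w : GL (Fin 7) F, (w : Matrix (Fin 7) (Fin 7) F) = Wm ω :=
    ⟨((Matrix.isUnit_iff_isUnit_det _).2 (by rw [det_Wm h]; exact isUnit_one)).unit, IsUnit.unit_spec _⟩
  obtain ⟨f, ef⟩ : ∃ f : GL (Fin 7) F, (f : Matrix (Fin 7) (Fin 7) F) = Fm ω :=
    ⟨((Matrix.isUnit_iff_isUnit_det _).2 (by rw [det_Fm h]; exact isUnit_one)).unit, IsUnit.unit_spec _⟩
  have hwN : w ∈ Cfsg.Geo.subgroupNormalizer R ⊓ Cfsg.Geo.specialLinear (Fin 7) F := by
    refine ⟨hnorm w ?_ ?_, (hdet w).1 (by rw [ew]; exact det_Wm h)⟩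
    · have e : w * x * w⁻¹ = x := by
        rw [mul_inv_eq_iff_eq_mul]
        exact Units.ext (by rw [Units.val_mul, Units.val_mul, ew, ex, Wm_Xm h])
      rw [e]; exact hxR
    · have e : w * y * w⁻¹ = z * (y * x * x) := by
        rw [mul_inv_eq_iff_eq_mul]
        refine Units.ext ?_
        simp only [Units.val_mul, ez, ew, ex, ey, Matrix.smul_mul, Matrix.one_mul]
        exact Wm_Ym h
      rw [e]; exact mul_mem hzR (mul_mem (mul_mem hyR hxR) hxR)
  have hfN : f ∈ Cfsg.Geo.subgroupNormalizer R ⊓ Cfsg.Geo.specialLinear (Fin 7) F := by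
    refine ⟨hnorm f ?_ ?_, (hdet f).1 (by rw [ef]; exact det_Fm h)⟩
    · have e : f * x * f⁻¹ = y⁻¹ := by
        rw [mul_inv_eq_iff_eq_mul, eq_inv_mul_iff_mul_eq, ← mul_assoc]
        exact Units.ext (by rw [Units.val_mul, Units.val_mul, ef, ex, ey, Fm_Ym h])
      rw [e]; exact inv_mem hyR
    · have e : f * y * f⁻¹ = x := by
        rw [mul_inv_eq_iff_eq_mul]
        exact Units.ext (by rw [Units.val_mul, Units.val_mul, ef, ex, ey, Fm_Xm h])
      rw [e]; exact hxR
  obtain ⟨m, em⟩ : ∃ m : GL (Fin 7) F, (m : Matrix (Fin 7) (Fin 7) F) = Mm :=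
    ⟨((Matrix.isUnit_iff_isUnit_det _).2 (by rw [det_Mm]; exact isUnit_one)).unit, IsUnit.unit_spec _⟩
  have hmN : m ∈ Cfsg.Geo.subgroupNormalizer R ⊓ Cfsg.Geo.specialLinear (Fin 7) F := by
    refine ⟨hnorm m ?_ ?_, (hdet m).1 (by rw [em]; exact det_Mm)⟩
    · have e : m * x * m⁻¹ = x ^ 4 := by
        rw [mul_inv_eq_iff_eq_mul]
        exact Units.ext (by rw [Units.val_mul, Units.val_mul, Units.val_pow_eq_pow_val, em, ex, Mm_Xm h])
      rw [e]; exact pow_mem hxR 4
    · have e : m * y * m⁻¹ = y * y := by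
        rw [mul_inv_eq_iff_eq_mul]
        exact Units.ext (by rw [Units.val_mul, Units.val_mul, Units.val_mul, em, ey, Mm_Ym])
      rw [e]; exact mul_mem hyR hyR
  refine ⟨lt_of_le_of_ne inf_le_right fun e => ?_, fun M hM hMS => ?_⟩
  · -- a transvection does not normalise
    have h01 : (0 : Fin 7) ≠ 1 := by decide
    let T : GL (Fin 7) F := ⟨Matrix.transvection 0 1 1, Matrix.transvection 0 1 (-1),
      by rw [Matrix.transvection_mul_transvection_same _ _ h01, add_neg_cancel, Matrix.transvection_zero],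
      by rw [Matrix.transvection_mul_transvection_same _ _ h01, neg_add_cancel, Matrix.transvection_zero]⟩
    have hT : T ∈ Cfsg.Geo.subgroupNormalizer R := (inf_le_left : _ ≤ Cfsg.Geo.subgroupNormalizer R) (by
      rw [e]; exact (hdet T).1 (Matrix.det_transvection_of_ne _ _ h01 _))
    obtain ⟨c, -, hc⟩ := std_comm_X h ex ey ((Subgroup.mem_normalizer_iff.1 hT x).1 hxR)
    rw [Units.val_mul, Units.val_mul, ex] at hc
    have e00 := congrFun (congrFun hc 0) 0
    have e01 := congrFun (congrFun hc 0) 1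
    rw [show ((T : GL (Fin 7) F) : Matrix (Fin 7) (Fin 7) F) = Matrix.transvection 0 1 1 from rfl,
      show ((T⁻¹ : GL (Fin 7) F) : Matrix (Fin 7) (Fin 7) F) = Matrix.transvection 0 1 (-1) from rfl] at e00 e01
    simp [Xm, Matrix.transvection, Matrix.mul_apply, Fin.sum_univ_seven, Matrix.diagonal, Matrix.one_apply,
      Matrix.single] at e00 e01
    have hk : (ω - 1) * (ω - 1) = 0 := by
      rw [← e00] at e01
      first | linear_combination e01 | linear_combination -e01
    exact h.ne_one (sub_eq_zero.1 (mul_self_eq_zero.1 hk))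
  · by_cases hfull : ∀ s : Matrix.SpecialLinearGroup (Fin 7) F, Matrix.SpecialLinearGroup.toGL s ∈ M
    · right
      refine le_antisymm hMS fun m hm => ?_
      have := hfull ⟨(m : Matrix (Fin 7) (Fin 7) F), (hdet m).2 hm⟩
      rwa [show Matrix.SpecialLinearGroup.toGL ⟨(m : Matrix (Fin 7) (Fin 7) F), (hdet m).2 hm⟩ = m from
        Units.ext rfl] at this
    · left
      have O : Over ω M := ⟨h, fun g hg => (hdet g).2 (hMS hg), ⟨x, hM hxN, ex⟩, ⟨y, hM hyN, ey⟩, ⟨w, hM hwN, ew⟩,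
        ⟨f, hM hfN, ef⟩, ⟨m, hM hmN, em⟩⟩
      have hnor := normalises_of_isolated O (isolated_of_good hp h O hfull) ex ey
      exact le_antisymm (fun g hg => ⟨hnorm g (hnor g hg x hxR) (hnor g hg y hyR), hMS hg⟩) hM

/-- Item (5): normalisers of symplectic-type groups are maximal. -/
theorem sl_symplectic_seven_maximal (hp : ∃ p : ℕ, p.Prime ∧ CharP F p ∧
    ((Fintype.card F = p ∧ p % 7 = 1) ∨ (Fintype.card F = p ^ 3 ∧ (p % 7 = 2 ∨ p % 7 = 4))))
    (R : Subgroup (GL (Fin 7) F)) (hR : Cfsg.Geo.IsLinearSymplecticTypeData 7 R) :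
    Cfsg.Geo.IsMaximalIn (Cfsg.Geo.specialLinear (Fin 7) F)
      (Cfsg.Geo.subgroupNormalizer R ⊓ Cfsg.Geo.specialLinear (Fin 7) F) := by
  classical
  obtain ⟨p, hpp, hchar, hgood⟩ := hp
  haveI : Fact p.Prime := ⟨hpp⟩
  haveI := hchar
  have h7 : (7 : F) ≠ 0 := good_seven_ne (p := p) hgood
  obtain ⟨g, ω, x, y, h, ex, ey, rfl⟩ := exists_std h7 hR
  obtain ⟨hlt, hmax⟩ := std_maximal (p := p) hgood h ex ey
  set R0 := Subgroup.closure ({x, y} : Set (GL (Fin 7) F))
  set S := Cfsg.Geo.specialLinear (Fin 7) F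
  set N0 := Cfsg.Geo.subgroupNormalizer R0 ⊓ S
  set φ : GL (Fin 7) F ≃* GL (Fin 7) F := MulAut.conj g
  haveI : S.Normal := MonoidHom.normal_ker _
  have hS : S.map φ.toMonoidHom = S := by
    ext s
    rw [Subgroup.mem_map_equiv]
    constructor
    · intro hs
      have := (inferInstance : S.Normal).conj_mem _ hs g
      rwa [show g * φ.symm s * g⁻¹ = s from φ.apply_symm_apply s] at this
    · intro hs
      have := (inferInstance : S.Normal).conj_mem _ hs g⁻¹
      rwa [show g⁻¹ * s * g⁻¹⁻¹ = φ.symm s by rw [inv_inv]; rfl] at this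
  have hN : Cfsg.Geo.subgroupNormalizer (R0.map φ.toMonoidHom) ⊓ S = N0.map φ.toMonoidHom := by
    rw [Subgroup.map_inf _ _ _ φ.injective, hS, Cfsg.Geo.subgroupNormalizer, Cfsg.Geo.subgroupNormalizer,
      Subgroup.map_equiv_normalizer_eq R0 φ]
  rw [hN]
  have hinj := Subgroup.map_injective (f := φ.toMonoidHom) φ.injective
  refine ⟨lt_of_le_of_ne (hS ▸ Subgroup.map_mono hlt.le) fun e => hlt.ne (hinj (e.trans hS.symm)), fun M hM hMS => ?_⟩
  have hsur : (M.comap φ.toMonoidHom).map φ.toMonoidHom = M :=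
    Subgroup.map_comap_eq_self_of_surjective φ.surjective M
  rcases hmax (M.comap φ.toMonoidHom) (Subgroup.map_le_iff_le_comap.1 hM)
    (fun m hm => by
      obtain ⟨s, hs, hse⟩ := (hS.symm ▸ hMS hm : φ m ∈ S.map φ.toMonoidHom)
      exact φ.injective hse ▸ hs) with e | e
  · left; rw [← hsur, e]
  · right; rw [← hsur, e, hS]

end CfsgLib.MaxSub.HeisSeven
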